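import Cfsg.Agent.Lib.ThreePrime.End.Bad
import Cfsg.Agent.Lib.ThreeFree.Lines

/-!
# The case of `A` normal in `M`: no bad involution
-/

set_option autoImplicit false
set_option linter.style.haveILetI false
set_option linter.unusedSectionVars false

namespace Cfsg.Agent.ThreePrime

open Subgroup
open scoped commutatorElement

universe u

variable {G : Type u} [Group G]

theorem smul_mk_eq_iff (M : Subgroup G) (t g : G) :
    t • (g : G ⧸ M) = (g : G ⧸ M) ↔ g⁻¹ * t * g ∈ M := by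
  rw [MulAction.Quotient.smul_mk, smul_eq_mul, eq_comm, QuotientGroup.eq, mul_assoc]

/-- The conjugate of `A` at a point. -/
noncomputable def ptA (A M : Subgroup G) (p : G ⧸ M) : Subgroup G :=
  A.map (MulAut.conj p.out).toMonoidHom

/-- The group generated by two conjugates of `A`. -/
def twoA (A : Subgroup G) (c : G) : Subgroup G := A ⊔ A.map (MulAut.conj c).toMonoidHom

variable [Finite G] {S : Sylow 2 G} {A M : Subgroup G}

namespace Ctx

variable (C : Ctx S A M) (hc : oddIn M ≤ centralizer (A : Set G))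

include C hc

theorem normalizer_eq_M : normalizer (A : Set G) = M := by
  refine le_antisymm C.hN fun x hx => ?_
  obtain ⟨c, hcθ, n, hn, rfl⟩ := C.hdec x hx
  exact mul_mem (C.hA.centralizer_le_normalizer (hc hcθ)) hn

/-- All bad involutions centralise `A`. -/
theorem bad_cent {t : G} (ht : BadAt M t) : t ∈ centralizer (A : Set G) := by
  obtain ⟨d, hd, hdt⟩ := C.exists_conj_cent ht
  have := mul_mem (mul_mem (inv_mem (hc hd)) hdt) (hc hd)
  simpa [mul_assoc] using this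

theorem ptA_mk (g : G) : ptA A M (g : G ⧸ M) = A.map (MulAut.conj g).toMonoidHom := by
  obtain ⟨⟨m, hm⟩, hgm⟩ := QuotientGroup.mk_out_eq_mul M g
  have hmA : m ∈ normalizer (A : Set G) := (C.normalizer_eq_M hc).symm ▸ hm
  rw [ptA, hgm]
  ext x
  constructor
  · rintro ⟨a, ha, rfl⟩
    exact ⟨m * a * m⁻¹, (mem_normalizer_iff.1 hmA a).1 ha, by
      show g * (m * a * m⁻¹) * g⁻¹ = g * m * a * (g * m)⁻¹; group⟩
  · rintro ⟨a, ha, rfl⟩
    exact ⟨m⁻¹ * a * m, (mem_normalizer_iff''.1 hmA a).1 ha, by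
      show g * m * (m⁻¹ * a * m) * (g * m)⁻¹ = g * a * g⁻¹; group⟩

theorem twoA_map {g c : G} : (twoA A c).map (MulAut.conj g).toMonoidHom =
    ptA A M (g : G ⧸ M) ⊔ ptA A M ((g * c : G) : G ⧸ M) := by
  rw [twoA, Subgroup.map_sup, C.ptA_mk hc, C.ptA_mk hc, map_map]
  congr 2
  refine MonoidHom.ext fun y => ?_
  show g * (c * y * c⁻¹) * g⁻¹ = g * c * y * (g * c)⁻¹
  group

section base

variable {t : G} (ht : BadAt M t) (W : Line M (centralizer ({t} : Set G)) A)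

include ht W

theorem twoA_le {c : G} (hcY : c ∈ centralizer ({t} : Set G)) :
    twoA A c ≤ centralizer ({t} : Set G) := by
  refine sup_le W.le ?_
  rintro _ ⟨a, ha, rfl⟩
  exact mul_mem (mul_mem hcY (W.le ha)) (inv_mem hcY)

/-- Two conjugates of `A` on the line cover the component. -/
theorem exists_lift {c : G} (hcY : c ∈ centralizer ({t} : Set G)) (hcM : c ∉ M)
    {y : ↥(centralizer ({t} : Set G))} (hy : bar _ y ∈ W.L) :
    ∃ d : ↥(centralizer ({t} : Set G)), (d : G) ∈ twoA A c ∧ bar _ d = bar _ y := by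
  set Db := ((twoA A c).subgroupOf (centralizer ({t} : Set G))).map (bar (centralizer ({t} : Set G))) with hDb
  suffices h : W.L ≤ Db by
    obtain ⟨d, hd, he⟩ := h hy
    exact ⟨d, hd, he⟩
  obtain ⟨l, n, hl, hn, hcl⟩ := W.cover ⟨c, hcY⟩
  have hc' : c = (l : G) * n := congrArg Subtype.val hcl
  have hlM : (l : G) ∉ M := fun h => hcM (hc' ▸ mul_mem h hn)
  have hnA : (n : G) ∈ normalizer (A : Set G) := (C.normalizer_eq_M hc).symm ▸ hn
  set s := W.Φ.π ⟨_, hl⟩ with hs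
  have hsB : s ∉ Suzuki.borel W.Φ.F W.Φ.m := fun h => hlM ((W.mem_M l hl).2 h)
  set K := (Db.subgroupOf W.L).map W.Φ.π with hK
  have hKtop : K = ⊤ := by
    rw [eq_top_iff, ← zGroup_gen W.Φ.hS hsB]
    refine sup_le (fun z hz => ?_) ?_
    · obtain ⟨a, ha, h, hπ⟩ := W.root_surj z hz
      exact ⟨⟨_, h⟩, ⟨⟨a, W.le ha⟩, mem_sup_left ha, rfl⟩, hπ⟩
    · rintro _ ⟨z, hz, rfl⟩
      obtain ⟨a, ha, h, hπ⟩ := W.root_surj z hz
      have hmem : bar (centralizer ({t} : Set G)) (l * ⟨a, W.le ha⟩ * l⁻¹) ∈ W.L := by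
        rw [map_mul, map_mul, map_inv]; exact mul_mem (mul_mem hl h) (inv_mem hl)
      refine ⟨⟨_, hmem⟩, ⟨l * ⟨a, W.le ha⟩ * l⁻¹, mem_sup_right ?_, rfl⟩, ?_⟩
      · refine ⟨(n : G)⁻¹ * a * n, (mem_normalizer_iff''.1 hnA a).1 ha, ?_⟩
        show c * ((n : G)⁻¹ * a * n) * c⁻¹ = (l : G) * a * (l : G)⁻¹
        rw [hc']; group
      · rw [show (⟨_, hmem⟩ : W.L) = ⟨_, hl⟩ * ⟨_, h⟩ * (⟨_, hl⟩ : W.L)⁻¹ from
          Subtype.ext (by show bar (centralizer ({t} : Set G)) _ = _; rw [map_mul, map_mul, map_inv]; rfl), map_mul, map_mul,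
          map_inv, hπ]
        rfl
  rw [← W.Φ.perf, commutator_le]
  intro x hx x' hx'
  have hdec : ∀ x ∈ W.L, ∃ d ∈ Db, ∃ z : W.L, z ∈ center ↥W.L ∧ x = d * z := by
    intro x hx
    obtain ⟨d, hd, he⟩ : W.Φ.π ⟨x, hx⟩ ∈ K := hKtop ▸ mem_top _
    refine ⟨d, hd, d⁻¹ * ⟨x, hx⟩, ?_, ?_⟩
    · rw [← W.Φ.ker, MonoidHom.mem_ker, map_mul, map_inv, he, inv_mul_cancel]
    · exact (mul_inv_cancel_left _ _).symm
  obtain ⟨d, hd, z, hz, rfl⟩ := hdec x hx
  obtain ⟨d', hd', z', hz', rfl⟩ := hdec x' hx'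
  have hzc : ∀ w ∈ W.L, Commute (z : ↥(centralizer ({t} : Set G)) ⧸ Cfsg.pPrimeCore 2 ↥(centralizer ({t} : Set G))) w := fun w hw =>
    (congrArg Subtype.val (mem_center_iff.1 hz ⟨w, hw⟩) :).symm
  have hz'c : ∀ w ∈ W.L, Commute (z' : ↥(centralizer ({t} : Set G)) ⧸ Cfsg.pPrimeCore 2 ↥(centralizer ({t} : Set G))) w := fun w hw =>
    (congrArg Subtype.val (mem_center_iff.1 hz' ⟨w, hw⟩) :).symm
  have hdL : d ∈ W.L := by simpa using mul_mem hx (inv_mem z.2)
  have hd'L : d' ∈ W.L := by simpa using mul_mem hx' (inv_mem z'.2)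
  have e : ⁅d * (z : ↥(centralizer ({t} : Set G)) ⧸ Cfsg.pPrimeCore 2 ↥(centralizer ({t} : Set G))), d' * (z' : ↥(centralizer ({t} : Set G)) ⧸ Cfsg.pPrimeCore 2 ↥(centralizer ({t} : Set G)))⁆ = ⁅d, d'⁆ := by
    simp only [commutatorElement_def, mul_inv_rev]
    rw [show d * (z : ↥(centralizer ({t} : Set G)) ⧸ Cfsg.pPrimeCore 2 ↥(centralizer ({t} : Set G))) * (d' * z') * ((z : ↥(centralizer ({t} : Set G)) ⧸ Cfsg.pPrimeCore 2 ↥(centralizer ({t} : Set G)))⁻¹ * d⁻¹) *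
      ((z' : ↥(centralizer ({t} : Set G)) ⧸ Cfsg.pPrimeCore 2 ↥(centralizer ({t} : Set G)))⁻¹ * d'⁻¹) =
      d * ((z : ↥(centralizer ({t} : Set G)) ⧸ Cfsg.pPrimeCore 2 ↥(centralizer ({t} : Set G))) * (d' * z') * (z : ↥(centralizer ({t} : Set G)) ⧸ Cfsg.pPrimeCore 2 ↥(centralizer ({t} : Set G)))⁻¹) * d⁻¹ *
        (z' : ↥(centralizer ({t} : Set G)) ⧸ Cfsg.pPrimeCore 2 ↥(centralizer ({t} : Set G)))⁻¹ * d'⁻¹ by group,
      (hzc _ (mul_mem hd'L z'.2)).eq, mul_inv_cancel_right,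
      show d * (d' * (z' : ↥(centralizer ({t} : Set G)) ⧸ Cfsg.pPrimeCore 2 ↥(centralizer ({t} : Set G)))) * d⁻¹ * (z' : ↥(centralizer ({t} : Set G)) ⧸ Cfsg.pPrimeCore 2 ↥(centralizer ({t} : Set G)))⁻¹ =
        d * d' * ((z' : ↥(centralizer ({t} : Set G)) ⧸ Cfsg.pPrimeCore 2 ↥(centralizer ({t} : Set G))) * d⁻¹ * (z' : ↥(centralizer ({t} : Set G)) ⧸ Cfsg.pPrimeCore 2 ↥(centralizer ({t} : Set G)))⁻¹) by group,
      (hz'c _ (inv_mem hdL)).eq, mul_inv_cancel_right]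
  rw [e]
  exact mul_mem (mul_mem (mul_mem hd hd') (inv_mem hd)) (inv_mem hd')

theorem eq_of_bar {a b : G} (ha : a ∈ A) (hb : b ∈ A)
    (h : bar _ ⟨a, W.le ha⟩ = bar (centralizer ({t} : Set G)) ⟨b, W.le hb⟩) : a = b := by
  refine mul_inv_eq_one.1 ((C.hA.scIn W.le).bar_injective (mul_mem ha (inv_mem hb)) ?_)
  rw [show (⟨a * b⁻¹, (C.hA.scIn W.le).le (mul_mem ha (inv_mem hb))⟩ :
    ↥(centralizer ({t} : Set G))) = ⟨a, W.le ha⟩ * (⟨b, W.le hb⟩ : ↥(centralizer ({t} : Set G)))⁻¹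
    from rfl, map_mul, map_inv, h, mul_inv_cancel]

theorem gen_base {c c' : G} (hcY : c ∈ centralizer ({t} : Set G)) (hcM : c ∉ M)
    (hc'Y : c' ∈ centralizer ({t} : Set G)) : ∃ d ∈ twoA A c, d⁻¹ * c' ∈ M := by
  obtain ⟨l, n, hl, hn, he⟩ := W.cover ⟨c', hc'Y⟩
  obtain ⟨d, hd, hbd⟩ := C.exists_lift hc ht W hcY hcM hl
  refine ⟨d, hd, ?_⟩
  have he' : c' = (l : G) * n := congrArg Subtype.val he
  have h : ((d⁻¹ * l : ↥(centralizer ({t} : Set G))) : G) ∈ M :=
    W.mem_M_of_bar_eq (y := 1) (by rw [map_mul, map_inv, hbd, inv_mul_cancel, map_one]) (one_mem M)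
  rw [Subgroup.coe_mul, Subgroup.coe_inv] at h
  rw [he', ← mul_assoc]
  exact mul_mem h hn

theorem torus_base {c a b : G} (hcY : c ∈ centralizer ({t} : Set G)) (hcM : c ∉ M) (ha : a ∈ A)
    (ha1 : a ≠ 1) (hb : b ∈ A) (hb1 : b ≠ 1) :
    ∃ d ∈ twoA A c, d ∈ M ∧ d * a * d⁻¹ = b := by
  obtain ⟨n, hn, hnL, -, hnM, hna⟩ := W.exists_torus_conj ha ha1 hb hb1
  obtain ⟨d, hd, hbd⟩ := C.exists_lift hc ht W hcY hcM hnL
  have hdM : (d : G) ∈ M := W.mem_M_of_bar_eq hbd hnM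
  have hdA : (d : G) ∈ normalizer (A : Set G) := (C.normalizer_eq_M hc).symm ▸ hdM
  refine ⟨d, hd, hdM, C.eq_of_bar hc ht W ((mem_normalizer_iff.1 hdA a).1 ha) hb ?_⟩
  have e : bar _ (d * ⟨a, W.le ha⟩ * d⁻¹) =
      bar _ ((⟨n, hn⟩ : ↥(centralizer ({t} : Set G))) * ⟨a, W.le ha⟩ * ⟨n, hn⟩⁻¹) := by
    simp only [map_mul, map_inv, hbd]
  refine e.trans ?_
  congr 1
  exact Subtype.ext hna

theorem root_base {c a s s' : G} (hcY : c ∈ centralizer ({t} : Set G)) (hcM : c ∉ M) (ha : a ∈ A)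
    (hsY : s ∈ centralizer ({t} : Set G)) (hsM : s ∉ M) (hs'Y : s' ∈ centralizer ({t} : Set G))
    (hs'M : s' ∉ M) : ∃ d ∈ twoA A c, d ∈ M ∧ Commute d a ∧ (d * s)⁻¹ * s' ∈ M := by
  obtain ⟨l, n, hl, hn, he⟩ := W.cover ⟨s, hsY⟩
  obtain ⟨l', n', hl', hn', he'⟩ := W.cover ⟨s', hs'Y⟩
  have es : s = (l : G) * n := congrArg Subtype.val he
  have es' : s' = (l' : G) * n' := congrArg Subtype.val he'
  have hlB : W.Φ.π ⟨_, hl⟩ ∉ Suzuki.borel W.Φ.F W.Φ.m := fun h =>
    hsM (es ▸ mul_mem ((W.mem_M l hl).2 h) hn)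
  have hl'B : W.Φ.π ⟨_, hl'⟩ ∉ Suzuki.borel W.Φ.F W.Φ.m := fun h =>
    hs'M (es' ▸ mul_mem ((W.mem_M l' hl').2 h) hn')
  obtain ⟨r, hr, hrs⟩ := exists_root_smul W.Φ.hS hlB hl'B
  obtain ⟨⟨y, hy⟩, hπ⟩ := W.Φ.surj r
  obtain ⟨y', rfl⟩ := QuotientGroup.mk'_surjective _ y
  obtain ⟨d, hd, hbd⟩ := C.exists_lift hc ht W hcY hcM hy
  have hdL : bar _ d ∈ W.L := hbd ▸ hy
  have hπd : W.Φ.π ⟨_, hdL⟩ = r := by
    rw [← hπ]; exact congrArg W.Φ.π (Subtype.ext hbd)
  have hdM : (d : G) ∈ M :=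
    (W.mem_M d hdL).2 (hπd ▸ Suzuki.rootGroup_le_borel W.Φ.hS hr)
  have hdA : (d : G) ∈ normalizer (A : Set G) := (C.normalizer_eq_M hc).symm ▸ hdM
  refine ⟨d, hd, hdM, ?_, ?_⟩
  · obtain ⟨ha', hza⟩ := W.root a ha
    have hda := (mem_normalizer_iff.1 hdA a).1 ha
    have h1 : (d : G) * a * (d : G)⁻¹ = a := by
      refine C.eq_of_bar hc ht W hda ha ?_
      have h2 : bar _ (d * ⟨a, W.le ha⟩ * d⁻¹) ∈ W.L := by
        rw [map_mul, map_mul, map_inv]; exact mul_mem (mul_mem hdL ha') (inv_mem hdL)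
      have h3 : (⟨_, h2⟩ : W.L) = ⟨_, hdL⟩ * ⟨_, ha'⟩ * (⟨_, hdL⟩ : W.L)⁻¹ :=
        Subtype.ext (by show bar _ _ = _; rw [map_mul, map_mul, map_inv]; rfl)
      -- the difference maps to one
      have hmem : (d : G) * a * (d : G)⁻¹ * a⁻¹ ∈ A := mul_mem hda (inv_mem ha)
      have h4 : (⟨(d : G) * a * (d : G)⁻¹ * a⁻¹, W.le hmem⟩ : ↥(centralizer ({t} : Set G))) =
          d * ⟨a, W.le ha⟩ * d⁻¹ * (⟨a, W.le ha⟩ : ↥(centralizer ({t} : Set G)))⁻¹ := rfl
      have h5 : bar _ (⟨(d : G) * a * (d : G)⁻¹ * a⁻¹, W.le hmem⟩ :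
          ↥(centralizer ({t} : Set G))) ∈ W.L := by
        rw [h4, map_mul, map_inv]; exact mul_mem h2 (inv_mem ha')
      have h6 := W.root_inj _ hmem h5 (by
        rw [show (⟨_, h5⟩ : W.L) = ⟨_, h2⟩ * (⟨_, ha'⟩ : W.L)⁻¹ from
          Subtype.ext (by show bar _ _ = _; rw [h4, map_mul, map_inv]; rfl), map_mul, map_inv, h3,
          map_mul, map_mul, map_inv, hπd, zGroup_central W.Φ.hS hza hr]
        group)
      congr 1
      exact Subtype.ext (mul_inv_eq_one.1 h6)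
    exact mul_inv_eq_iff_eq_mul.1 h1
  · have hm : bar _ ((d * l)⁻¹ * l') ∈ W.L := by
      rw [map_mul, map_inv, map_mul]; exact mul_mem (inv_mem (mul_mem hdL hl)) hl'
    have h1 : ((((d * l)⁻¹ * l') : ↥(centralizer ({t} : Set G))) : G) ∈ M := by
      refine (W.mem_M _ hm).2 ?_
      rw [show (⟨_, hm⟩ : W.L) = (⟨_, hdL⟩ * ⟨_, hl⟩ : W.L)⁻¹ * ⟨_, hl'⟩ from
        Subtype.ext (by show bar _ _ = _; rw [map_mul, map_inv, map_mul]; rfl), map_mul, map_inv,
        map_mul, hπd]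
      exact hrs
    rw [Subgroup.coe_mul, Subgroup.coe_inv, Subgroup.coe_mul] at h1
    rw [es, es', show ((d : G) * ((l : G) * n))⁻¹ * ((l' : G) * n') =
      (n : G)⁻¹ * (((d : G) * l)⁻¹ * l') * n' by group]
    exact mul_mem (mul_mem (inv_mem hn) h1) hn'

theorem inner_base {v : G} (hv : BadAt M v) (hvt : Commute v t) :
    ∃ b ∈ A, ∀ c ∈ centralizer ({t} : Set G), c⁻¹ * (v * b) * c ∈ M := by
  have hvA := C.bad_cent hc hv
  have hvY : v ∈ centralizer ({t} : Set G) := mem_centralizer_singleton_iff.2 hvt.eq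
  obtain ⟨b, hb, hact⟩ := W.exists_act_root (v := ⟨v, hvY⟩) (Subtype.ext hv.1)
    fun b hb => Subtype.ext (show v * b = b * v from (mem_centralizer_iff.1 hvA b hb).symm)
  refine ⟨b, hb, fun c hcY => ?_⟩
  have hvb : (((⟨v, hvY⟩ : ↥(centralizer ({t} : Set G))) * ⟨b, W.le hb⟩ :
      ↥(centralizer ({t} : Set G))) : G) ∈ M := by
    rw [Subgroup.coe_mul]; exact mul_mem hv.2.2.1 (C.A_le hb)
  have h0 := W.conj_mem hvb hact ⟨c, hcY⟩
  rw [Subgroup.coe_mul] at h0
  exact h0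

theorem card_fix_base :
    {p : G ⧸ M | t • p = p}.ncard = Nat.card A ^ 2 + 1 := by
  classical
  set Y := centralizer ({t} : Set G) with hY
  set Lt := W.L.comap (bar Y) with hLt
  set K := (M.subgroupOf Y).subgroupOf Lt with hK
  let φ : Lt →* W.L := ((bar Y).comp Lt.subtype).codRestrict W.L fun l => l.2
  have hφ : Function.Surjective φ := by
    rintro ⟨x, hx⟩
    obtain ⟨y, rfl⟩ := QuotientGroup.mk'_surjective _ x
    exact ⟨⟨y, hx⟩, rfl⟩
  have hKeq : K = (Suzuki.borel W.Φ.F W.Φ.m).comap (W.Φ.π.comp φ) := by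
    ext l
    exact W.mem_M (l : ↥Y) l.2
  have hidx : K.index = Nat.card A ^ 2 + 1 := by
    rw [hKeq, index_comap_of_surjective _ (show Function.Surjective (W.Φ.π.comp φ) from W.Φ.surj.comp hφ), W.borel_index]
  rw [← hidx, index, ← Nat.card_coe_set_eq]
  let f : Lt → {p : G ⧸ M | t • p = p} := fun l => ⟨((l : ↥Y) : G), by
    show t • (((l : ↥Y) : G) : G ⧸ M) = _
    rw [smul_mk_eq_iff, mul_assoc, ← mem_centralizer_singleton_iff.1 (l : ↥Y).2, inv_mul_cancel_left]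
    exact ht.2.2.1⟩
  have hf : ∀ l l' : Lt, f l = f l' ↔ l⁻¹ * l' ∈ K := fun l l' => by
    rw [Subtype.ext_iff]
    exact QuotientGroup.eq
  let F : Lt ⧸ K → {p : G ⧸ M | t • p = p} := Quotient.lift f fun x y h =>
    (hf x y).2 (QuotientGroup.leftRel_apply.1 h)
  refine (Nat.card_eq_of_bijective F ⟨fun x y => ?_, fun p => ?_⟩).symm
  · induction x using Quotient.inductionOn with
    | _ x => induction y using Quotient.inductionOn with
      | _ y => exact fun h => Quotient.sound (QuotientGroup.leftRel_apply.2 ((hf x y).1 h))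
  · obtain ⟨p, hp⟩ := p
    induction p using QuotientGroup.induction_on with
    | _ g =>
      obtain ⟨c, hcY, hgc⟩ := C.exists_cent_move ht.1
        (C.hA.centralizer_le_normalizer (C.bad_cent hc ht)) ((smul_mk_eq_iff M t g).1 hp)
      obtain ⟨l, n, hl, hn, he⟩ := W.cover ⟨c, hcY⟩
      refine ⟨QuotientGroup.mk ⟨l, hl⟩, Subtype.ext ?_⟩
      show (((l : ↥Y) : G) : G ⧸ M) = (g : G ⧸ M)
      rw [eq_comm, QuotientGroup.eq]
      have e : c = (l : G) * n := congrArg Subtype.val he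
      have := mul_mem (e ▸ hgc) (inv_mem hn)
      simpa [mul_assoc] using this

end base

theorem exists_config {k : ℕ} (hk : Nat.card A = 2 ^ k) :
    Nonempty (Lib.ThreeFree.Lines.Config G (G ⧸ M) k) := by
  classical
  have hNA := C.normalizer_eq_M hc
  have hfix0 : ∀ {a : G}, a ∈ A → a ≠ 1 → ∀ g x : G,
      (g * a * g⁻¹) • (x : G ⧸ M) = (x : G ⧸ M) ↔ (x : G ⧸ M) = (g : G ⧸ M) := by
    intro a ha ha1 g x
    rw [smul_mk_eq_iff, show x⁻¹ * (g * a * g⁻¹) * x = (g⁻¹ * x)⁻¹ * a * (g⁻¹ * x) by group,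
      ← smul_mk_eq_iff, C.fix_one ha ha1, eq_comm, QuotientGroup.eq]
  -- a bad involution seen from one of its points
  have hbase : ∀ (t : G), Lib.ThreeFree.Lines.Bad (G ⧸ M) t → ∀ g : G, t • (g : G ⧸ M) = (g : G ⧸ M) →
      BadAt M (g⁻¹ * t * g) ∧ Nonempty (Line M (centralizer ({g⁻¹ * t * g} : Set G)) A) ∧
        ∀ x : G, t • (x : G ⧸ M) = (x : G ⧸ M) →
          ∃ c ∈ centralizer ({g⁻¹ * t * g} : Set G), ((g * c : G) : G ⧸ M) = (x : G ⧸ M) := by
    rintro t ⟨h2, h1, p, p', hne, hp, hp'⟩ g hg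
    have ht0M := (smul_mk_eq_iff M t g).1 hg
    obtain ⟨x, hxg, hx⟩ : ∃ x : G, (x : G ⧸ M) ≠ (g : G ⧸ M) ∧ t • (x : G ⧸ M) = (x : G ⧸ M) := by
      induction p using QuotientGroup.induction_on with
      | _ x => induction p' using QuotientGroup.induction_on with
        | _ x' =>
          by_cases h : (x : G ⧸ M) = (g : G ⧸ M)
          · exact ⟨x', fun h' => hne (h.trans h'.symm), hp'⟩
          · exact ⟨x, h, hp⟩
    have hb : BadAt M (g⁻¹ * t * g) := by
      refine ⟨by rw [show g⁻¹ * t * g * (g⁻¹ * t * g) = g⁻¹ * (t * t) * g by group, h2]; group,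
        fun h => h1 ?_, ht0M, g⁻¹ * x, fun h => hxg (QuotientGroup.eq.2 h).symm, ?_⟩
      · calc t = g * (g⁻¹ * t * g) * g⁻¹ := by group
          _ = 1 := by rw [h]; group
      · rw [show (g⁻¹ * x)⁻¹ * (g⁻¹ * t * g) * (g⁻¹ * x) = x⁻¹ * t * x by group]
        exact (smul_mk_eq_iff M t x).1 hx
    refine ⟨hb, C.exists_line_top (C.hG.centralizer_ne_top hb.2.1) ?_ (C.cent_not_le hb),
      fun x hx => ?_⟩
    · exact fun a ha => mem_centralizer_singleton_iff.2 (mem_centralizer_iff.1 (C.bad_cent hc hb) a ha)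
    · obtain ⟨c, hc', hxc⟩ := C.exists_cent_move (g := g⁻¹ * x) hb.1
        (C.hA.centralizer_le_normalizer (C.bad_cent hc hb)) (by
          rw [show (g⁻¹ * x)⁻¹ * (g⁻¹ * t * g) * (g⁻¹ * x) = x⁻¹ * t * x by group]
          exact (smul_mk_eq_iff M t x).1 hx)
      refine ⟨c, hc', ?_⟩
      rw [eq_comm, QuotientGroup.eq]
      simpa [mul_assoc] using hxc
  -- conjugation of the base subgroup into the line
  have hL : ∀ (t : G) (g c : G), (g : G ⧸ M) ∈ Lib.ThreeFree.Lines.fix (G ⧸ M) t →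
      ((g * c : G) : G ⧸ M) ∈ Lib.ThreeFree.Lines.fix (G ⧸ M) t → ∀ d ∈ twoA A c,
      g * d * g⁻¹ ∈ Lib.ThreeFree.Lines.L (ptA A M) t := by
    intro t g c h1 h2 d hd
    have h : g * d * g⁻¹ ∈ (twoA A c).map (MulAut.conj g).toMonoidHom := ⟨d, hd, rfl⟩
    rw [C.twoA_map hc] at h
    exact (sup_le (le_iSup₂_of_le _ h1 le_rfl) (le_iSup₂_of_le _ h2 le_rfl) :
      ptA A M (g : G ⧸ M) ⊔ ptA A M ((g * c : G) : G ⧸ M) ≤ Lib.ThreeFree.Lines.L (ptA A M) t) h
  have hsecond : ∀ (t : G), Lib.ThreeFree.Lines.Bad (G ⧸ M) t → ∀ g : G,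
      t • (g : G ⧸ M) = (g : G ⧸ M) → ∃ c ∈ centralizer ({g⁻¹ * t * g} : Set G),
        c ∉ M ∧ ((g * c : G) : G ⧸ M) ∈ Lib.ThreeFree.Lines.fix (G ⧸ M) t := by
    intro t ht g hg
    obtain ⟨hb, -, htr⟩ := hbase t ht g hg
    obtain ⟨-, -, p, p', hne, hp, hp'⟩ := ht
    induction p using QuotientGroup.induction_on with
    | _ x => induction p' using QuotientGroup.induction_on with
      | _ x' =>
        obtain ⟨c, hc', hx⟩ := htr x hp
        obtain ⟨c', hc'', hx'⟩ := htr x' hp'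
        by_cases hM : c ∈ M
        · refine ⟨c', hc'', fun h => hne ?_, hx' ▸ hp'⟩
          rw [← hx, ← hx', QuotientGroup.eq]
          simpa [mul_assoc] using mul_mem (inv_mem hM) h
        · exact ⟨c, hc', hM, hx ▸ hp⟩
  refine ⟨{
    A := ptA A M
    trans := fun p p' => MulAction.exists_smul_eq G p p'
    moves := fun t _ ht1 => ?_
    A_card := fun p => by rw [ptA, card_map_of_injective (MulAut.conj p.out).injective, hk]
    A_inv := ?_
    A_conj := ?_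
    A_fix := ?_
    A_cent := ?_
    fix_card := ?_
    gen := ?_
    torus := ?_
    root_trans := ?_
    inner := ?_ }⟩
  · by_contra hcon
    push Not at hcon
    have ht : t ∈ M.normalCore := fun b => by
      have h := (smul_mk_eq_iff M t b⁻¹).1 (hcon _)
      rwa [inv_inv] at h
    have h := C.hG.ne_bot_top (normalCore_normal M) fun e => ht1 (by rwa [e, mem_bot] at ht)
    exact C.hM (eq_top_iff.2 (h.ge.trans (normalCore_le M)))
  · intro p a ha
    induction p using QuotientGroup.induction_on with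
    | _ g =>
      rw [C.ptA_mk hc] at ha
      obtain ⟨a, ha, rfl⟩ := ha
      rw [← map_mul, C.hA.sq ha, map_one]
  · intro g p a ha
    induction p using QuotientGroup.induction_on with
    | _ x =>
      rw [C.ptA_mk hc] at ha
      rw [MulAction.Quotient.smul_mk, smul_eq_mul, C.ptA_mk hc]
      obtain ⟨a, ha, rfl⟩ := ha
      exact ⟨a, ha, by show g * x * a * (g * x)⁻¹ = g * (x * a * x⁻¹) * g⁻¹; group⟩
  · intro p a ha ha1 x
    induction p using QuotientGroup.induction_on with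
    | _ g =>
      induction x using QuotientGroup.induction_on with
      | _ x =>
        rw [C.ptA_mk hc] at ha
        obtain ⟨a, ha, rfl⟩ := ha
        exact hfix0 ha (fun e => ha1 (by rw [e, map_one])) g x
  · intro v p hv hp a ha
    induction p using QuotientGroup.induction_on with
    | _ g =>
      rw [C.ptA_mk hc] at ha
      obtain ⟨a, ha, rfl⟩ := ha
      have h := mem_centralizer_iff.1 (C.bad_cent hc (hbase v hv g hp).1) a ha
      show v * (g * a * g⁻¹) = g * a * g⁻¹ * v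
      calc v * (g * a * g⁻¹) = g * ((g⁻¹ * v * g) * a) * g⁻¹ := by group
        _ = g * (a * (g⁻¹ * v * g)) * g⁻¹ := by rw [h]
        _ = g * a * g⁻¹ * v := by group
  · intro t ht
    obtain ⟨-, -, p, -, -, hp, -⟩ := id ht
    induction p using QuotientGroup.induction_on with
    | _ g =>
      obtain ⟨hb, ⟨W⟩, -⟩ := hbase t ht g hp
      rw [← hk, ← C.card_fix_base hc hb W,
        ← Set.ncard_image_of_injective {p : G ⧸ M | (g⁻¹ * t * g) • p = p} (MulAction.injective g)]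
      congr 1
      ext p
      simp only [Set.mem_image, Set.mem_ofPred_eq, Lib.ThreeFree.Lines.fix]
      refine ⟨fun h => ⟨g⁻¹ • p, by rw [mul_smul, mul_smul, smul_inv_smul, h], smul_inv_smul g p⟩, ?_⟩
      rintro ⟨q, hq, rfl⟩
      rwa [mul_smul, mul_smul, inv_smul_eq_iff] at hq
  · intro t ht p p' r hp hp' hne hr
    induction p using QuotientGroup.induction_on with
    | _ g => induction p' using QuotientGroup.induction_on with
      | _ x => induction r using QuotientGroup.induction_on with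
        | _ y =>
          obtain ⟨hb, ⟨W⟩, htr⟩ := hbase t ht g hp
          obtain ⟨c, hcY, hxc⟩ := htr x hp'
          obtain ⟨c', hc'Y, hyc⟩ := htr y hr
          have hcM : c ∉ M := fun h => hne (by
            rw [← hxc, QuotientGroup.eq]; simpa using h)
          obtain ⟨d, hd, hdc⟩ := C.gen_base hc hb W hcY hcM hc'Y
          refine ⟨g * d * g⁻¹, ?_, ?_⟩
          · rw [← hxc, ← C.twoA_map hc]
            exact ⟨d, hd, rfl⟩
          · rw [MulAction.Quotient.smul_mk, smul_eq_mul, ← hyc, QuotientGroup.eq]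
            simpa [mul_assoc] using hdc
  · intro t ht r hr a ha ha1 b hb hb1
    induction r using QuotientGroup.induction_on with
    | _ g =>
      obtain ⟨hb', ⟨W⟩, -⟩ := hbase t ht g hr
      obtain ⟨c, hcY, hcM, hcf⟩ := hsecond t ht g hr
      rw [C.ptA_mk hc] at ha hb
      obtain ⟨a, ha, rfl⟩ := ha
      obtain ⟨b, hb, rfl⟩ := hb
      obtain ⟨d, hd, hdM, hda⟩ := C.torus_base hc hb' W hcY hcM ha
        (fun e => ha1 (by rw [e, map_one])) hb (fun e => hb1 (by rw [e, map_one]))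
      refine ⟨g * d * g⁻¹, hL t g c hr hcf d hd, ?_, ?_⟩
      · rw [MulAction.Quotient.smul_mk, smul_eq_mul, QuotientGroup.eq]
        simpa [mul_assoc] using inv_mem hdM
      · show g * d * g⁻¹ * (g * a * g⁻¹) * (g * d * g⁻¹)⁻¹ = g * b * g⁻¹
        rw [← hda]; group
  · intro t ht r hr y hy hy1 s hs hsr s' hs' hs'r
    induction r using QuotientGroup.induction_on with
    | _ g => induction s using QuotientGroup.induction_on with
      | _ x => induction s' using QuotientGroup.induction_on with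
        | _ x' =>
          obtain ⟨hb, ⟨W⟩, htr⟩ := hbase t ht g hr
          obtain ⟨c, hcY, hcM, hcf⟩ := hsecond t ht g hr
          rw [C.ptA_mk hc] at hy
          obtain ⟨a, ha, rfl⟩ := hy
          obtain ⟨cs, hcsY, hxc⟩ := htr x hs
          obtain ⟨cs', hcs'Y, hxc'⟩ := htr x' hs'
          have hM : ∀ {w : G}, ((g * w : G) : G ⧸ M) ≠ (g : G ⧸ M) → w ∉ M := fun h hw => h (by
            rw [eq_comm, QuotientGroup.eq]; simpa using hw)
          obtain ⟨d, hd, hdM, hda, hds⟩ := C.root_base hc hb W hcY hcM ha hcsY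
            (hM (hxc ▸ hsr)) hcs'Y (hM (hxc' ▸ hs'r))
          refine ⟨g * d * g⁻¹, hL t g c hr hcf d hd, ?_, ?_, ?_⟩
          · rw [MulAction.Quotient.smul_mk, smul_eq_mul, QuotientGroup.eq]
            simpa [mul_assoc] using inv_mem hdM
          · exact hda.map (MulAut.conj g).toMonoidHom
          · rw [← hxc, ← hxc', MulAction.Quotient.smul_mk, smul_eq_mul, QuotientGroup.eq]
            simpa [mul_assoc] using hds
  · intro u hu v hv hvu r hr hvr
    induction r using QuotientGroup.induction_on with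
    | _ g =>
      obtain ⟨hb, ⟨W⟩, htr⟩ := hbase u hu g hr
      obtain ⟨hv', -, -⟩ := hbase v hv g hvr
      obtain ⟨b, hbA, hfix⟩ := C.inner_base hc hb W hv' (by
        show g⁻¹ * v * g * (g⁻¹ * u * g) = g⁻¹ * u * g * (g⁻¹ * v * g)
        calc g⁻¹ * v * g * (g⁻¹ * u * g) = g⁻¹ * (v * u) * g := by group
          _ = g⁻¹ * (u * v) * g := by rw [hvu.eq]
          _ = g⁻¹ * u * g * (g⁻¹ * v * g) := by group)
      refine ⟨g * b * g⁻¹, by rw [C.ptA_mk hc]; exact ⟨b, hbA, rfl⟩, fun s hs => ?_⟩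
      induction s using QuotientGroup.induction_on with
      | _ x =>
        obtain ⟨c, hcY, hxc⟩ := htr x hs
        rw [← hxc, smul_mk_eq_iff]
        convert hfix c hcY using 1
        group

/-- **No bad involution when `A` centralises the core.** -/
theorem false_of_bad_of_central {t : G} (ht : BadAt M t) : False := by
  haveI : Fact (Nat.Prime 2) := ⟨Nat.prime_two⟩
  obtain ⟨k, hk⟩ := IsPGroup.iff_card.1 C.hA.isPGroup
  obtain ⟨h2, h1, htM, g, hg, hgt⟩ := ht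
  have hk3 : 3 ≤ k := by
    have := C.hA.card_ge
    rw [hk] at this
    exact (Nat.pow_le_pow_iff_right (le_refl 2)).1 (show 2 ^ 3 ≤ 2 ^ k by simpa using this)
  obtain ⟨Cf⟩ := C.exists_config hc hk
  refine C.hG.h3 (Lib.ThreeFree.Lines.three_dvd_card Cf (C.odd_log hk) hk3 (t := t)
    ⟨h2, h1, ((1 : G) : G ⧸ M), (g : G ⧸ M), fun h => hg ?_, ?_, (smul_mk_eq_iff M t g).2 hgt⟩)
  · simpa using QuotientGroup.eq.1 h
  · rw [smul_mk_eq_iff]; simpa using htM

end Ctx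

end Cfsg.Agent.ThreePrime
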