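import Cfsg.Agent.Lib.ThreePrime.End.Facts
import Cfsg.Agent.Lib.ThreePrime.End.Config

/-!
# The end lemma of the simple groups of order prime to three

If `A` centralises the core of `M`, then `M` is strongly embedded; otherwise the normaliser of the
core is.
-/

set_option autoImplicit false
set_option linter.style.haveILetI false
set_option linter.unusedSectionVars false

namespace Cfsg.Agent.ThreePrime

open Subgroup

universe u

variable {G : Type u} [Group G] [Finite G]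

omit [Finite G] in
theorem even_card_of_two_group_le {A H : Subgroup G} {a : G} (ha : a * a = 1) (ha1 : a ≠ 1)
    (hA : a ∈ A) (hle : A ≤ H) : Even (Nat.card H) := by
  have h : orderOf (⟨a, hle hA⟩ : H) = 2 := orderOf_eq_prime
    (Subtype.ext (by rw [Subgroup.coe_pow, pow_two, ha]; rfl)) (fun e => ha1 (congrArg Subtype.val e))
  exact even_iff_two_dvd.2 (h ▸ orderOf_dvd_natCard _)

/-- A subgroup meeting a conjugate in even order has an involution there. -/
theorem exists_involution_inf {H : Subgroup G} {g : G}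
    (h : ¬ Odd (Nat.card ↥(H ⊓ H.map (MulAut.conj g).toMonoidHom))) :
    ∃ z : G, z * z = 1 ∧ z ≠ 1 ∧ z ∈ H ∧ g⁻¹ * z * g ∈ H := by
  haveI : Fact (Nat.Prime 2) := ⟨Nat.prime_two⟩
  rw [Nat.not_odd_iff_even, even_iff_two_dvd] at h
  obtain ⟨⟨z, hz⟩, hzo⟩ := exists_prime_orderOf_dvd_card' 2 h
  rw [orderOf_mk] at hzo
  obtain ⟨y, hy, hyz⟩ := hz.2
  refine ⟨z, by rw [← pow_two, ← hzo]; exact pow_orderOf_eq_one z,
    fun e => by rw [e, orderOf_one] at hzo; norm_num at hzo, hz.1, ?_⟩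
  rw [← hyz]
  show g⁻¹ * (g * y * g⁻¹) * g ∈ H
  simpa [mul_assoc] using hy

/-- In a subgroup over a Sylow `2`-subgroup, an involution is conjugate into the Sylow subgroup. -/
theorem exists_conj_mem_sylow (S : Sylow 2 G) {H : Subgroup G} (hS : (S : Subgroup G) ≤ H) {z : G}
    (hz : z ∈ H) (hz2 : z * z = 1) : ∃ m ∈ H, m * z * m⁻¹ ∈ (S : Subgroup G) := by
  haveI : Fact (Nat.Prime 2) := ⟨Nat.prime_two⟩
  obtain ⟨T, hT⟩ := (two_group_zpowers (w := (⟨z, hz⟩ : H)) (Subtype.ext hz2)).exists_le_sylow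
  obtain ⟨x, hx⟩ := MulAction.exists_smul_eq H T (S.subtype hS)
  have h : x * ⟨z, hz⟩ * x⁻¹ ∈ ((S.subtype hS : Sylow 2 H) : Subgroup H) := by
    rw [← hx, Sylow.coe_subgroup_smul]
    exact ⟨_, hT (mem_zpowers _), rfl⟩
  exact ⟨x, x.2, h⟩

/-- **The end lemma.** -/
theorem endStmt : EndStmt.{u} := by
  intro G _ _ S A hG hA M hM hN hC hdec
  have C : Ctx S A M := ⟨hG, hA, hM, hN, hC, hdec⟩
  obtain ⟨⟨a, ha⟩, ha1⟩ := ne_bot_iff_exists_ne_one.1 hA.ne_bot
  have ha1' : a ≠ 1 := fun e => ha1 (Subtype.ext e)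
  by_cases hc : oddIn M ≤ centralizer (A : Set G)
  · refine ⟨M, hM, even_card_of_two_group_le (hA.sq ha) ha1' ha C.A_le, fun g hg => ?_⟩
    by_contra hodd
    obtain ⟨z, hz2, hz1, hzM, hgz⟩ := exists_involution_inf hodd
    exact C.false_of_bad_of_central hc ⟨hz2, hz1, hzM, g, hg, hgz⟩
  set H := normalizer (oddIn M : Set G) with hH
  have hMH : M ≤ H := normalizer_oddIn M
  have hθ1 : oddIn M ≠ ⊥ := fun e => hc (e ▸ bot_le)
  refine ⟨H, hG.normalizer_ne_top hA hθ1 (odd_oddIn M),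
    even_card_of_two_group_le (hA.sq ha) ha1' ha (C.A_le.trans hMH), fun g hg => ?_⟩
  by_contra hodd
  obtain ⟨z, hz2, hz1, hzH, hgz⟩ := exists_involution_inf hodd
  obtain ⟨m, hm, hmz⟩ := exists_conj_mem_sylow S (C.S_le.trans hMH) hzH hz2
  obtain ⟨h, hh, hhz⟩ := exists_conj_mem_sylow S (C.S_le.trans hMH) hgz (by
    rw [show g⁻¹ * z * g * (g⁻¹ * z * g) = g⁻¹ * (z * z) * g by group, hz2]; group)
  set w := m * z * m⁻¹ with hw
  set g' := m * g * h⁻¹ with hg'
  have hg'H : g' ∉ H := fun hmem => hg (by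
    have := mul_mem (mul_mem (inv_mem hm) hmem) hh
    rwa [hg', show m⁻¹ * (m * g * h⁻¹) * h = g by group] at this)
  have hgw : g'⁻¹ * w * g' ∈ M := by
    rw [show g'⁻¹ * w * g' = h * (g⁻¹ * z * g) * h⁻¹ by rw [hg', hw]; group]
    exact C.S_le hhz
  have hbad : BadAt M w := ⟨by
    rw [hw, show m * z * m⁻¹ * (m * z * m⁻¹) = m * (z * z) * m⁻¹ by group, hz2]; group,
    by rwa [hw, Ne, conj_eq_one_iff], C.S_le hmz, g', fun h' => hg'H (hMH h'), hgw⟩
  obtain ⟨d, hd, hdt⟩ := C.exists_conj_cent hbad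
  have hdM := oddIn_le M hd
  refine C.false_of_moved (hbad.conj hdM) hdt ?_ hc
  intro hle
  obtain ⟨c, hc', hgc⟩ := C.exists_cent_move (g := d * g') (hbad.conj hdM).1
    (hA.centralizer_le_normalizer hdt) (by
      rwa [show (d * g')⁻¹ * (d * w * d⁻¹) * (d * g') = g'⁻¹ * w * g' by group])
  refine hg'H ?_
  have h1 : d * g' ∈ H := by
    have := mul_mem (hle hc') (inv_mem (hMH hgc))
    rwa [mul_inv_rev, inv_inv, ← mul_assoc, mul_inv_cancel, one_mul] at this
  simpa using mul_mem (inv_mem (hMH hdM)) h1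

end Cfsg.Agent.ThreePrime
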