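import Cfsg.Agent.Lib.ThreePrime.End.Basic
import Cfsg.Agent.Lib.OddOrder.FittingOf
import Cfsg.Agent.Lib.OddChar.OddTheorem

/-!
# Tools for the core argument of the end lemma
-/

set_option autoImplicit false
set_option linter.style.haveILetI false
set_option linter.unusedSectionVars false

namespace Cfsg.Agent.ThreePrime

open Subgroup
open Cfsg (pCoreOf fittingOf)

universe u

variable {G : Type u} [Group G] [Finite G]

theorem solvable_of_odd' {R : Subgroup G} (h : Odd (Nat.card R)) : Group.IsSolvable R :=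
  OddChar.oddSolvable _ h

theorem coprime_zpowers {t : G} (ht : t * t = 1) {R : Subgroup G} (hR : Odd (Nat.card R)) :
    (Nat.card (zpowers t)).Coprime (Nat.card R) := by
  rw [Nat.card_zpowers]
  exact Nat.Coprime.coprime_dvd_left (orderOf_dvd_of_pow_eq_one (by rw [pow_two, ht]))
    (Nat.coprime_two_left.2 hR)

/-- An involution acting on a group of odd order without fixed points outside a normal subgroup
inverts the factor group. -/
theorem inverted_mod {t : G} (ht : t * t = 1) {R N : Subgroup G} (hR : Odd (Nat.card R))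
    (htR : t ∈ normalizer (R : Set G)) (htN : t ∈ normalizer (N : Set G))
    (hRN : R ≤ normalizer (N : Set G)) (hfix : R ⊓ centralizer ({t} : Set G) ≤ N) {x : G}
    (hx : x ∈ R) : t * x * t * x ∈ N := by
  have htinv : t⁻¹ = t := inv_eq_of_mul_eq_one_right ht
  set z := x⁻¹ * (t * x * t) with hz
  have htx : t * x * t ∈ R := by
    have h := (mem_normalizer_iff.1 htR x).1 hx
    rwa [htinv] at h
  have hzR : z ∈ R := mul_mem (inv_mem hx) htx
  obtain ⟨k, hk⟩ : Odd (orderOf z) := Odd.of_dvd_nat hR (orderOf_dvd_natCard R hzR)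
  set w := z ^ (k + 1) with hw
  have hww : w * w = z := by
    rw [hw, ← pow_add, show k + 1 + (k + 1) = orderOf z + 1 by omega, pow_succ, pow_orderOf_eq_one,
      one_mul]
  have hzinv : t * z * t⁻¹ = z⁻¹ := by
    rw [hz, htinv]
    calc t * (x⁻¹ * (t * x * t)) * t = t * x⁻¹ * t * x * (t * t) := by group
      _ = t⁻¹ * x⁻¹ * t⁻¹ * x := by rw [ht, htinv, mul_one]
      _ = (x⁻¹ * (t * x * t))⁻¹ := by group
  have hwinv : t * w * t⁻¹ = w⁻¹ := by rw [hw, ← conj_pow, hzinv, inv_pow]
  have hc : x * w ∈ N := by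
    refine hfix (mem_inf.2 ⟨mul_mem hx (pow_mem hzR _), mem_centralizer_singleton_iff.2 ?_⟩)
    have e : t * (x * w) * t⁻¹ = x * w := by
      calc t * (x * w) * t⁻¹ = (t * x * t⁻¹) * (t * w * t⁻¹) := by group
        _ = t * x * t * w⁻¹ := by rw [hwinv, htinv]
        _ = x * z * w⁻¹ := by rw [hz]; group
        _ = x * w := by rw [← hww]; group
    calc x * w * t = t * (x * w) * t⁻¹ * t := by rw [e]
      _ = t * (x * w) := by group
  have h1 : t * x * t * x = (t * (x * w) * t⁻¹) * (w * (x * w) * w⁻¹) := by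
    calc t * x * t * x = (t * (x * w) * t⁻¹) * (t * w⁻¹ * t⁻¹) * x := by
          simp only [htinv, mul_assoc]
          rw [← mul_assoc t t, ht, one_mul, mul_inv_cancel_left]
      _ = t * (x * w) * t⁻¹ * w * x := by
          rw [show t * w⁻¹ * t⁻¹ = (t * w * t⁻¹)⁻¹ by group, hwinv, inv_inv]
      _ = (t * (x * w) * t⁻¹) * (w * (x * w) * w⁻¹) := by group
  rw [h1]
  exact mul_mem ((mem_normalizer_iff.1 htN _).1 hc)
    ((mem_normalizer_iff.1 (hRN (pow_mem hzR _)) _).1 hc)

/-- A `p`-subgroup of the Fitting subgroup of `M` lies in `O_p(M)`. -/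
theorem le_pCoreOf_of_le_fittingOf {p : ℕ} [Fact p.Prime] {M X : Subgroup G}
    (hX : IsPGroup p X) (hle : X ≤ fittingOf M) : X ≤ pCoreOf p M := by
  haveI := OddOrder.FitOf.fittingOf_nilpotent M
  obtain ⟨Q, hQ⟩ := (hX.comap_of_injective (fittingOf M).subtype
    (fittingOf M).subtype_injective).exists_le_sylow (P := X.subgroupOf (fittingOf M))
  haveI hQn : (Q : Subgroup (fittingOf M)).Normal := inferInstance
  haveI hQc : (Q : Subgroup (fittingOf M)).Characteristic := Q.characteristic_of_normal hQn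
  have hn : M ≤ normalizer (((Q : Subgroup (fittingOf M)).map (fittingOf M).subtype) : Set G) :=
    (OddOrder.FitOf.le_normalizer_fittingOf M).trans
      (LEBasic.le_normalizer_map_of_characteristic hQc)
  have h := LEBasic.le_pCoreMap ((map_subtype_le _).trans (OddOrder.FitOf.fittingOf_le M)) hn
    (Q.isPGroup'.map _)
  intro x hx
  exact h ⟨⟨x, hle hx⟩, hQ hx, rfl⟩

theorem Min3.card_even (_hG : Min3 G) {A : Subgroup G} {S : Sylow 2 G} (hA : Closed A S) :
    2 ∣ Nat.card G := by
  haveI : Fact (Nat.Prime 2) := ⟨Nat.prime_two⟩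
  exact (LESylow.dvd_card_of_ne_bot hA.isPGroup hA.ne_bot).trans (card_subgroup_dvd_card A)

/-- A nontrivial subgroup of odd order is not normal. -/
theorem Min3.normalizer_ne_top (hG : Min3 G) {A : Subgroup G} {S : Sylow 2 G} (hA : Closed A S)
    {P : Subgroup G} (hP : P ≠ ⊥) (ho : Odd (Nat.card P)) : normalizer (P : Set G) ≠ ⊤ := by
  intro h
  have h2 := hG.card_even hA
  rw [show Nat.card G = Nat.card P by
    rw [hG.ne_bot_top (normalizer_eq_top_iff.1 h) hP, card_top]] at h2
  exact Nat.not_even_iff_odd.2 ho (even_iff_two_dvd.2 h2)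

end Cfsg.Agent.ThreePrime
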