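import Cfsg.Agent.Lib.ThreePrime.End.Line
import Cfsg.Agent.Lib.ThreePrime.End.Tools

/-!
# The bad involutions centralise `A`

An involution is bad when it fixes two points of `G / M`.  Its centraliser then moves the point, is
transitive on the fixed points, and the involution centralises `A` when it normalises it.
-/

set_option autoImplicit false
set_option linter.style.haveILetI false
set_option linter.unusedSectionVars false

namespace Cfsg.Agent.ThreePrime

open Subgroup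

universe u

variable {G : Type u} [Group G]

/-- An involution of `M` fixing a second point. -/
def BadAt (M : Subgroup G) (t : G) : Prop :=
  t * t = 1 ∧ t ≠ 1 ∧ t ∈ M ∧ ∃ g, g ∉ M ∧ g⁻¹ * t * g ∈ M

theorem BadAt.conj {M : Subgroup G} {t : G} (h : BadAt M t) {m : G} (hm : m ∈ M) :
    BadAt M (m * t * m⁻¹) := by
  obtain ⟨h1, h2, h3, g, hg, hgt⟩ := h
  refine ⟨?_, by rwa [Ne, conj_eq_one_iff], mul_mem (mul_mem hm h3) (inv_mem hm), m * g,
    fun h => hg ?_, ?_⟩
  · rw [show m * t * m⁻¹ * (m * t * m⁻¹) = m * (t * t) * m⁻¹ by group, h1]; group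
  · simpa using mul_mem (inv_mem hm) h
  · rwa [show (m * g)⁻¹ * (m * t * m⁻¹) * (m * g) = g⁻¹ * t * g by group]

theorem two_group_zpowers {w : G} (hw : w * w = 1) : IsPGroup 2 (zpowers w) := by
  rintro ⟨_, i, rfl⟩
  refine ⟨1, Subtype.ext ?_⟩
  show (w ^ i) ^ 2 ^ 1 = 1
  rw [pow_one, ← zpow_natCast, zpow_comm, zpow_natCast, pow_two, hw, one_zpow]

namespace Ctx

variable [Finite G] {S : Sylow 2 G} {A M : Subgroup G} (C : Ctx S A M)

include C

/-- A `2`-group meeting `A#` lies in `M`. -/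
theorem twoGroup_le {T : Subgroup G} (hT : IsPGroup 2 T) {a : G} (ha : a ∈ A) (ha1 : a ≠ 1)
    (haT : a ∈ T) : T ≤ M := by
  haveI : Fact (Nat.Prime 2) := ⟨Nat.prime_two⟩
  by_contra hTM
  haveI := hT.isNilpotent
  set P := M.subgroupOf T with hP
  have hlt : P < ⊤ := lt_top_iff_ne_top.2 fun e => hTM (subgroupOf_eq_top.1 e)
  obtain ⟨y, hy, hyP⟩ := SetLike.exists_of_lt
    (Group.normalizerCondition_of_isNilpotent (G := T) P hlt)
  refine hyP ?_
  have h1 : (y : G) * a * (y : G)⁻¹ ∈ M :=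
    ((mem_normalizer_iff.1 hy ⟨a, haT⟩).1 (C.A_le ha) :)
  exact (C.class_mem ha ha1 h1).1

/-- The core conjugates no element of `A` to another one. -/
theorem conj_oddIn_eq {f a : G} (hf : f ∈ oddIn M) (ha : a ∈ A) (h : f * a * f⁻¹ ∈ A) :
    f * a * f⁻¹ = a := by
  refine mul_inv_eq_one.1 (two_group_inf_odd C.hA.isPGroup (odd_oddIn M) (mul_mem h (inv_mem ha)) ?_)
  rw [show f * a * f⁻¹ * a⁻¹ = f * (a * f⁻¹ * a⁻¹) by group]
  exact mul_mem hf ((mem_normalizer_iff.1 (normalizer_oddIn M (C.A_le ha)) _).1 (inv_mem hf))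

/-- The fixed points of an involution on `A` form a subgroup of order at least four. -/
theorem four_le_cent {t : G} (ht : t * t = 1) (htN : t ∈ normalizer (A : Set G)) :
    4 ≤ Nat.card (A ⊓ centralizer ({t} : Set G) : Subgroup G) ∧
      Nat.card A ≤ Nat.card (A ⊓ centralizer ({t} : Set G) : Subgroup G) *
        Nat.card (A ⊓ centralizer ({t} : Set G) : Subgroup G) := by
  haveI : Fact (Nat.Prime 2) := ⟨Nat.prime_two⟩
  set B := A ⊓ centralizer ({t} : Set G) with hB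
  have htinv : t⁻¹ = t := inv_eq_of_mul_eq_one_right ht
  have hconj : ∀ a ∈ A, t * a * t ∈ A := fun a ha => by
    have h := (mem_normalizer_iff.1 htN a).1 ha
    rwa [htinv] at h
  let δ : A →* A := MonoidHom.mk' (fun a => ⟨(a : G) * (t * a * t), mul_mem a.2 (hconj a a.2)⟩)
    fun a b => Subtype.ext (by
      show (a : G) * b * (t * (a * b) * t) = (a : G) * (t * a * t) * ((b : G) * (t * b * t))
      have e : t * ((a : G) * b) * t = (t * a * t) * (t * b * t) := by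
        calc t * ((a : G) * b) * t = t * a * 1 * b * t := by group
          _ = t * a * (t * t) * b * t := by rw [ht]
          _ = (t * a * t) * (t * b * t) := by group
      rw [e, mul_assoc (a : G) b, ← mul_assoc (b : G) (t * a * t),
        C.hA.comm b.2 (hconj a a.2)]
      group)
  have hk : Nat.card δ.ker ≤ Nat.card B := by
    refine Nat.card_le_card_of_injective (fun a => ⟨((a : A) : G), ?_⟩) fun a b h => ?_
    · refine mem_inf.2 ⟨(a : A).2, mem_centralizer_singleton_iff.2 ?_⟩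
      have h1 : ((a : A) : G) * (t * (a : A) * t) = 1 := congrArg Subtype.val a.2
      have h2 : t * ((a : A) : G) * t = (a : A) := by
        rw [← C.hA.inv (a : A).2] at h1 ⊢
        exact (eq_inv_of_mul_eq_one_right h1).trans (by rw [inv_inv, C.hA.inv (a : A).2])
      calc ((a : A) : G) * t = t * (a : A) * t * t := by rw [h2]
        _ = t * (a : A) := by rw [mul_assoc (t * _), ht, mul_one]
    · exact Subtype.ext (Subtype.ext (congrArg (fun z : B => (z : G)) h :))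
  have hr : Nat.card δ.range ≤ Nat.card B := by
    refine Nat.card_le_card_of_injective (fun a => ⟨((a : A) : G), ?_⟩) fun a b h => ?_
    · obtain ⟨b, hb⟩ := a.2
      refine mem_inf.2 ⟨(a : A).2, mem_centralizer_singleton_iff.2 ?_⟩
      rw [← hb]
      show (b : G) * (t * b * t) * t = t * ((b : G) * (t * b * t))
      calc (b : G) * (t * b * t) * t = (t * b * t) * b * t := by rw [C.hA.comm b.2 (hconj b b.2)]
        _ = t * ((b : G) * (t * b * t)) := by simp only [mul_assoc]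
    · exact Subtype.ext (Subtype.ext (congrArg (fun z : B => (z : G)) h :))
  have hcard : Nat.card A ≤ Nat.card B * Nat.card B := by
    rw [card_eq_card_quotient_mul_card_subgroup δ.ker,
      Nat.card_congr (QuotientGroup.quotientKerEquivRange δ).toEquiv]
    exact Nat.mul_le_mul hr hk
  refine ⟨?_, hcard⟩
  obtain ⟨j, hj⟩ := IsPGroup.iff_card.1 (C.hA.isPGroup.to_le (inf_le_left : B ≤ A))
  rw [hj] at hcard ⊢
  have h8 := C.hA.card_ge
  by_contra h
  push Not at h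
  have : 2 ^ j ≤ 2 := by
    rcases Nat.lt_or_ge j 2 with h2 | h2
    · exact le_trans (Nat.pow_le_pow_right (by norm_num) (show j ≤ 1 by omega)) le_rfl
    · have := Nat.pow_le_pow_right (show 1 ≤ 2 by norm_num) h2
      omega
  nlinarith

theorem cent_ne_bot {t : G} (ht : t * t = 1) (htN : t ∈ normalizer (A : Set G)) :
    A ⊓ centralizer ({t} : Set G) ≠ ⊥ := fun e => by
  have h := (C.four_le_cent ht htN).1
  rw [e, card_bot] at h
  omega

theorem exists_ne_one {t : G} (ht : t * t = 1) (htN : t ∈ normalizer (A : Set G)) :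
    ∃ a ∈ A, a ≠ 1 ∧ a * t = t * a := by
  obtain ⟨⟨a, ha⟩, ha1⟩ := ne_bot_iff_exists_ne_one.1 (C.cent_ne_bot ht htN)
  exact ⟨a, ha.1, fun e => ha1 (Subtype.ext e), mem_centralizer_singleton_iff.1 ha.2⟩

/-- The fixed points on `A` are strongly closed in the centraliser. -/
theorem scIn_cent {t : G} (ht : t * t = 1) (htN : t ∈ normalizer (A : Set G)) :
    ScIn (centralizer ({t} : Set G)) (A ⊓ centralizer ({t} : Set G)) := by
  haveI : Fact (Nat.Prime 2) := ⟨Nat.prime_two⟩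
  set Y := centralizer ({t} : Set G) with hY
  set B := A ⊓ Y with hB
  have hBe : Cfsg.IsElementaryAbelian 2 B := Signalizer.ea_mono C.hA.ea inf_le_left
  refine ⟨inf_le_right, hBe, ?_⟩
  obtain ⟨T, hT⟩ := ((C.hA.isPGroup.to_le (inf_le_left : B ≤ A)).comap_of_injective Y.subtype
    Y.subtype_injective : IsPGroup 2 (B.subgroupOf Y)).exists_le_sylow
  obtain ⟨a, ha, ha1, hat⟩ := C.exists_ne_one ht htN
  have haY : a ∈ Y := mem_centralizer_singleton_iff.2 hat
  have hTG : IsPGroup 2 ((T : Subgroup Y).map Y.subtype) := T.2.map _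
  have hTM : (T : Subgroup Y).map Y.subtype ≤ M :=
    C.twoGroup_le hTG ha ha1 ⟨⟨a, haY⟩, hT ⟨ha, haY⟩, rfl⟩
  obtain ⟨d, hd, hdN⟩ := C.exists_conj_normalizer hTG hTM
  -- the conjugating element maps the closure into `A`
  have key : ∀ b ∈ A, ∀ c : G, c * b * c⁻¹ ∈ (T : Subgroup Y).map Y.subtype →
      d * (c * b * c⁻¹) * d⁻¹ ∈ A := by
    intro b hb c hc
    have hy := hdN _ hc
    rw [show d * (c * b * c⁻¹) * d⁻¹ = d * c * b * (d * c)⁻¹ by group] at hy ⊢
    refine C.hA.mem_of_conj (P := zpowers (d * c * b * (d * c)⁻¹) ⊔ A) ?_ le_sup_right hb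
      (mem_sup_left (mem_zpowers _))
    refine IsPGroup.to_sup_of_normal_right' (two_group_zpowers ?_) C.hA.isPGroup (zpowers_le.2 hy)
    rw [show d * c * b * (d * c)⁻¹ * (d * c * b * (d * c)⁻¹) = d * c * (b * b) * (d * c)⁻¹ by group,
      C.hA.sq hb]
    group
  have hdB : ∀ b ∈ B, d * b * d⁻¹ = b := fun b hb => C.conj_oddIn_eq hd hb.1 (by
    have h := key b hb.1 1 (by
      rw [one_mul, inv_one, mul_one]
      exact ⟨⟨b, hb.2⟩, hT hb, rfl⟩)
    rwa [one_mul, inv_one, mul_one] at h)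
  refine ⟨T, hT, fun b hb c hc => ?_⟩
  set x := (c : G) * b * (c : G)⁻¹ with hx
  have hxT : x ∈ (T : Subgroup Y).map Y.subtype := ⟨_, hc, rfl⟩
  have hxA := key (b : G) hb.1 c hxT
  set x' := d * x * d⁻¹ with hx'
  -- `x'` commutes with the conjugate of `t`, hence with `t`
  have hxt : x * t = t * x := mem_centralizer_singleton_iff.1 (c * b * c⁻¹).2
  set f := t * (d * t * d⁻¹)⁻¹ with hf
  have hfθ : f ∈ oddIn M := by
    rw [hf, show t * (d * t * d⁻¹)⁻¹ = (t * d * t⁻¹) * d⁻¹ by group]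
    exact mul_mem ((mem_normalizer_iff.1 (normalizer_oddIn M (C.hN htN)) _).1 hd) (inv_mem hd)
  have hft : f * x' * f⁻¹ = t * x' * t⁻¹ := by
    have e : (d * t * d⁻¹)⁻¹ * x' * (d * t * d⁻¹) = x' := by
      calc (d * t * d⁻¹)⁻¹ * x' * (d * t * d⁻¹) = d * (t⁻¹ * (x * t)) * d⁻¹ := by rw [hx']; group
        _ = x' := by rw [hxt, hx']; group
    rw [hf, show t * (d * t * d⁻¹)⁻¹ * x' * (t * (d * t * d⁻¹)⁻¹)⁻¹ =
      t * ((d * t * d⁻¹)⁻¹ * x' * (d * t * d⁻¹)) * t⁻¹ by group, e]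
  have hx't : t * x' * t⁻¹ = x' := by
    rw [← hft]
    exact C.conj_oddIn_eq hfθ hxA (hft ▸ (mem_normalizer_iff.1 htN x').1 hxA)
  have hxB : x' ∈ B := mem_inf.2 ⟨hxA, mem_centralizer_singleton_iff.2
    (mul_inv_eq_iff_eq_mul.1 hx't).symm⟩
  have hxx : x = x' := by
    have h := hdB x' hxB
    rw [hx'] at h ⊢
    exact (mul_left_cancel (mul_right_cancel h)).symm
  show x ∈ B
  rwa [hxx]

/-- A second fixed point moved by an element normalising the conjugate of `A`. -/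
theorem exists_point {t g : G} (ht : t * t = 1) (hgt : g⁻¹ * t * g ∈ M) :
    ∃ g' : G, g⁻¹ * g' ∈ M ∧ g'⁻¹ * t * g' ∈ normalizer (A : Set G) := by
  have hxx : g⁻¹ * t * g * (g⁻¹ * t * g) = 1 := by
    rw [show g⁻¹ * t * g * (g⁻¹ * t * g) = g⁻¹ * (t * t) * g by group, ht]; group
  obtain ⟨d, hd, hdN⟩ := C.exists_conj_normalizer (two_group_zpowers hxx) (zpowers_le.2 hgt)
  refine ⟨g * d⁻¹, by simpa using inv_mem (oddIn_le M hd), ?_⟩
  convert hdN _ (mem_zpowers (g⁻¹ * t * g)) using 1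
  group

/-- The centraliser of a bad involution moves the point. -/
theorem cent_not_le {t : G} (ht : BadAt M t) : ¬ centralizer ({t} : Set G) ≤ M := by
  obtain ⟨h1, -, -, g, hg, hgt⟩ := ht
  intro hle
  obtain ⟨g', hg', hN'⟩ := C.exists_point h1 hgt
  obtain ⟨a, ha, ha1, hat⟩ := C.exists_ne_one (t := g'⁻¹ * t * g') (by
    rw [show g'⁻¹ * t * g' * (g'⁻¹ * t * g') = g'⁻¹ * (t * t) * g' by group, h1]; group) hN'
  have hmem : g' * a * g'⁻¹ ∈ M := hle (mem_centralizer_singleton_iff.2 (by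
    calc g' * a * g'⁻¹ * t = g' * (a * (g'⁻¹ * t * g')) * g'⁻¹ := by group
      _ = g' * ((g'⁻¹ * t * g') * a) * g'⁻¹ := by rw [hat]
      _ = t * (g' * a * g'⁻¹) := by group))
  refine hg ?_
  simpa using mul_mem (C.class_mem ha ha1 hmem).1 (inv_mem hg')

/-- The centraliser is transitive on the fixed points. -/
theorem exists_cent_move {t g : G} (ht : t * t = 1) (htN : t ∈ normalizer (A : Set G))
    (hgt : g⁻¹ * t * g ∈ M) : ∃ c ∈ centralizer ({t} : Set G), g⁻¹ * c ∈ M := by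
  haveI : Fact (Nat.Prime 2) := ⟨Nat.prime_two⟩
  set Y := centralizer ({t} : Set G) with hY
  obtain ⟨g', hg', hN'⟩ := C.exists_point ht hgt
  obtain ⟨a, ha, ha1, hat⟩ := C.exists_ne_one ht htN
  obtain ⟨a', ha', ha'1, hat'⟩ := C.exists_ne_one (t := g'⁻¹ * t * g') (by
    rw [show g'⁻¹ * t * g' * (g'⁻¹ * t * g') = g'⁻¹ * (t * t) * g' by group, ht]; group) hN'
  have haY : a ∈ Y := mem_centralizer_singleton_iff.2 hat
  have hbY : g' * a' * g'⁻¹ ∈ Y := mem_centralizer_singleton_iff.2 (by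
    calc g' * a' * g'⁻¹ * t = g' * (a' * (g'⁻¹ * t * g')) * g'⁻¹ := by group
      _ = g' * ((g'⁻¹ * t * g') * a') * g'⁻¹ := by rw [hat']
      _ = t * (g' * a' * g'⁻¹) := by group)
  have hp : ∀ {w : G} (hw : w ∈ Y), w * w = 1 → ∃ T : Sylow 2 Y, (⟨w, hw⟩ : Y) ∈ (T : Subgroup Y) := by
    intro w hw hww
    obtain ⟨T, hT⟩ := (two_group_zpowers (w := (⟨w, hw⟩ : Y)) (Subtype.ext hww)).exists_le_sylow
    exact ⟨T, hT (mem_zpowers _)⟩
  obtain ⟨T, hT⟩ := hp haY (C.hA.sq ha)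
  obtain ⟨T', hT'⟩ := hp hbY (by
    rw [show g' * a' * g'⁻¹ * (g' * a' * g'⁻¹) = g' * (a' * a') * g'⁻¹ by group, C.hA.sq ha']; group)
  obtain ⟨c, hc⟩ := MulAction.exists_smul_eq Y T T'
  refine ⟨c, c.2, ?_⟩
  set T'' := ((T' : Subgroup Y).map Y.subtype).map (MulAut.conj g'⁻¹).toMonoidHom with hT''
  have hTM : T'' ≤ M := C.twoGroup_le ((T'.2.map _).map _) ha' ha'1
    ⟨g' * a' * g'⁻¹, ⟨_, hT', rfl⟩, by show g'⁻¹ * (g' * a' * g'⁻¹) * g'⁻¹⁻¹ = a'; group⟩
  have hmem : c * ⟨a, haY⟩ * c⁻¹ ∈ (T' : Subgroup Y) := by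
    rw [← hc, Sylow.coe_subgroup_smul]
    exact ⟨_, hT, rfl⟩
  have hM' : g'⁻¹ * c * a * (g'⁻¹ * c)⁻¹ ∈ M := hTM ⟨_, ⟨_, hmem, rfl⟩, by
    show g'⁻¹ * ((c : G) * a * (c : G)⁻¹) * g'⁻¹⁻¹ = g'⁻¹ * c * a * (g'⁻¹ * c)⁻¹
    group⟩
  have := mul_mem hg' (C.class_mem ha ha1 hM').1
  simpa [mul_assoc] using this

theorem mem_of_conj_sub {B : Subgroup G} (hBA : B ≤ A) (hB : B ≠ ⊥) {n : G}
    (hn : n ∈ normalizer (B : Set G)) : n ∈ M := by
  obtain ⟨⟨b, hb⟩, hb1⟩ := ne_bot_iff_exists_ne_one.1 hB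
  exact C.hA.mem_of_fusion C.hN C.hC (hBA hb) (fun e => hb1 (Subtype.ext e))
    (hBA ((mem_normalizer_iff.1 hn b).1 hb))

/-- The line of an involution with a second fixed point. -/
theorem exists_line_cent {t : G} (ht : BadAt M t) (htN : t ∈ normalizer (A : Set G)) :
    Nonempty (Line M (centralizer ({t} : Set G)) (A ⊓ centralizer ({t} : Set G))) := by
  have hsc := C.scIn_cent ht.1 htN
  refine exists_line C.hG (C.hG.centralizer_ne_top ht.2.1) hsc ?_
    (fun n hn => C.mem_of_conj_sub inf_le_left (C.cent_ne_bot ht.1 htN) hn.2)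
    (fun b hb hb1 => C.hC b hb.1 hb1) (C.cent_ne_bot ht.1 htN) (C.cent_not_le ht)
  exact C.odd_le_M inf_le_left (C.four_le_cent ht.1 htN).1
    (inf_le_right.trans (normalizer_oddIn _)) (odd_oddIn _)

/-- All orbits of `N(A)` on `A#` being one, the rank is odd. -/
theorem odd_log {k : ℕ} (hk : Nat.card A = 2 ^ k) : Odd k := by
  classical
  rw [← Nat.not_even_iff_odd]
  rintro ⟨j, rfl⟩
  obtain ⟨⟨a, ha⟩, ha1⟩ := ne_bot_iff_exists_ne_one.1 C.hA.ne_bot
  have ha1' : a ≠ 1 := fun e => ha1 (Subtype.ext e)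
  set N := normalizer (A : Set G) with hN
  set K := (centralizer ({a} : Set G)).subgroupOf N with hK
  let f : N → {x : A // x ≠ 1} := fun n => ⟨⟨(n : G) * a * (n : G)⁻¹, (mem_normalizer_iff.1 n.2 a).1 ha⟩,
    fun e => ha1' (conj_eq_one_iff.1 (congrArg Subtype.val e))⟩
  have hf : ∀ n n' : N, f n = f n' ↔ n⁻¹ * n' ∈ K := by
    intro n n'
    rw [Subtype.ext_iff, Subtype.ext_iff, hK, mem_subgroupOf, mem_centralizer_singleton_iff]
    show (n : G) * a * (n : G)⁻¹ = (n' : G) * a * (n' : G)⁻¹ ↔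
      (n : G)⁻¹ * n' * a = a * ((n : G)⁻¹ * n')
    constructor <;> intro h
    · calc (n : G)⁻¹ * n' * a = (n : G)⁻¹ * ((n' : G) * a * (n' : G)⁻¹) * n' := by group
        _ = (n : G)⁻¹ * ((n : G) * a * (n : G)⁻¹) * n' := by rw [h]
        _ = a * ((n : G)⁻¹ * n') := by group
    · calc (n : G) * a * (n : G)⁻¹ = (n : G) * (a * ((n : G)⁻¹ * n')) * (n' : G)⁻¹ := by group
        _ = (n : G) * ((n : G)⁻¹ * n' * a) * (n' : G)⁻¹ := by rw [h]
        _ = (n' : G) * a * (n' : G)⁻¹ := by group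
  let F : N ⧸ K → {x : A // x ≠ 1} := Quotient.lift f fun x y h =>
    (hf x y).2 (QuotientGroup.leftRel_apply.1 h)
  have hF : Function.Bijective F := by
    refine ⟨fun x y => ?_, fun x => ?_⟩
    · induction x using Quotient.inductionOn with
      | _ x => induction y using Quotient.inductionOn with
        | _ y => exact fun h => Quotient.sound (QuotientGroup.leftRel_apply.2 ((hf x y).1 h))
    · obtain ⟨n, hn, he⟩ := C.hA.one_orbit C.hM C.hN C.hC ha ha1' x.1.2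
        fun e => x.2 (Subtype.ext e)
      exact ⟨QuotientGroup.mk ⟨n, hn⟩, Subtype.ext (Subtype.ext he)⟩
  have h1 : Nat.card {x : A // x ≠ 1} = 2 ^ (j + j) - 1 := by
    haveI : Fintype A := Fintype.ofFinite _
    rw [Nat.card_eq_fintype_card, Fintype.card_subtype_compl, Fintype.card_subtype_eq,
      ← Nat.card_eq_fintype_card, hk]
  have h3 : 3 ∣ 2 ^ (j + j) - 1 := by
    have : 2 ^ (j + j) % 3 = 1 := by
      rw [← two_mul, pow_mul, Nat.pow_mod]
      norm_num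
    omega
  refine C.hG.h3 (h3.trans ?_)
  rw [← h1, ← Nat.card_eq_of_bijective F hF]
  exact K.card_quotient_dvd_card.trans (card_subgroup_dvd_card N)

/-- **A bad involution normalising `A` centralises it.** -/
theorem comm_A {t : G} (ht : BadAt M t) (htN : t ∈ normalizer (A : Set G)) :
    t ∈ centralizer (A : Set G) := by
  classical
  haveI : Fact (Nat.Prime 2) := ⟨Nat.prime_two⟩
  obtain ⟨W⟩ := C.exists_line_cent ht htN
  set B := A ⊓ centralizer ({t} : Set G) with hB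
  have htinv : t⁻¹ = t := inv_eq_of_mul_eq_one_right ht.1
  have hconj : ∀ a ∈ A, t * a * t⁻¹ ∈ A := fun a ha => (mem_normalizer_iff.1 htN a).1 ha
  set δ : G → G := fun a => a * (t * a * t⁻¹) with hδ
  have hδB : ∀ a ∈ A, δ a ∈ B := by
    intro a ha
    refine mem_inf.2 ⟨mul_mem ha (hconj a ha), mem_centralizer_singleton_iff.2 ?_⟩
    show a * (t * a * t⁻¹) * t = t * (a * (t * a * t⁻¹))
    have hcomm := C.hA.comm ha (hconj a ha)
    calc a * (t * a * t⁻¹) * t = (t * a * t⁻¹) * a * t := by rw [hcomm]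
      _ = t * (a * (t * a * t⁻¹)) := by simp only [mul_assoc, htinv]
  by_cases hδ1 : ∀ a ∈ A, δ a = 1
  · rw [mem_centralizer_iff]
    intro a ha
    have h := hδ1 a ha
    have h1 : t * a * t⁻¹ = a := (eq_inv_of_mul_eq_one_right h).trans (C.hA.inv ha)
    exact (mul_inv_eq_iff_eq_mul.1 h1).symm
  exfalso
  push Not at hδ1
  obtain ⟨a₀, ha₀, hne⟩ := hδ1
  have honto : ∀ b ∈ B, ∃ a ∈ A, δ a = b := by
    intro b hb
    by_cases hb1 : b = 1
    · exact ⟨1, one_mem _, by rw [hb1, hδ]; group⟩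
    obtain ⟨n, hn, -, hnB, hnM, he⟩ := W.exists_torus_conj (hδB a₀ ha₀) hne hb hb1
    obtain ⟨f, hf, n₁, hn₁, rfl⟩ := C.hdec n hnM
    refine ⟨n₁ * a₀ * n₁⁻¹, (mem_normalizer_iff.1 hn₁ a₀).1 ha₀, ?_⟩
    have hx : n₁ * δ a₀ * n₁⁻¹ ∈ A := (mem_normalizer_iff.1 hn₁ _).1 (hδB a₀ ha₀).1
    have h1 : n₁ * δ a₀ * n₁⁻¹ = b := by
      rw [← C.conj_oddIn_eq hf hx ?_, ← he]
      · group
      · rw [show f * (n₁ * δ a₀ * n₁⁻¹) * f⁻¹ = b by rw [← he]; group]
        exact hb.1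
    set a₁ := n₁ * a₀ * n₁⁻¹ with ha₁
    have ha₁A : a₁ ∈ A := (mem_normalizer_iff.1 hn₁ a₀).1 ha₀
    set f' := f⁻¹ * (t * f * t⁻¹) with hf'
    have hf'θ : f' ∈ oddIn M :=
      mul_mem (inv_mem hf) ((mem_normalizer_iff.1 (normalizer_oddIn M (C.hN htN)) f).1 hf)
    have h2 : n₁ * (t * a₀ * t⁻¹) * n₁⁻¹ = f' * (t * a₁ * t⁻¹) * f'⁻¹ := by
      have hc : f * n₁ * t = t * (f * n₁) := mem_centralizer_singleton_iff.1 hn
      have e : f' * t * n₁ = n₁ * t := by
        calc f' * t * n₁ = f⁻¹ * (t * (f * n₁)) := by rw [hf']; group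
          _ = n₁ * t := by rw [← hc]; group
      calc n₁ * (t * a₀ * t⁻¹) * n₁⁻¹ = (n₁ * t) * a₀ * (n₁ * t)⁻¹ := by group
        _ = f' * (t * a₁ * t⁻¹) * f'⁻¹ := by rw [← e, ha₁]; group
    have h3 : n₁ * (t * a₀ * t⁻¹) * n₁⁻¹ = t * a₁ * t⁻¹ := by
      rw [h2]
      exact C.conj_oddIn_eq hf'θ (hconj a₁ ha₁A)
        (h2 ▸ (mem_normalizer_iff.1 hn₁ _).1 (hconj a₀ ha₀))
    rw [← h1]
    show a₁ * (t * a₁ * t⁻¹) = n₁ * (a₀ * (t * a₀ * t⁻¹)) * n₁⁻¹
    rw [← h3, ha₁]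
    group
  let δ' : A →* A := MonoidHom.mk' (fun a => ⟨δ a, (hδB a a.2).1⟩) fun a b => Subtype.ext (by
    show δ ((a : G) * b) = δ a * δ b
    simp only [hδ]
    rw [show t * ((a : G) * b) * t⁻¹ = (t * a * t⁻¹) * (t * b * t⁻¹) by group, mul_assoc (a : G) b,
      ← mul_assoc (b : G) (t * a * t⁻¹), C.hA.comm b.2 (hconj a a.2)]
    group)
  have hker : δ'.ker.map A.subtype = B := by
    ext x
    constructor
    · rintro ⟨a, ha, rfl⟩
      have h : (a : G) * (t * a * t⁻¹) = 1 := congrArg Subtype.val ha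
      have h1 : t * (a : G) * t⁻¹ = a := (eq_inv_of_mul_eq_one_right h).trans (C.hA.inv a.2)
      exact mem_inf.2 ⟨a.2, mem_centralizer_singleton_iff.2 (mul_inv_eq_iff_eq_mul.1 h1).symm⟩
    · intro hx
      refine ⟨⟨x, hx.1⟩, Subtype.ext ?_, rfl⟩
      show x * (t * x * t⁻¹) = 1
      rw [← mem_centralizer_singleton_iff.1 hx.2, mul_inv_cancel_right, C.hA.sq hx.1]
  have hrange : δ'.range.map A.subtype = B := by
    ext x
    constructor
    · rintro ⟨_, ⟨a, rfl⟩, rfl⟩; exact hδB a a.2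
    · intro hx
      obtain ⟨a, ha, he⟩ := honto x hx
      exact ⟨_, ⟨⟨a, ha⟩, rfl⟩, he⟩
  have hcard : Nat.card A = Nat.card B * Nat.card B := by
    rw [card_eq_card_quotient_mul_card_subgroup δ'.ker,
      Nat.card_congr (QuotientGroup.quotientKerEquivRange δ').toEquiv]
    conv_rhs => arg 1; rw [← hrange, card_map_of_injective A.subtype_injective]
    conv_rhs => arg 2; rw [← hker, card_map_of_injective A.subtype_injective]
  have := C.odd_log (k := (2 * W.Φ.m + 1) + (2 * W.Φ.m + 1)) (by rw [pow_add, hcard, W.card_eq])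
  exact Nat.not_even_iff_odd.2 this ⟨_, rfl⟩

/-- A bad involution is core-conjugate into the centraliser of `A`. -/
theorem exists_conj_cent {t : G} (ht : BadAt M t) :
    ∃ d ∈ oddIn M, d * t * d⁻¹ ∈ centralizer (A : Set G) := by
  obtain ⟨d, hd, hdN⟩ := C.exists_conj_normalizer (two_group_zpowers ht.1) (zpowers_le.2 ht.2.2.1)
  exact ⟨d, hd, C.comm_A (ht.conj (oddIn_le M hd)) (hdN t (mem_zpowers t))⟩

/-- A proper subgroup over `A` outside `M` gives a line. -/
theorem exists_line_top {Y : Subgroup G} (hY : Y ≠ ⊤) (hAY : A ≤ Y) (hYM : ¬ Y ≤ M) :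
    Nonempty (Line M Y A) :=
  exists_line C.hG hY (C.hA.scIn hAY)
    (C.odd_le_M le_rfl (le_trans (by norm_num) C.hA.card_ge) (hAY.trans (normalizer_oddIn _))
      (odd_oddIn _))
    (fun _ hn => C.hN hn.2) C.hC C.hA.ne_bot hYM

end Ctx

end Cfsg.Agent.ThreePrime
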