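import Cfsg.Agent.Lib.ThreePrime.Setup
import Cfsg.Agent.Lib.Solvable.Coprime
import Cfsg.Agent.Lib.Transfer.Basic
import Cfsg.Agent.Lib.Signalizer.Basic
import Cfsg.Agent.Lib.LocalEven.Large

/-!
# Simple groups of order prime to three, the end lemma: the core and the points
-/

set_option autoImplicit false
set_option linter.style.haveILetI false
set_option linter.unusedSectionVars false

namespace Cfsg.Agent.ThreePrime

open Subgroup

universe u

variable {G : Type u} [Group G]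

/-- The hypotheses of the end lemma. -/
structure Ctx (S : Sylow 2 G) (A M : Subgroup G) : Prop where
  hG : Min3 G
  hA : Closed A S
  hM : M ≠ ⊤
  hN : normalizer (A : Set G) ≤ M
  hC : ∀ a ∈ A, a ≠ 1 → centralizer ({a} : Set G) ≤ M
  hdec : ∀ x ∈ M, ∃ c ∈ oddIn M, ∃ n ∈ normalizer (A : Set G), x = c * n

theorem oddIn_le (M : Subgroup G) : oddIn M ≤ M := map_subtype_le _

theorem normalizer_oddIn (M : Subgroup G) : M ≤ normalizer (oddIn M : Set G) := by
  exact (LEBasic.le_normalizer_map_of_characteristic (PBasic.pPrimeCore_characteristic 2 M)).trans' le_normalizer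

variable [Finite G]

theorem odd_sup {A B : Subgroup G} (hA : Odd (Nat.card A)) (hB : Odd (Nat.card B))
    (h : B ≤ normalizer (A : Set G)) : Odd (Nat.card (A ⊔ B : Subgroup G)) := by
  set L := B ⊔ A with hL
  have hLN : L ≤ normalizer (A : Set G) := sup_le h le_normalizer
  haveI : (A.subgroupOf L).Normal := normal_subgroupOf_of_le_normalizer hLN
  have h1 : (A.subgroupOf L).relIndex (B.subgroupOf L ⊔ A.subgroupOf L) =
      (A.subgroupOf L).relIndex (B.subgroupOf L) := relIndex_sup_right _ _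
  rw [← subgroupOf_sup le_sup_left le_sup_right, relIndex_subgroupOf le_rfl,
    relIndex_subgroupOf le_sup_left] at h1
  have h2 : Nat.card L = Nat.card A * A.relIndex L := by
    rw [← relIndex_bot_left, ← relIndex_bot_left, relIndex_mul_relIndex _ _ _ bot_le le_sup_right]
  have h3 : A.relIndex B ∣ Nat.card B := by
    rw [← inf_relIndex_right A B, ← relIndex_bot_left B]
    exact relIndex_dvd_of_le_left B bot_le
  rw [sup_comm, ← hL, h2, h1]
  exact hA.mul (Odd.of_dvd_nat hB h3)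

theorem odd_oddIn (M : Subgroup G) : Odd (Nat.card (oddIn M)) := by
  haveI : Fact (Nat.Prime 2) := ⟨Nat.prime_two⟩
  rw [oddIn, card_map_of_injective M.subtype_injective]
  exact Nat.coprime_two_right.1 (FittingCores.pPrimeCore_coprime 2)

/-- A normal subgroup of odd order of `M` lies in the core. -/
theorem le_oddIn {M R : Subgroup G} (hR : R ≤ M) (hn : M ≤ normalizer (R : Set G))
    (ho : Odd (Nat.card R)) : R ≤ oddIn M := by
  haveI : (R.subgroupOf M).Normal := (normal_subgroupOf_iff_le_normalizer hR).2 hn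
  have hc : (Nat.card (R.subgroupOf M)).Coprime 2 := by
    rw [Nat.card_congr (subgroupOfEquivOfLe hR).toEquiv]
    exact Nat.coprime_two_right.2 ho
  have h := map_mono (f := M.subtype) (PBasic.le_pPrimeCore (p := 2) inferInstance hc)
  rwa [map_subgroupOf_eq_of_le hR] at h

theorem two_group_inf_odd {P R : Subgroup G} (hP : IsPGroup 2 P) (hR : Odd (Nat.card R)) {x : G}
    (hx : x ∈ P) (hx' : x ∈ R) : x = 1 := by
  haveI : Fact (Nat.Prime 2) := ⟨Nat.prime_two⟩
  obtain ⟨k, hk⟩ := (IsPGroup.iff_card.1 hP)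
  have h1 : orderOf x ∣ 2 ^ k := hk ▸ orderOf_dvd_natCard P hx
  have h2 : orderOf x ∣ Nat.card R := orderOf_dvd_natCard R hx'
  have h3 := Nat.dvd_gcd h1 h2
  rw [Nat.Coprime.gcd_eq_one (Nat.Coprime.pow_left k (Nat.coprime_two_left.2 hR))] at h3
  exact orderOf_eq_one_iff.1 (Nat.dvd_one.1 h3)

/-- An elementary abelian group acting on a group of odd order: generation by the centralisers. -/
theorem odd_le_of_centralizers {E R X : Subgroup G} (hE : Cfsg.IsElementaryAbelian 2 E)
    (h4 : 4 ≤ Nat.card E) (hn : E ≤ normalizer (R : Set G)) (hodd : Odd (Nat.card R))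
    (h : ∀ a ∈ E, a ≠ 1 → R ⊓ centralizer ({a} : Set G) ≤ X) : R ≤ X := by
  haveI : Fact (Nat.Prime 2) := ⟨Nat.prime_two⟩
  haveI := hE.1
  have hp : IsPGroup 2 E := fun x => ⟨1, Subtype.ext (by rw [pow_one]; exact hE.2 x x.2)⟩
  obtain ⟨k, hk⟩ := IsPGroup.iff_card.1 hp
  have hcyc : ¬ IsCyclic E := fun hc => by
    have h2 : Monoid.exponent E ∣ 2 :=
      Monoid.exponent_dvd_of_forall_pow_eq_one fun x => Subtype.ext (hE.2 x x.2)
    have h3 := IsCyclic.exponent_eq_card (α := E)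
    have h5 := Nat.le_of_dvd (by norm_num) (h3 ▸ h2)
    omega
  have hcop : (Nat.card E).Coprime (Nat.card R) :=
    hk ▸ Nat.Coprime.pow_left k (Nat.coprime_two_left.2 hodd)
  calc R = ⨆ a ∈ {a : G | a ∈ E ∧ a ≠ 1}, R ⊓ centralizer {a} :=
        (CoprimeAct.generated_by_centralizers hcyc hn hcop).symm
    _ ≤ X := iSup₂_le fun a ha => h a ha.1 ha.2

namespace Ctx

variable {S : Sylow 2 G} {A M : Subgroup G} (C : Ctx S A M)
include C

theorem A_le : A ≤ M := le_normalizer.trans C.hN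

theorem S_le : (S : Subgroup G) ≤ M := C.hA.sylow_le_normalizer.trans C.hN

/-- A `2`-subgroup of `M` is conjugate into `N(A)` under the core. -/
theorem exists_conj_normalizer {P : Subgroup G} (hP : IsPGroup 2 P) (hPM : P ≤ M) :
    ∃ d ∈ oddIn M, ∀ x ∈ P, d * x * d⁻¹ ∈ normalizer (A : Set G) := by
  haveI : Fact (Nat.Prime 2) := ⟨Nat.prime_two⟩
  obtain ⟨T, hT⟩ := IsPGroup.exists_le_sylow
    (P := P.subgroupOf M) (hP.comap_of_injective M.subtype M.subtype_injective)
  obtain ⟨g, hg⟩ := MulAction.exists_smul_eq M T (S.subtype C.S_le)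
  obtain ⟨c, hc, n, hn, he⟩ := C.hdec g g.2
  have hnM : n ∈ M := C.hN hn
  refine ⟨n⁻¹ * c * n, by
    simpa using (mem_normalizer_iff.1 (normalizer_oddIn M (inv_mem hnM)) c).1 hc, fun x hx => ?_⟩
  have hxT : (⟨x, hPM hx⟩ : M) ∈ (T : Subgroup M) := hT hx
  have h1 : g * ⟨x, hPM hx⟩ * g⁻¹ ∈ ((g • T : Sylow 2 M) : Subgroup M) := by
    rw [Sylow.coe_subgroup_smul]
    exact ⟨_, hxT, rfl⟩
  rw [hg] at h1
  have h2 : (g : G) * x * (g : G)⁻¹ ∈ normalizer (A : Set G) :=
    C.hA.sylow_le_normalizer h1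
  rw [show n⁻¹ * c * n * x * (n⁻¹ * c * n)⁻¹ = n⁻¹ * ((g : G) * x * (g : G)⁻¹) * n by rw [he]; group]
  exact mul_mem (mul_mem (inv_mem hn) h2) hn

/-- An element of a conjugate class of `A#` in `M` is core-conjugate into `A`. -/
theorem class_mem {a g : G} (ha : a ∈ A) (ha1 : a ≠ 1) (h : g * a * g⁻¹ ∈ M) :
    g ∈ M ∧ ∃ d ∈ oddIn M, d * (g * a * g⁻¹) * d⁻¹ ∈ A := by
  haveI : Fact (Nat.Prime 2) := ⟨Nat.prime_two⟩
  set x := g * a * g⁻¹ with hx
  have hxx : x * x = 1 := by
    rw [hx, show g * a * g⁻¹ * (g * a * g⁻¹) = g * (a * a) * g⁻¹ by group, C.hA.sq ha]; group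
  have hz : ∀ {w : G}, w * w = 1 → IsPGroup 2 (zpowers w) := by
    rintro w hw ⟨_, i, rfl⟩
    refine ⟨1, Subtype.ext ?_⟩
    show (w ^ i) ^ 2 ^ 1 = 1
    rw [pow_one, ← zpow_natCast, zpow_comm, zpow_natCast, pow_two, hw, one_zpow]
  obtain ⟨d, hd, hdx⟩ := C.exists_conj_normalizer (hz hxx) (zpowers_le.2 h)
  have hy := hdx x (mem_zpowers x)
  have hyy : d * x * d⁻¹ * (d * x * d⁻¹) = 1 := by
    rw [show d * x * d⁻¹ * (d * x * d⁻¹) = d * (x * x) * d⁻¹ by group, hxx]; group
  have hP : IsPGroup 2 (zpowers (d * x * d⁻¹) ⊔ A : Subgroup G) :=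
    IsPGroup.to_sup_of_normal_right' (hz hyy) C.hA.isPGroup (zpowers_le.2 hy)
  have he : d * x * d⁻¹ = d * g * a * (d * g)⁻¹ := by rw [hx]; group
  have hmem : d * x * d⁻¹ ∈ A := by
    rw [he]
    exact C.hA.mem_of_conj hP le_sup_right ha (he ▸ mem_sup_left (mem_zpowers _))
  refine ⟨?_, d, hd, hmem⟩
  have hdg := C.hA.mem_of_fusion C.hN C.hC ha ha1 (k := d * g) (he ▸ hmem)
  simpa using mul_mem (inv_mem (oddIn_le M hd)) hdg

/-- An element of `A#` fixes only the point `M`. -/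
theorem fix_one {a : G} (ha : a ∈ A) (ha1 : a ≠ 1) (g : G) :
    a • (g : G ⧸ M) = (g : G ⧸ M) ↔ g ∈ M := by
  rw [MulAction.Quotient.smul_mk, smul_eq_mul, QuotientGroup.eq]
  refine ⟨fun h => ?_, fun h => mul_mem (inv_mem (mul_mem (C.A_le ha) h)) h⟩
  have h2 : g⁻¹ * a * g⁻¹⁻¹ ∈ M := by
    have h3 := inv_mem h
    simpa [mul_assoc] using h3
  simpa using inv_mem (C.class_mem ha ha1 h2).1

/-- A subgroup of `M` of odd order normalised by `A` and by `C(A)` lies in the core. -/
theorem odd_le_oddIn {R : Subgroup G} (hR : R ≤ M) (hA' : A ≤ normalizer (R : Set G))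
    (hCA : centralizer (A : Set G) ≤ normalizer (R : Set G)) (ho : Odd (Nat.card R)) :
    R ≤ oddIn M := by
  haveI : Fact (Nat.Prime 2) := ⟨Nat.prime_two⟩
  set θ := oddIn M with hθ
  have hRn : R ≤ normalizer (θ : Set G) := hR.trans (normalizer_oddIn M)
  have hsup : Odd (Nat.card (θ ⊔ R : Subgroup G)) := by
    exact odd_sup (odd_oddIn M) ho hRn
  set R' := (θ ⊔ R) ⊓ centralizer (A : Set G) with hR'
  have hcov : R ≤ θ ⊔ R' := by
    intro r hr
    obtain ⟨c, hc, n, hn, rfl⟩ := C.hdec r (hR hr)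
    have hnR : n ∈ θ ⊔ R := by
      have := mul_mem (mem_sup_left (T := R) (inv_mem hc)) (mem_sup_right (S := θ) hr)
      simpa using this
    refine mul_mem (mem_sup_left hc) (mem_sup_right (mem_inf.2 ⟨hnR, ?_⟩))
    rw [mem_centralizer_iff]
    intro a ha
    have h1 : n * a * n⁻¹ * a⁻¹ ∈ A := mul_mem ((mem_normalizer_iff.1 hn a).1 ha) (inv_mem ha)
    have h2 : a * n⁻¹ * a⁻¹ ∈ θ ⊔ R := by
      have haN : a ∈ normalizer ((θ ⊔ R : Subgroup G) : Set G) :=
        (le_inf (C.A_le.trans (normalizer_oddIn M)) hA').trans (normalizer_inf_normalizer_le_normalizer_sup θ R) ha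
      exact (mem_normalizer_iff.1 haN n⁻¹).1 (inv_mem hnR)
    have h3 : n * a * n⁻¹ * a⁻¹ ∈ θ ⊔ R := by
      rw [show n * a * n⁻¹ * a⁻¹ = n * (a * n⁻¹ * a⁻¹) by group]
      exact mul_mem hnR h2
    have h4 := two_group_inf_odd C.hA.isPGroup hsup h1 h3
    calc a * n = (n * a * n⁻¹ * a⁻¹)⁻¹ * (n * a) := by group
      _ = n * a := by rw [h4]; group
  have hC' : centralizer (A : Set G) ≤ normalizer (R' : Set G) := by
    intro z hz
    have hz1 : z ∈ normalizer ((θ ⊔ R : Subgroup G) : Set G) :=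
      normalizer_inf_normalizer_le_normalizer_sup θ R ⟨normalizer_oddIn M (C.hN (C.hA.centralizer_le_normalizer hz)), hCA hz⟩
    rw [mem_normalizer_iff]
    intro w
    rw [mem_inf, mem_inf, ← mem_normalizer_iff.1 hz1 w,
      ← mem_normalizer_iff.1 (le_normalizer hz) w]
  -- the core of `C(A)`
  set CA := centralizer (A : Set G) with hCAdef
  have hoC : R' ≤ oddIn CA :=
    le_oddIn inf_le_right hC' (Odd.of_dvd_nat hsup (card_dvd_of_le inf_le_left))
  have hnC : normalizer (A : Set G) ≤ normalizer (oddIn CA : Set G) :=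
    (LELarge.normalizer_le_normalizer_centralizer A).trans
      (LEBasic.le_normalizer_map_of_characteristic (PBasic.pPrimeCore_characteristic 2 CA))
  have hoCM : oddIn CA ≤ M := (oddIn_le CA).trans (C.hA.centralizer_le_normalizer.trans C.hN)
  have hbig : θ ⊔ oddIn CA ≤ θ := by
    refine le_oddIn (sup_le (oddIn_le M) hoCM) (fun m hm => ?_) ?_
    · obtain ⟨c, hc, n, hn, rfl⟩ := C.hdec m hm
      refine mul_mem (le_normalizer (mem_sup_left hc)) ?_
      exact normalizer_inf_normalizer_le_normalizer_sup θ (oddIn CA) ⟨normalizer_oddIn M (C.hN hn), hnC hn⟩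
    · exact odd_sup (odd_oddIn M) (odd_oddIn CA) (hoCM.trans (normalizer_oddIn M))
  exact hcov.trans (sup_le le_rfl ((hoC.trans le_sup_right).trans hbig))

/-- The core of the centraliser of an element of `A#` lies in the core. -/
theorem oddCore_le {a : G} (ha : a ∈ A) (ha1 : a ≠ 1) :
    Cfsg.centralizerPPrimeCore 2 a ≤ oddIn M := by
  have hAc : A ≤ centralizer ({a} : Set G) := C.hA.le_centralizer ha
  refine C.odd_le_oddIn ((map_subtype_le _).trans (C.hC a ha ha1))
    (hAc.trans (normalizer_oddIn _)) ((centralizer_le (Set.singleton_subset_iff.2 ha)).trans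
      (normalizer_oddIn _)) (odd_oddIn _)

/-- The core meets the centraliser of `a` in the core of the centraliser. -/
theorem inf_centralizer_eq {a : G} (ha : a ∈ A) (ha1 : a ≠ 1) :
    oddIn M ⊓ centralizer ({a} : Set G) = Cfsg.centralizerPPrimeCore 2 a := by
  refine le_antisymm ?_ (le_inf (C.oddCore_le ha ha1) (map_subtype_le _))
  refine le_oddIn inf_le_right (fun c hc => ?_) (Odd.of_dvd_nat (odd_oddIn M)
    (card_dvd_of_le inf_le_left))
  rw [mem_normalizer_iff]
  intro w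
  rw [mem_inf, mem_inf, ← mem_normalizer_iff.1 (normalizer_oddIn M (C.hC a ha ha1 hc)) w,
    ← mem_normalizer_iff.1 (le_normalizer hc) w]

/-- A subgroup of odd order normalised by a subgroup of order at least four of `A` lies in `M`. -/
theorem odd_le_M {B R : Subgroup G} (hB : B ≤ A) (h4 : 4 ≤ Nat.card B)
    (hn : B ≤ normalizer (R : Set G)) (ho : Odd (Nat.card R)) : R ≤ M := by
  have hBE : Cfsg.IsElementaryAbelian 2 B := Signalizer.ea_mono C.hA.ea hB
  exact odd_le_of_centralizers hBE h4 hn ho fun a ha ha1 => inf_le_right.trans (C.hC a (hB ha) ha1)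

/-- The core of a proper subgroup over `M` lies in the core of `M`. -/
theorem oddIn_le_of_le {M₂ : Subgroup G} (h : M ≤ M₂) : oddIn M₂ ≤ oddIn M := by
  have h4 : 4 ≤ Nat.card A := le_trans (by norm_num) C.hA.card_ge
  have hn : M ≤ normalizer (oddIn M₂ : Set G) := h.trans (normalizer_oddIn M₂)
  exact le_oddIn (C.odd_le_M le_rfl h4 (C.A_le.trans hn) (odd_oddIn M₂)) hn (odd_oddIn M₂)

end Ctx

end Cfsg.Agent.ThreePrime
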