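import Cfsg.Agent.Lib.ThreePrime.End.Tools
import Cfsg.Agent.Lib.Solvable.ScnCentralizer
import Cfsg.Agent.Lib.PLocal.ZJStable
import Cfsg.Agent.Lib.Components.Fitting
import Cfsg.Agent.Lib.PushUp3.Final

/-!
# The core argument of the end lemma

From the local facts `Loc` on a bad involution `t` centralising `A` we derive a contradiction: the
Bender method (two primes in `F(θ)`) and the `ZJ`-theorem in a solvable subgroup (one prime).
-/

set_option autoImplicit false
set_option linter.style.haveILetI false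
set_option linter.unusedSectionVars false

namespace Cfsg.Agent.ThreePrime

open Subgroup
open Cfsg (pCoreOf fittingOf)
open scoped commutatorElement Pointwise

universe u

variable {G : Type u} [Group G]

/-- The preimage of `O_2(M/O(M))`. -/
def twoIn (M : Subgroup G) : Subgroup G :=
  haveI : (Cfsg.pPrimeCore 2 ↥M).Normal := FittingCores.pPrimeCore_normal 2
  ((Cfsg.pCore 2 (↥M ⧸ Cfsg.pPrimeCore 2 ↥M)).comap (QuotientGroup.mk' _)).map M.subtype

/-- A proper subgroup over `A` and `t` covering `C(t)` modulo its core. -/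
structure Cov (t : G) (A H : Subgroup G) : Prop where
  proper : H ≠ ⊤
  leA : A ≤ H
  mem : t ∈ H
  cover : centralizer ({t} : Set G) ≤
    Cfsg.centralizerPPrimeCore 2 t ⊔ (centralizer ({t} : Set G) ⊓ H)

/-- The local facts on the involution `t` used by the core argument. -/
structure Loc (A M : Subgroup G) (t : G) : Prop where
  t2 : t * t = 1
  t1 : t ≠ 1
  tA : t ∈ centralizer (A : Set G)
  V0_le : Cfsg.centralizerPPrimeCore 2 t ≤ oddIn M
  le_V0 : oddIn M ⊓ centralizer ({t} : Set G) ≤ Cfsg.centralizerPPrimeCore 2 t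
  move : ∃ g ∈ M, g * t * g⁻¹ * t ∈ A ∧ g * t * g⁻¹ ≠ t
  cov_core : ∀ H : Subgroup G, Cov t A H → oddIn M ⊓ H ≤ oddIn H
  cov_V0 : ∀ H : Subgroup G, Cov t A H →
    oddIn H ⊓ centralizer ({t} : Set G) ≤ Cfsg.centralizerPPrimeCore 2 t
  cov_central : ∀ H : Subgroup G, Cov t A H → ∀ h ∈ H, h * t * h⁻¹ * t ∈ oddIn H
  cF : centralizer (fittingOf (oddIn M) : Set G) ⊓ M ≤ fittingOf (oddIn M)
  fstar : ∀ R : Subgroup G, R ≤ M → Odd (Nat.card R) → oddIn M ≤ R →
    centralizer ({t} : Set G) ⊓ M ≤ normalizer (R : Set G) → (∀ x ∈ R, t * x * t * x ∈ oddIn M) →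
    (∀ u ∈ twoIn M, ∀ x ∈ R, ⁅x, u⁆ ∈ oddIn M) → R ≤ oddIn M

variable [Finite G] {S : Sylow 2 G} {A M : Subgroup G} {t : G}

theorem Cov.mono {H H' : Subgroup G} (h : Cov t A H) (hle : H ≤ H') (h' : H' ≠ ⊤) : Cov t A H' :=
  ⟨h', h.leA.trans hle, hle h.mem, h.cover.trans (sup_le_sup_left (inf_le_inf_left _ hle) _)⟩

theorem twoIn_facts (M : Subgroup G) : twoIn M ≤ M ∧ oddIn M ≤ twoIn M ∧
    M ≤ normalizer (twoIn M : Set G) ∧
    (∀ x ∈ twoIn M, Odd (orderOf x) → x ∈ oddIn M) ∧ Group.IsSolvable (twoIn M) := by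
  haveI : Fact (Nat.Prime 2) := ⟨Nat.prime_two⟩
  haveI hN : (Cfsg.pPrimeCore 2 ↥M).Normal := FittingCores.pPrimeCore_normal 2
  set f := QuotientGroup.mk' (Cfsg.pPrimeCore 2 ↥M) with hf
  set U := (Cfsg.pCore 2 (↥M ⧸ Cfsg.pPrimeCore 2 ↥M)).comap f with hU
  haveI : (Cfsg.pCore 2 (↥M ⧸ Cfsg.pPrimeCore 2 ↥M)).Normal := FittingCores.pCore_normal 2
  haveI hUn : U.Normal := Normal.comap ‹_› f
  have h2 := FittingCores.pCore_isPGroup 2 (G := ↥M ⧸ Cfsg.pPrimeCore 2 ↥M)
  have hle : Cfsg.pPrimeCore 2 ↥M ≤ U := fun x hx => by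
    rw [hU, mem_comap, hf, QuotientGroup.mk'_apply, (QuotientGroup.eq_one_iff x).2 hx]
    exact one_mem _
  refine ⟨map_subtype_le _, map_mono hle, AxB.le_normalizer_map_subtype hUn, ?_, ?_⟩
  · rintro _ ⟨x, hx, rfl⟩ ho
    refine ⟨x, ?_, rfl⟩
    rw [coe_subtype, orderOf_coe] at ho
    obtain ⟨k, hk⟩ := h2 ⟨f x, hx⟩
    have hk' : f x ^ 2 ^ k = 1 := congrArg Subtype.val hk
    have h1 : orderOf (f x) = 1 :=
      Nat.eq_one_of_dvd_coprimes ((Nat.coprime_two_left.2 ho).pow_left k)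
        (orderOf_dvd_of_pow_eq_one hk') (orderOf_map_dvd f x)
    rwa [orderOf_eq_one_iff, hf, QuotientGroup.mk'_apply, QuotientGroup.eq_one_iff] at h1
  · haveI : Group.IsSolvable ↥(Cfsg.pPrimeCore 2 ↥M) :=
      OddChar.oddSolvable _ (Nat.coprime_two_right.1 (FittingCores.pPrimeCore_coprime 2))
    haveI : Group.IsSolvable ↥((Cfsg.pPrimeCore 2 ↥M).subgroupOf U) :=
      Group.isSolvable_of_isSolvable_injective (f := (subgroupOfEquivOfLe hle).toMonoidHom)
        (subgroupOfEquivOfLe hle).injective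
    let g : U →* Cfsg.pCore 2 (↥M ⧸ Cfsg.pPrimeCore 2 ↥M) := f.subgroupComap _
    haveI : Group.IsNilpotent ↥(Cfsg.pCore 2 (↥M ⧸ Cfsg.pPrimeCore 2 ↥M)) := h2.isNilpotent
    haveI : Group.IsSolvable ↥U := by
      refine Group.isSolvable_of_ker_le_range ((Cfsg.pPrimeCore 2 ↥M).subgroupOf U).subtype g ?_
      intro x hx
      refine ⟨⟨x, ?_⟩, rfl⟩
      have : f x = 1 := congrArg Subtype.val hx
      rwa [hf, QuotientGroup.mk'_apply, QuotientGroup.eq_one_iff] at this
    exact Group.isSolvable_of_isSolvable_injective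
      (f := (U.equivMapOfInjective M.subtype M.subtype_injective).symm.toMonoidHom)
      (U.equivMapOfInjective M.subtype M.subtype_injective).symm.injective

namespace Ctx

variable (C : Ctx S A M) (L : Loc A M t)
include C L


theorem t_mem_cent : t ∈ (centralizer ({t} : Set G)) := mem_centralizer_singleton_iff.2 rfl

theorem A_le_cent : A ≤ (centralizer ({t} : Set G)) := fun a ha =>
  mem_centralizer_singleton_iff.2 (mem_centralizer_iff.1 L.tA a ha)

theorem tM : t ∈ M := C.hN (C.hA.centralizer_le_normalizer L.tA)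

theorem cov_cent : Cov t A (centralizer ({t} : Set G)) :=
  ⟨C.hG.centralizer_ne_top L.t1, C.A_le_cent L, C.t_mem_cent L, by rw [inf_idem]; exact le_sup_right⟩

theorem V_normal : (centralizer ({t} : Set G)) ≤ normalizer ((Cfsg.centralizerPPrimeCore 2 t) : Set G) := normalizer_oddIn _

/-- An element of `C(t)` is a product of an element of a covering subgroup and a core element. -/
theorem cov_split {H : Subgroup G} (hH : Cov t A H) {g : G} (hg : g ∈ (centralizer ({t} : Set G))) :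
    ∃ x ∈ (centralizer ({t} : Set G)) ⊓ H, ∃ v ∈ (Cfsg.centralizerPPrimeCore 2 t), g = x * v := by
  have h := hH.cover hg
  rw [sup_comm] at h
  have e := coe_mul_of_left_le_normalizer_right ((centralizer ({t} : Set G)) ⊓ H) (Cfsg.centralizerPPrimeCore 2 t) (inf_le_left.trans (C.V_normal L))
  rw [← SetLike.mem_coe, e] at h
  obtain ⟨x, hx, v, hv, rfl⟩ := Set.mem_mul.1 h
  exact ⟨x, hx, v, hv, rfl⟩

/-- A covering subgroup has its core in every conjugate of `M` at the line. -/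
theorem cov_odd_le {H : Subgroup G} (hH : Cov t A H) {g : G} (hg : g ∈ (centralizer ({t} : Set G))) {w : G}
    (hw : w ∈ oddIn H) : g⁻¹ * w * g ∈ M := by
  have h4 : 4 ≤ Nat.card A := le_trans (by norm_num) C.hA.card_ge
  have hle : oddIn H ≤ M := C.odd_le_M le_rfl h4 (hH.leA.trans (normalizer_oddIn H)) (odd_oddIn H)
  obtain ⟨x, hx, v, hv, rfl⟩ := C.cov_split L hH hg
  have h1 : x⁻¹ * w * x ∈ oddIn H := (mem_normalizer_iff''.1 (normalizer_oddIn H hx.2) w).1 hw
  have hvM : v ∈ M := oddIn_le M (L.V0_le hv)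
  rw [show (x * v)⁻¹ * w * (x * v) = v⁻¹ * (x⁻¹ * w * x) * v by group]
  exact mul_mem (mul_mem (inv_mem hvM) (hle h1)) hvM

/-- No covering subgroup contains `M`. -/
theorem cov_contra {H : Subgroup G} (hH : Cov t A H) (hM : M ≤ H) : False := by
  obtain ⟨g, hg, hgA, hne⟩ := L.move
  have h1 : g * t * g⁻¹ * t = 1 :=
    two_group_inf_odd C.hA.isPGroup (odd_oddIn H) hgA (L.cov_central H hH g (hM hg))
  exact hne (by rw [← inv_eq_of_mul_eq_one_left h1, inv_eq_of_mul_eq_one_right L.t2])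

/-- The normaliser of an invariant Sylow subgroup of the core of a covering subgroup covers. -/
theorem cov_sylow {H : Subgroup G} (hH : Cov t A H) {π : ℕ} [Fact π.Prime]
    (P₁ : Sylow π ↥(oddIn H))
    (hAP : A ≤ normalizer (((P₁ : Subgroup ↥(oddIn H)).map (oddIn H).subtype : Subgroup G) : Set G))
    (htP : t ∈ normalizer (((P₁ : Subgroup ↥(oddIn H)).map (oddIn H).subtype : Subgroup G) : Set G))
    (hne : (P₁ : Subgroup ↥(oddIn H)).map (oddIn H).subtype ≠ ⊥) :
    Cov t A (normalizer (((P₁ : Subgroup ↥(oddIn H)).map (oddIn H).subtype : Subgroup G) : Set G)) := by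
  set Q := (P₁ : Subgroup ↥(oddIn H)).map (oddIn H).subtype with hQ
  refine ⟨C.hG.normalizer_ne_top C.hA hne
    (Odd.of_dvd_nat (odd_oddIn H) (card_dvd_of_le (map_subtype_le _))), hAP, htP, ?_⟩
  refine hH.cover.trans (sup_le le_sup_left ?_)
  intro x hx
  have hxN : x ∈ normalizer (oddIn H : Set G) := normalizer_oddIn H hx.2
  -- `x P₁ x⁻¹` is another `t`-invariant Sylow subgroup of the core
  let φ : ↥(oddIn H) ≃* ↥(oddIn H) := (oddIn H).normalizerMonoidHom ⟨x, hxN⟩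
  let P₂ : Sylow π ↥(oddIn H) := P₁.comapOfInjective φ.symm.toMonoidHom φ.symm.injective (by
    intro y _; exact ⟨φ y, φ.symm_apply_apply y⟩)
  have hP₂ : ∀ y : ↥(oddIn H), y ∈ (P₂ : Subgroup ↥(oddIn H)) ↔ x⁻¹ * (y : G) * x ∈ Q := by
    intro y
    have hmem : x⁻¹ * (y : G) * x ∈ oddIn H := (mem_normalizer_iff''.1 hxN _).1 y.2
    have hφ : φ ⟨_, hmem⟩ = y := Subtype.ext (by
      show x * (x⁻¹ * (y : G) * x) * x⁻¹ = y
      group)
    have e : ((φ.symm y : ↥(oddIn H)) : G) = x⁻¹ * (y : G) * x := by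
      conv_lhs => rw [← hφ, MulEquiv.symm_apply_apply]
    show φ.symm y ∈ (P₁ : Subgroup ↥(oddIn H)) ↔ _
    exact ⟨fun h => ⟨_, h, e⟩, fun ⟨z, hz, hze⟩ => (Subtype.ext (hze.trans e.symm) : z = φ.symm y) ▸ hz⟩
  have htP₂ : zpowers t ≤
      normalizer ((((P₂ : Subgroup ↥(oddIn H))).map (oddIn H).subtype : Subgroup G) : Set G) := by
    rw [zpowers_le]
    refine mem_normalizer_fintype ?_
    rintro _ ⟨y, hy, rfl⟩
    have htH : t * (y : G) * t⁻¹ ∈ oddIn H :=
      (mem_normalizer_iff.1 (normalizer_oddIn H hH.mem) _).1 y.2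
    refine ⟨⟨_, htH⟩, (hP₂ _).2 ?_, rfl⟩
    have hxt : x⁻¹ * t = t * x⁻¹ :=
      ((mem_centralizer_singleton_iff.1 hx.1 : x * t = t * x) |> fun h =>
        (show Commute x t from h).inv_left.eq)
    have htx : t⁻¹ * x = x * t⁻¹ :=
      ((show Commute x t from mem_centralizer_singleton_iff.1 hx.1).inv_right).eq.symm
    show x⁻¹ * (t * (y : G) * t⁻¹) * x ∈ Q
    rw [show x⁻¹ * (t * (y : G) * t⁻¹) * x = (x⁻¹ * t) * y * (t⁻¹ * x) by group, hxt, htx,
      show t * x⁻¹ * (y : G) * (x * t⁻¹) = t * (x⁻¹ * y * x) * t⁻¹ by group]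
    exact (mem_normalizer_iff.1 htP _).1 ((hP₂ y).1 hy)
  obtain ⟨c, hc, hcP⟩ := CoprimeAct.invariant_sylow_conj
    (A := zpowers t) (zpowers_le.2 (normalizer_oddIn H hH.mem))
    (coprime_zpowers L.t2 (odd_oddIn H)) (Or.inr (solvable_of_odd' (odd_oddIn H))) P₁ P₂
    (zpowers_le.2 htP) htP₂
  have hct : (c : G) ∈ (centralizer ({t} : Set G)) := by
    rw [mem_centralizer_singleton_iff]
    exact (mem_centralizer_iff.1 hc t (mem_zpowers t)).symm
  have hcN : (c : G)⁻¹ * x ∈ normalizer (Q : Set G) := by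
    refine mem_normalizer_fintype ?_
    rintro _ ⟨y, hy, rfl⟩
    have hy' : φ y ∈ (P₂ : Subgroup ↥(oddIn H)) := (hP₂ _).2 (by
      show x⁻¹ * (x * (y : G) * x⁻¹) * x ∈ Q
      rw [show x⁻¹ * (x * (y : G) * x⁻¹) * x = (y : G) by group]
      exact ⟨y, hy, rfl⟩)
    rw [← hcP] at hy'
    obtain ⟨z, hz, he⟩ := hy'
    refine ⟨z, hz, ?_⟩
    have he' : (c : G) * z * (c : G)⁻¹ = x * y * x⁻¹ := congrArg Subtype.val he
    show (z : G) = (c : G)⁻¹ * x * y * ((c : G)⁻¹ * x)⁻¹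
    rw [show (c : G)⁻¹ * x * y * ((c : G)⁻¹ * x)⁻¹ = (c : G)⁻¹ * (x * y * x⁻¹) * c by group, ← he']
    group
  rw [show x = (c : G) * ((c : G)⁻¹ * x) by group]
  exact mul_mem (mem_sup_left (L.cov_V0 H hH (mem_inf.2 ⟨c.2, hct⟩)))
    (mem_sup_right (mem_inf.2 ⟨mul_mem (inv_mem hct) hx.1, hcN⟩))

/-- A maximal covering `π`-subgroup. -/
theorem exists_max {π : ℕ} [Fact π.Prime] (hπ : π ∣ Nat.card (Cfsg.centralizerPPrimeCore 2 t)) :
    ∃ P : Subgroup G, IsPGroup π P ∧ P ≠ ⊥ ∧ Cov t A (normalizer (P : Set G)) ∧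
      ∀ Q : Subgroup G, IsPGroup π Q → P ≤ Q → Cov t A (normalizer (Q : Set G)) → Q = P := by
  haveI : Fact (Nat.Prime 2) := ⟨Nat.prime_two⟩
  have hVeq : (Cfsg.centralizerPPrimeCore 2 t) = oddIn (centralizer ({t} : Set G)) := rfl
  have hE : A ⊔ zpowers t ≤ normalizer (oddIn (centralizer ({t} : Set G)) : Set G) :=
    (sup_le (C.A_le_cent L) (zpowers_le.2 (C.t_mem_cent L))).trans (normalizer_oddIn _)
  have hEp : IsPGroup 2 (A ⊔ zpowers t : Subgroup G) := by
    refine IsPGroup.to_sup_of_normal_left' C.hA.isPGroup ?_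
      (zpowers_le.2 (C.hA.centralizer_le_normalizer L.tA))
    rintro ⟨_, i, rfl⟩
    refine ⟨1, Subtype.ext ?_⟩
    show (t ^ i) ^ 2 ^ 1 = 1
    rw [pow_one, ← zpow_natCast, zpow_comm, zpow_natCast, pow_two, L.t2, one_zpow]
  have hcop : (Nat.card (A ⊔ zpowers t : Subgroup G)).Coprime (Nat.card (oddIn (centralizer ({t} : Set G)))) := by
    obtain ⟨k, hk⟩ := IsPGroup.iff_card.1 hEp
    exact hk ▸ Nat.Coprime.pow_left k (Nat.coprime_two_left.2 (odd_oddIn _))
  obtain ⟨P₀, hP₀⟩ := CoprimeAct.exists_invariant_sylow hE hcop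
    (Or.inr (solvable_of_odd' (odd_oddIn _))) π
  have hne : (P₀ : Subgroup ↥(oddIn (centralizer ({t} : Set G)))).map (oddIn (centralizer ({t} : Set G))).subtype ≠ ⊥ := by
    rw [Ne, map_eq_bot_iff_of_injective _ (oddIn (centralizer ({t} : Set G))).subtype_injective]
    exact P₀.ne_bot_of_dvd_card (hVeq ▸ hπ)
  let good : Subgroup G → Prop := fun Q =>
    IsPGroup π Q ∧ Q ≠ ⊥ ∧ Cov t A (normalizer (Q : Set G))
  have h0 : good ((P₀ : Subgroup ↥(oddIn (centralizer ({t} : Set G)))).map (oddIn (centralizer ({t} : Set G))).subtype) :=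
    ⟨P₀.isPGroup'.map _, hne, C.cov_sylow L (C.cov_cent L) P₀ (le_sup_left.trans hP₀)
      (hP₀ (mem_sup_right (mem_zpowers t))) hne⟩
  obtain ⟨P, -, ⟨h1, h2, h3⟩, hmax⟩ := Finite.exists_le_maximal (p := good) h0
  exact ⟨P, h1, h2, h3, fun Q hQ hle hc =>
    (hmax ⟨hQ, fun e => h2 (le_bot_iff.1 (e ▸ hle)), hc⟩ hle).antisymm hle⟩

theorem odd_pi {π : ℕ} [Fact π.Prime] (hπ : π ∣ Nat.card (Cfsg.centralizerPPrimeCore 2 t)) : π ≠ 2 := by
  rintro rfl
  exact Nat.not_even_iff_odd.2 (odd_oddIn (centralizer ({t} : Set G))) (even_iff_two_dvd.2 hπ)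

/-- The properties of a maximal covering `π`-subgroup. -/
theorem max_facts {π : ℕ} [Fact π.Prime] (hπ : π ∣ Nat.card (Cfsg.centralizerPPrimeCore 2 t)) {P : Subgroup G}
    (hP : IsPGroup π P) (hne : P ≠ ⊥) (hc : Cov t A (normalizer (P : Set G)))
    (hmax : ∀ Q : Subgroup G, IsPGroup π Q → P ≤ Q → Cov t A (normalizer (Q : Set G)) → Q = P) :
    P ≤ M ∧ (∀ g ∈ (centralizer ({t} : Set G)), ∀ x ∈ P, g⁻¹ * x * g ∈ M) ∧
      (∀ x ∈ P, t * x * t * x ∈ (oddIn M)) ∧
      (∀ U : Subgroup G, IsPGroup π U → P ≤ U → U ≤ (oddIn M) ⊔ P → U = P) ∧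
      (∀ g ∈ (centralizer ({t} : Set G)), ∀ w ∈ pCoreOf π (oddIn M), g * w * g⁻¹ ∈ P) := by
  haveI : Fact (Nat.Prime 2) := ⟨Nat.prime_two⟩
  have hPodd : Odd (Nat.card P) := by
    obtain ⟨k, hk⟩ := IsPGroup.iff_card.1 hP
    rw [hk]
    exact ((Fact.out : π.Prime).odd_of_ne_two (C.odd_pi L hπ)).pow
  set H := normalizer (P : Set G) with hH
  have hPH : P ≤ oddIn H := le_oddIn le_normalizer le_rfl hPodd
  have hPM : P ≤ M := fun x hx => by
    simpa using C.cov_odd_le L hc (one_mem _) (hPH hx)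
  have hinv : ∀ x ∈ P, t * x * t * x ∈ (oddIn M) ⊓ P := fun x hx =>
    inverted_mod L.t2 hPodd hc.mem
      (inf_normalizer_le_normalizer_inf (mem_inf.2 ⟨normalizer_oddIn M (C.tM L), hc.mem⟩))
      ((le_inf (hPM.trans (normalizer_oddIn M)) le_normalizer).trans inf_normalizer_le_normalizer_inf)
      (le_inf ((inf_le_inf_right _ hPH).trans ((L.cov_V0 H hc).trans L.V0_le)) inf_le_left) hx
  -- `P` is a Sylow subgroup of the core of its normaliser
  have hsyl : ∀ U : Subgroup G, IsPGroup π U → P ≤ U → U ≤ oddIn H → U = P := by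
    intro U hU hPU hUH
    have hE : A ⊔ zpowers t ≤ normalizer (oddIn H : Set G) :=
      (sup_le hc.leA (zpowers_le.2 hc.mem)).trans (normalizer_oddIn _)
    have hEp : IsPGroup 2 (A ⊔ zpowers t : Subgroup G) := by
      refine IsPGroup.to_sup_of_normal_left' C.hA.isPGroup ?_
        (zpowers_le.2 (C.hA.centralizer_le_normalizer L.tA))
      rintro ⟨_, i, rfl⟩
      refine ⟨1, Subtype.ext ?_⟩
      show (t ^ i) ^ 2 ^ 1 = 1
      rw [pow_one, ← zpow_natCast, zpow_comm, zpow_natCast, pow_two, L.t2, one_zpow]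
    have hcop : (Nat.card (A ⊔ zpowers t : Subgroup G)).Coprime (Nat.card (oddIn H)) := by
      obtain ⟨k, hk⟩ := IsPGroup.iff_card.1 hEp
      exact hk ▸ Nat.Coprime.pow_left k (Nat.coprime_two_left.2 (odd_oddIn _))
    obtain ⟨P₁, hP₁, hEP⟩ := CoprimeAct.exists_invariant_sylow_ge hE hcop
      (Or.inr (solvable_of_odd' (odd_oddIn _))) hPH hP (sup_le hc.leA (zpowers_le.2 hc.mem))
    have hne1 : (P₁ : Subgroup ↥(oddIn H)).map (oddIn H).subtype ≠ ⊥ :=
      fun e => hne (le_bot_iff.1 (e ▸ hP₁))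
    have he := hmax _ (P₁.isPGroup'.map _) hP₁
      (C.cov_sylow L hc P₁ (le_sup_left.trans hEP) (hEP (mem_sup_right (mem_zpowers t))) hne1)
    refine (eq_of_le_of_card_ge hPU ?_).symm
    rw [← he, card_map_of_injective (oddIn H).subtype_injective,
      ← Nat.card_congr (subgroupOfEquivOfLe hUH).toEquiv]
    obtain ⟨T, hT⟩ := (hU.comap_of_injective (oddIn H).subtype
      (oddIn H).subtype_injective).exists_le_sylow (P := U.subgroupOf (oddIn H))
    exact (Nat.le_of_dvd Nat.card_pos (card_dvd_of_le hT)).trans_eq (T.card_eq_multiplicity.trans P₁.card_eq_multiplicity.symm)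
  -- and of `θ P`
  have hθP : ∀ U : Subgroup G, IsPGroup π U → P ≤ U → U ≤ (oddIn M) ⊔ P → U = P := by
    intro U hU hPU hUle
    by_contra hne'
    haveI := hU.isNilpotent
    have hnc := Group.normalizerCondition_of_isNilpotent (G := U) (P.subgroupOf U)
      (lt_top_iff_ne_top.2 fun e => hne' (le_antisymm (subgroupOf_eq_top.1 e) hPU))
    obtain ⟨y, hy, hyP⟩ := SetLike.exists_of_lt hnc
    have hyN : (y : G) ∈ normalizer (P : Set G) := by
      refine mem_normalizer_fintype fun z hz => ?_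
      exact (mem_normalizer_iff.1 hy ⟨z, hPU hz⟩).1 hz
    refine hyP ?_
    have hyU : (y : G) ∈ oddIn H := by
      have h1 := hUle y.2
      rw [← SetLike.mem_coe, coe_mul_of_right_le_normalizer_left (oddIn M) P (hPM.trans (normalizer_oddIn M))] at h1
      obtain ⟨c, hc', p, hp, hcp⟩ := Set.mem_mul.1 h1
      have hcN : c ∈ (oddIn M) ⊓ H := mem_inf.2 ⟨hc', by
        have : (y : G) * p⁻¹ ∈ H := mul_mem hyN (inv_mem (le_normalizer hp))
        rwa [← hcp, mul_inv_cancel_right] at this⟩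
      rw [← hcp]
      exact mul_mem (L.cov_core H hc hcN) (hPH hp)
    have h2 : U ⊓ oddIn H = P := hsyl _ (hU.to_le inf_le_left) (le_inf hPU hPH) inf_le_right
    exact h2.le (mem_inf.2 ⟨y.2, hyU⟩)
  refine ⟨hPM, fun g hg x hx => C.cov_odd_le L hc hg (hPH hx), fun x hx => (hinv x hx).1, hθP,
    fun g hg w hw => ?_⟩
  have hW : pCoreOf π (oddIn M) ≤ P := by
    have hn : P ≤ normalizer (pCoreOf π (oddIn M) : Set G) :=
      (hPM.trans (normalizer_oddIn M)).trans (LEBasic.le_normalizer_map_of_characteristic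
        (PBasic.pCore_characteristic π _))
    have h := hθP (pCoreOf π (oddIn M) ⊔ P)
      (IsPGroup.to_sup_of_normal_left' (OddOrder.FitOf.isPGroup_pCoreOf π (oddIn M)) hP hn) le_sup_right
      (sup_le_sup_right (OddOrder.FitOf.pCoreOf_le π (oddIn M)) P)
    exact le_sup_left.trans h.le
  obtain ⟨x, hx, v, hv, rfl⟩ := C.cov_split L hc hg
  have h1 : v * w * v⁻¹ ∈ pCoreOf π (oddIn M) :=
    (mem_normalizer_iff.1 (OddOrder.FitOf.le_normalizer_pCoreOf π (oddIn M) (L.V0_le hv)) w).1 hw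
  rw [show x * v * w * (x * v)⁻¹ = x * (v * w * v⁻¹) * x⁻¹ by group]
  exact (mem_normalizer_iff.1 hx.2 _).1 (hW h1)

theorem M_le_normalizer_core (σ : ℕ) : M ≤ normalizer (pCoreOf σ (oddIn M) : Set G) :=
  (normalizer_oddIn M).trans (LEBasic.le_normalizer_map_of_characteristic
    (PBasic.pCore_characteristic σ _))

/-- If `t` centralises or inverts `O_σ(θ)`, then `y t y⁻¹ t` centralises it for `y` in `M`. -/
theorem comm_centralizes {σ : ℕ}
    (h : (∀ x ∈ pCoreOf σ (oddIn M), t * x * t⁻¹ = x) ∨ ∀ x ∈ pCoreOf σ (oddIn M), t * x * t⁻¹ = x⁻¹) {y : G}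
    (hy : y ∈ M) : y * t * y⁻¹ * t ∈ centralizer (pCoreOf σ (oddIn M) : Set G) := by
  rw [mem_centralizer_iff]
  intro x hx
  have htinv : t⁻¹ = t := inv_eq_of_mul_eq_one_right L.t2
  set W := pCoreOf σ (oddIn M) with hW
  have h1 : t * x * t⁻¹ ∈ W := (mem_normalizer_iff.1 (C.M_le_normalizer_core L σ (C.tM L)) x).1 hx
  have h2 : y⁻¹ * (t * x * t⁻¹) * y ∈ W :=
    (mem_normalizer_iff''.1 (C.M_le_normalizer_core L σ hy) _).1 h1
  have h3 : y * t * y⁻¹ * t * x * (y * t * y⁻¹ * t)⁻¹ = x := by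
    rw [show y * t * y⁻¹ * t * x * (y * t * y⁻¹ * t)⁻¹ =
      y * (t * (y⁻¹ * (t * x * t⁻¹) * y) * t⁻¹) * y⁻¹ by group]
    rcases h with h | h
    · rw [h _ h2, h x hx]; group
    · rw [h _ h2, h x hx]; group
  calc x * (y * t * y⁻¹ * t) = y * t * y⁻¹ * t * x * (y * t * y⁻¹ * t)⁻¹ * (y * t * y⁻¹ * t) := by
        rw [h3]
    _ = y * t * y⁻¹ * t * x := by group

/-- For a prime not dividing `|O(C(t))|` the involution inverts `O_σ(θ)`. -/
theorem inverts {σ : ℕ} [Fact σ.Prime] (hσ : ¬ σ ∣ Nat.card (Cfsg.centralizerPPrimeCore 2 t)) :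
    ∀ x ∈ pCoreOf σ (oddIn M), t * x * t⁻¹ = x⁻¹ := by
  intro x hx
  have htinv : t⁻¹ = t := inv_eq_of_mul_eq_one_right L.t2
  have hodd : Odd (Nat.card (pCoreOf σ (oddIn M))) :=
    Odd.of_dvd_nat (odd_oddIn M) (card_dvd_of_le (OddOrder.FitOf.pCoreOf_le σ (oddIn M)))
  have hfix : pCoreOf σ (oddIn M) ⊓ (centralizer ({t} : Set G)) ≤ (⊥ : Subgroup G) := by
    intro y hy
    obtain ⟨k, hk⟩ := IsPGroup.iff_card.1 (OddOrder.FitOf.isPGroup_pCoreOf σ (oddIn M))
    have hyV : y ∈ (Cfsg.centralizerPPrimeCore 2 t) := L.le_V0 (mem_inf.2 ⟨OddOrder.FitOf.pCoreOf_le σ (oddIn M) hy.1, hy.2⟩)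
    have h1 : orderOf y = 1 := Nat.eq_one_of_dvd_coprimes
      (Nat.Coprime.pow_left k ((Fact.out : σ.Prime).coprime_iff_not_dvd.2 hσ))
      (hk ▸ orderOf_dvd_natCard _ hy.1) (orderOf_dvd_natCard _ hyV)
    exact mem_bot.2 (orderOf_eq_one_iff.1 h1)
  have h := inverted_mod L.t2 hodd (C.M_le_normalizer_core L σ (C.tM L))
    (mem_normalizer_fintype (by simp)) (fun _ _ => mem_normalizer_fintype (by simp)) hfix hx
  rw [htinv]
  exact eq_inv_of_mul_eq_one_left (mem_bot.1 h)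

/-- Some prime of `|O(C(t))|` has its core in `θ` moved by `t`. -/
theorem exists_moved : ∃ π : ℕ, π.Prime ∧ π ∣ Nat.card (Cfsg.centralizerPPrimeCore 2 t) ∧ ¬ pCoreOf π (oddIn M) ≤ (centralizer ({t} : Set G)) := by
  by_contra hcon
  push Not at hcon
  obtain ⟨g, hg, hgA, hne⟩ := L.move
  have hmem : g * t * g⁻¹ * t ∈ centralizer (fittingOf (oddIn M) : Set G) := by
    have hle : fittingOf (oddIn M) ≤ centralizer ({g * t * g⁻¹ * t} : Set G) := by
      rw [OddOrder.FitOf.fittingOf_le_iff]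
      intro σ hσ x hx
      haveI := Fact.mk hσ
      have hsign : (∀ x ∈ pCoreOf σ (oddIn M), t * x * t⁻¹ = x) ∨
          ∀ x ∈ pCoreOf σ (oddIn M), t * x * t⁻¹ = x⁻¹ := by
        by_cases hd : σ ∣ Nat.card (Cfsg.centralizerPPrimeCore 2 t)
        · refine Or.inl fun x hx => ?_
          rw [← mem_centralizer_singleton_iff.1 (hcon σ hσ hd hx)]
          group
        · exact Or.inr (C.inverts L hd)
      exact mem_centralizer_singleton_iff.2
        (mem_centralizer_iff.1 (C.comm_centralizes L hsign hg) x hx)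
    rw [mem_centralizer_iff]
    exact fun x hx => mem_centralizer_singleton_iff.1 (hle hx)
  have hM : g * t * g⁻¹ * t ∈ M :=
    mul_mem (mul_mem (mul_mem hg (C.tM L)) (inv_mem hg)) (C.tM L)
  have hθ := OddOrder.FitOf.fittingOf_le (oddIn M) (L.cF (mem_inf.2 ⟨hmem, hM⟩))
  have h1 := two_group_inf_odd C.hA.isPGroup (odd_oddIn M) hgA hθ
  exact hne (by rw [← inv_eq_of_mul_eq_one_left h1, inv_eq_of_mul_eq_one_right L.t2])

/-- The subgroup `X` of the Bender argument. -/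
theorem exists_X {π : ℕ} [Fact π.Prime] (hπ : π ∣ Nat.card (Cfsg.centralizerPPrimeCore 2 t)) (hmoved : ¬ pCoreOf π (oddIn M) ≤ (centralizer ({t} : Set G))) :
    ∃ X : Subgroup G, X ≠ ⊥ ∧ X ≤ pCoreOf π (oddIn M) ∧ X ≤ centralizer (pCoreOf π (oddIn M) : Set G) ∧
      (centralizer ({t} : Set G)) ≤ normalizer (X : Set G) := by
  haveI : Fact (Nat.Prime 2) := ⟨Nat.prime_two⟩
  have htinv : t⁻¹ = t := inv_eq_of_mul_eq_one_right L.t2
  obtain ⟨P, hP, hPne, hPc, hmax⟩ := C.exists_max L hπ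
  obtain ⟨hPM, -, -, -, hWg⟩ := C.max_facts L hπ hP hPne hPc hmax
  set Y := closure {y | ∃ g ∈ (centralizer ({t} : Set G)), ∃ w ∈ pCoreOf π (oddIn M), y = g * w * g⁻¹} with hY
  have hYP : Y ≤ P := by
    rw [hY, closure_le]
    rintro _ ⟨g, hg, w, hw, rfl⟩
    exact hWg g hg w hw
  have hWY : pCoreOf π (oddIn M) ≤ Y := fun w hw =>
    subset_closure ⟨1, one_mem _, w, hw, by group⟩
  have hYn : (centralizer ({t} : Set G)) ≤ normalizer (Y : Set G) := fun c hc => mem_normalizer_fintype fun y hy => by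
    induction hy using closure_induction with
    | mem y hy =>
      obtain ⟨g, hg, w, hw, rfl⟩ := hy
      exact subset_closure ⟨c * g, mul_mem hc hg, w, hw, by group⟩
    | one => rw [mul_one, mul_inv_cancel]; exact one_mem _
    | mul a b _ _ iha ihb =>
      rw [show c * (a * b) * c⁻¹ = c * a * c⁻¹ * (c * b * c⁻¹) by group]
      exact mul_mem iha ihb
    | inv a _ iha =>
      rw [show c * a⁻¹ * c⁻¹ = (c * a * c⁻¹)⁻¹ by group]
      exact inv_mem iha
  set K := ⁅Y, zpowers t⁆ with hK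
  have htY : zpowers t ≤ normalizer (Y : Set G) := zpowers_le.2 (hYn (C.t_mem_cent L))
  have hKY : K ≤ Y := CoprimeAct.commutator_le_left htY
  have hKn : Y ≤ normalizer (K : Set G) := normalizer_commutator_ge_left Y (zpowers t)
  have hKC : (centralizer ({t} : Set G)) ≤ normalizer (K : Set G) := by
    intro c hc
    refine mem_normalizer_iff_map_conj_eq.2 ?_
    rw [hK, map_commutator, mem_normalizer_iff_map_conj_eq.1 (hYn hc), MonoidHom.map_zpowers]
    congr 2
    show c * t * c⁻¹ = t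
    rw [mem_centralizer_singleton_iff.1 hc, mul_inv_cancel_right]
  set X := Y ⊓ centralizer (Y : Set G) ⊓ K with hX
  have hXne : X ≠ ⊥ := by
    intro e
    haveI : (K.subgroupOf Y).Normal := normal_subgroupOf_of_le_normalizer hKn
    have hKne : K.subgroupOf Y ≠ ⊥ := by
      rw [Ne, subgroupOf_eq_bot, disjoint_iff, inf_eq_left.2 hKY]
      intro hbot
      refine hmoved (hWY.trans fun y hy => ?_)
      have h1 := commutator_eq_bot_iff_le_centralizer.1 hbot hy
      exact mem_centralizer_singleton_iff.2 (mem_centralizer_iff.1 h1 t (mem_zpowers t)).symm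
    obtain ⟨⟨z, hz⟩, hz1⟩ := ne_bot_iff_exists_ne_one.1
      (PushUp3.inf_center_ne_bot (hP.to_le hYP) hKne)
    refine hz1 (Subtype.ext (Subtype.ext ((eq_bot_iff_forall X).1 e z ?_)))
    refine mem_inf.2 ⟨mem_inf.2 ⟨z.2, ?_⟩, hz.1⟩
    rw [mem_centralizer_iff]
    exact fun y hy => congrArg Subtype.val (mem_center_iff.1 hz.2 ⟨y, hy⟩)
  have hXY : X ≤ Y := inf_le_left.trans inf_le_left
  have hXW : X ≤ centralizer (pCoreOf π (oddIn M) : Set G) :=
    (inf_le_left.trans inf_le_right).trans (centralizer_le hWY)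
  have hXF : X ≤ centralizer (fittingOf (oddIn M) : Set G) := by
    have h : fittingOf (oddIn M) ≤ centralizer (X : Set G) := by
      rw [OddOrder.FitOf.fittingOf_le_iff]
      intro σ hσ
      rw [le_centralizer_iff]
      haveI := Fact.mk hσ
      by_cases hσπ : σ = π
      · subst hσπ; exact hXW
      by_cases hd : σ ∣ Nat.card (Cfsg.centralizerPPrimeCore 2 t)
      · -- good primes: conjugate cores commute
        obtain ⟨Q, hQ, hQne, hQc, hQmax⟩ := C.exists_max L hd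
        obtain ⟨-, hQg, -, -, hQW⟩ := C.max_facts L hd hQ hQne hQc hQmax
        refine hXY.trans ?_
        rw [hY, closure_le]
        rintro _ ⟨g, hg, w, hw, rfl⟩
        rw [SetLike.mem_coe, mem_centralizer_iff]
        intro x hx
        have hxQ : x ∈ Q := by simpa using hQW 1 (one_mem _) x hx
        let W' := (pCoreOf π (oddIn M)).map (MulAut.conj g).toMonoidHom
        refine AxB.commute_of_coprime (H := pCoreOf σ (oddIn M)) (K := W') ?_ ?_ ?_ hx ⟨w, hw, rfl⟩
        · intro x hx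
          have hxQ : x ∈ Q := by simpa using hQW 1 (one_mem _) x hx
          refine mem_normalizer_fintype ?_
          rintro _ ⟨w, hw, rfl⟩
          refine ⟨g⁻¹ * x * g * w * (g⁻¹ * x * g)⁻¹,
            (mem_normalizer_iff.1 (C.M_le_normalizer_core L π (hQg g hg x hxQ)) w).1 hw, ?_⟩
          show g * (g⁻¹ * x * g * w * (g⁻¹ * x * g)⁻¹) * g⁻¹ = x * (g * w * g⁻¹) * x⁻¹
          group
        · rintro _ ⟨w, hw, rfl⟩
          exact C.M_le_normalizer_core L σ (hPM (hWg g hg w hw))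
        · rw [card_map_of_injective (MulAut.conj g).injective]
          exact IsPGroup.coprime_card_of_ne σ π hσπ _ _ (OddOrder.FitOf.isPGroup_pCoreOf σ (oddIn M))
            (OddOrder.FitOf.isPGroup_pCoreOf π (oddIn M))
      · -- the other primes: commutators with `t` centralise
        refine inf_le_right.trans ?_
        rw [hK, commutator_le]
        intro y hy w hw
        have hw' : w = 1 ∨ w = t := by
          obtain ⟨i, rfl⟩ := mem_zpowers_iff.1 hw
          rcases Int.even_or_odd i with ⟨j, rfl⟩ | ⟨j, rfl⟩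
          · exact Or.inl (by rw [← mul_two, mul_comm, zpow_mul, zpow_two, L.t2, one_zpow])
          · exact Or.inr (by rw [zpow_add, zpow_mul, zpow_two, L.t2, one_zpow, one_mul, zpow_one])
        rcases hw' with rfl | rfl
        · simp
        · rw [commutatorElement_def, htinv]
          exact C.comm_centralizes L (Or.inr (C.inverts L hd)) (hPM (hYP hy))
    rw [le_centralizer_iff] at h
    exact h
  have hXle : X ≤ pCoreOf π (oddIn M) :=
    le_pCoreOf_of_le_fittingOf (hP.to_le (hXY.trans hYP))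
      ((le_inf hXF (hXY.trans (hYP.trans hPM))).trans L.cF)
  refine ⟨X, hXne, hXle, hXW, ?_⟩
  exact (le_inf ((le_inf hYn (hYn.trans (OddOrder.FitOf.normalizer_le_normalizer_centralizer Y))).trans
    inf_normalizer_le_normalizer_inf) hKC).trans inf_normalizer_le_normalizer_inf

/-- Two primes: the Bender argument. -/
theorem false_of_two_primes {π σ : ℕ} [Fact π.Prime] [Fact σ.Prime] (hne : σ ≠ π)
    (hπ : π ∣ Nat.card (Cfsg.centralizerPPrimeCore 2 t)) (hmoved : ¬ pCoreOf π (oddIn M) ≤ (centralizer ({t} : Set G))) (hσ : pCoreOf σ (oddIn M) ≠ ⊥) : False := by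
  haveI : Fact (Nat.Prime 2) := ⟨Nat.prime_two⟩
  obtain ⟨X, hXne, hXW, hXC, hXn⟩ := C.exists_X L hπ hmoved
  set H := normalizer (X : Set G) with hH
  have hXodd : Odd (Nat.card X) :=
    Odd.of_dvd_nat (odd_oddIn M) (card_dvd_of_le (hXW.trans (OddOrder.FitOf.pCoreOf_le π (oddIn M))))
  have hcH : Cov t A H := ⟨C.hG.normalizer_ne_top C.hA hXne hXodd, (C.A_le_cent L).trans hXn,
    hXn (C.t_mem_cent L), (le_inf le_rfl hXn).trans le_sup_right⟩
  have hW_H : ∀ τ : ℕ, τ.Prime → pCoreOf τ (oddIn M) ≤ H := by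
    intro τ hτ
    haveI := Fact.mk hτ
    refine le_trans ?_ (Subgroup.centralizer_le_normalizer _)
    rw [le_centralizer_iff]
    by_cases h : τ = π
    · subst h; exact hXC
    · exact hXW.trans (OddOrder.FitOf.pCoreOf_le_centralizer Fact.out hτ (Ne.symm h) (oddIn M))
  set R := oddIn H with hR
  have hRM : R ≤ M := fun x hx => by simpa using C.cov_odd_le L hcH (one_mem _) hx
  have hWU : ∀ τ : ℕ, τ.Prime → pCoreOf τ (oddIn M) ≤ pCoreOf τ R := by
    intro τ hτ
    haveI := Fact.mk hτ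
    exact LEBasic.le_pCoreMap
      ((le_inf (OddOrder.FitOf.pCoreOf_le τ (oddIn M)) (hW_H τ hτ)).trans (L.cov_core H hcH))
      (hRM.trans (C.M_le_normalizer_core L τ)) (OddOrder.FitOf.isPGroup_pCoreOf τ (oddIn M))
  set U := pCoreOf σ R with hU
  set N' := centralizer (pCoreOf π (oddIn M) : Set G) ⊓ M with hN'
  have hN'H : N' ≤ H := inf_le_left.trans
    ((centralizer_le hXW).trans (Subgroup.centralizer_le_normalizer _))
  have hUN : U ≤ N' := le_inf ((OddOrder.FitOf.pCoreOf_le_centralizer Fact.out Fact.out hne R).trans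
    (centralizer_le (hWU π Fact.out))) ((OddOrder.FitOf.pCoreOf_le σ R).trans hRM)
  have hHU : H ≤ normalizer (U : Set G) := (normalizer_oddIn H).trans
    (LEBasic.le_normalizer_map_of_characteristic (PBasic.pCore_characteristic σ _))
  have hσ2 : σ ≠ 2 := by
    rintro rfl
    refine hσ ?_
    rw [eq_bot_iff]
    exact fun x hx => mem_bot.2 (two_group_inf_odd (OddOrder.FitOf.isPGroup_pCoreOf 2 (oddIn M))
      (odd_oddIn M) hx (OddOrder.FitOf.pCoreOf_le 2 (oddIn M) hx))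
  have hN'n : M ≤ normalizer (N' : Set G) :=
    (le_inf ((C.M_le_normalizer_core L π).trans
      (OddOrder.FitOf.normalizer_le_normalizer_centralizer _)) le_normalizer).trans
      inf_normalizer_le_normalizer_inf
  have hUθ : U ≤ pCoreOf σ (oddIn M) := by
    have h1 : U ≤ pCoreOf σ N' :=
      LEBasic.le_pCoreMap hUN (hN'H.trans hHU) (OddOrder.FitOf.isPGroup_pCoreOf σ R)
    have h2 : M ≤ normalizer (pCoreOf σ N' : Set G) :=
      hN'n.trans (LEBasic.le_normalizer_map_of_characteristic (PBasic.pCore_characteristic σ _))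
    have hodd : Odd (Nat.card (pCoreOf σ N')) := by
      obtain ⟨k, hk⟩ := IsPGroup.iff_card.1 (OddOrder.FitOf.isPGroup_pCoreOf σ N')
      rw [hk]
      exact ((Fact.out : σ.Prime).odd_of_ne_two hσ2).pow
    have h3 : pCoreOf σ N' ≤ (oddIn M) :=
      le_oddIn ((OddOrder.FitOf.pCoreOf_le σ N').trans inf_le_right) h2 hodd
    exact h1.trans (LEBasic.le_pCoreMap h3 ((oddIn_le M).trans h2)
      (OddOrder.FitOf.isPGroup_pCoreOf σ N'))
  have hUeq : U = pCoreOf σ (oddIn M) := hUθ.antisymm (hWU σ Fact.out)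
  have hodd : Odd (Nat.card (pCoreOf σ (oddIn M))) :=
    Odd.of_dvd_nat (odd_oddIn M) (card_dvd_of_le (OddOrder.FitOf.pCoreOf_le σ (oddIn M)))
  exact C.cov_contra L
    (hcH.mono (hUeq ▸ hHU) (C.hG.normalizer_ne_top C.hA hσ hodd))
    (C.M_le_normalizer_core L σ)

/-- One prime: the `ZJ` argument. -/
theorem false_of_one_prime {π : ℕ} [Fact π.Prime] (hπ : π ∣ Nat.card (Cfsg.centralizerPPrimeCore 2 t))
    (h1 : ∀ σ : ℕ, σ.Prime → σ ≠ π → pCoreOf σ (oddIn M) = ⊥) : False := by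
  haveI : Fact (Nat.Prime 2) := ⟨Nat.prime_two⟩
  have hπ2 := C.odd_pi L hπ
  have hπ3 : π ≠ 3 := fun e => C.hG.h3 (e ▸ hπ.trans (card_subgroup_dvd_card (Cfsg.centralizerPPrimeCore 2 t)))
  have hπ5 : 5 ≤ π := by
    have := (Fact.out : π.Prime).two_le
    by_contra h
    push Not at h
    interval_cases π <;> first | omega | exact absurd (Fact.out : Nat.Prime 4) (by decide)
  obtain ⟨P, hP, hPne, hPc, hmax⟩ := C.exists_max L hπ
  obtain ⟨hPM, -, hinv, hθP, hWg⟩ := C.max_facts L hπ hP hPne hPc hmax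
  have hWP : pCoreOf π (oddIn M) ≤ P := fun w hw => by simpa using hWg 1 (one_mem _) w hw
  have hcW : centralizer (pCoreOf π (oddIn M) : Set G) ⊓ M ≤ pCoreOf π (oddIn M) := by
    have hF : fittingOf (oddIn M) = pCoreOf π (oddIn M) := by
      refine le_antisymm (OddOrder.FitOf.fittingOf_le_iff.2 fun σ hσ => ?_)
        (OddOrder.FitOf.pCoreOf_le_fittingOf Fact.out (oddIn M))
      by_cases h : σ = π
      · subst h; exact le_rfl
      · rw [h1 σ hσ h]; exact bot_le
    rw [← hF]; exact L.cF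
  obtain ⟨hUM, hθU, hUn, hUodd, hUs⟩ := twoIn_facts M
  set N₁ := twoIn M ⊔ P with hN₁
  set M₁ := N₁ ⊔ zpowers t with hM₁
  have hPU : P ≤ normalizer (twoIn M : Set G) := hPM.trans hUn
  have htN₁ : zpowers t ≤ normalizer (N₁ : Set G) := zpowers_le.2
    (normalizer_inf_normalizer_le_normalizer_sup _ _ (mem_inf.2 ⟨hUn (C.tM L), hPc.mem⟩))
  have hM₁M : M₁ ≤ M := sup_le (sup_le hUM hPM) (zpowers_le.2 (C.tM L))
  haveI := hUs
  haveI : Group.IsSolvable P :=
    haveI := hP.isNilpotent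
    inferInstance
  haveI : Group.IsSolvable N₁ := Components.isSolvable_sup _ _ hPU
  haveI : Group.IsSolvable ↥(zpowers t) := Group.isSolvable_of_comm fun a b => mul_comm' a b
  haveI hM₁s : Group.IsSolvable M₁ := Components.isSolvable_sup _ _ htN₁
  -- elements of odd order of `M₁` lie in `N₁`
  have hodd₁ : ∀ y ∈ M₁, Odd (orderOf y) → y ∈ N₁ := by
    intro y hy ho
    obtain ⟨k, hk⟩ := ho
    rw [← SetLike.mem_coe, hM₁, coe_mul_of_right_le_normalizer_left N₁ _ htN₁] at hy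
    obtain ⟨c, hc, s, hs, rfl⟩ := Set.mem_mul.1 hy
    have hs' : s = 1 ∨ s = t := by
      obtain ⟨i, rfl⟩ := mem_zpowers_iff.1 hs
      rcases Int.even_or_odd i with ⟨j, rfl⟩ | ⟨j, rfl⟩
      · exact Or.inl (by rw [← mul_two, mul_comm, zpow_mul, zpow_two, L.t2, one_zpow])
      · exact Or.inr (by rw [zpow_add, zpow_mul, zpow_two, L.t2, one_zpow, one_mul, zpow_one])
    rcases hs' with rfl | rfl
    · simpa using hc
    have hsq : (c * s) ^ 2 ∈ N₁ := by
      rw [pow_two, show c * s * (c * s) = c * (s * c * s⁻¹) * (s * s) by group, L.t2, mul_one]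
      exact mul_mem hc ((mem_normalizer_iff.1 (htN₁ (mem_zpowers s)) c).1 hc)
    have h2 := pow_mem hsq (k + 1)
    rwa [← pow_mul, show 2 * (k + 1) = orderOf (c * s) + 1 by omega, pow_succ, pow_orderOf_eq_one,
      one_mul] at h2
  -- `P` is a Sylow subgroup of `M₁`
  have hsylM : ∀ U : Subgroup G, IsPGroup π U → P ≤ U → U ≤ M₁ → U = P := by
    intro U hU hPU' hUle
    refine hθP U hU hPU' fun y hy => ?_
    have hyodd : Odd (orderOf y) := by
      obtain ⟨k, hk⟩ := IsPGroup.iff_card.1 hU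
      exact Odd.of_dvd_nat (((Fact.out : π.Prime).odd_of_ne_two hπ2).pow (n := k))
        (hk ▸ orderOf_dvd_natCard U hy)
    have hy1 := hodd₁ y (hUle hy) hyodd
    rw [← SetLike.mem_coe, hN₁, coe_mul_of_right_le_normalizer_left _ _ hPU] at hy1
    obtain ⟨w, hw, x, hx, hwx⟩ := Set.mem_mul.1 hy1
    have hwU : w ∈ U := by
      have : y * x⁻¹ ∈ U := mul_mem hy (inv_mem (hPU' hx))
      rwa [← hwx, mul_inv_cancel_right] at this
    obtain ⟨k, hk⟩ := IsPGroup.iff_card.1 hU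
    have hwodd : Odd (orderOf w) := Odd.of_dvd_nat (((Fact.out : π.Prime).odd_of_ne_two hπ2).pow (n := k))
      (hk ▸ orderOf_dvd_natCard U hwU)
    rw [← hwx]
    exact mul_mem (mem_sup_left (hUodd w hw hwodd)) (mem_sup_right hx)
  have hPle : P ≤ M₁ := le_sup_right.trans le_sup_left
  obtain ⟨T, hT⟩ := (hP.comap_of_injective M₁.subtype M₁.subtype_injective).exists_le_sylow
    (P := P.subgroupOf M₁)
  have hTP : (T : Subgroup M₁).map M₁.subtype = P := hsylM _ (T.isPGroup'.map _)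
    (by rw [← map_subgroupOf_eq_of_le hPle]; exact map_mono hT) (map_subtype_le _)
  -- `O_π'(M₁) = 1`
  have hOπ : Cfsg.pPrimeCore π M₁ = ⊥ := by
    set N := (Cfsg.pPrimeCore π ↥M₁).map M₁.subtype with hN
    haveI hNn : (Cfsg.pPrimeCore π ↥M₁).Normal := FittingCores.pPrimeCore_normal π
    have hNM : N ≤ M := (map_subtype_le _).trans hM₁M
    have hWM₁ : pCoreOf π (oddIn M) ≤ M₁ := hWP.trans hPle
    have hcop : (Nat.card N).Coprime π := by
      rw [hN, card_map_of_injective M₁.subtype_injective]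
      exact FittingCores.pPrimeCore_coprime π
    have hNW : N ≤ centralizer (pCoreOf π (oddIn M) : Set G) := fun y hy => by
      rw [mem_centralizer_iff]
      intro w hw
      obtain ⟨k, hk⟩ := IsPGroup.iff_card.1 (OddOrder.FitOf.isPGroup_pCoreOf π (oddIn M))
      exact AxB.commute_of_coprime (hWM₁.trans (AxB.le_normalizer_map_subtype hNn))
        (hNM.trans (C.M_le_normalizer_core L π)) (hk ▸ Nat.Coprime.pow_left k hcop.symm) hw hy
    have hNle := (le_inf hNW hNM).trans hcW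
    obtain ⟨k, hk⟩ := IsPGroup.iff_card.1 ((OddOrder.FitOf.isPGroup_pCoreOf π (oddIn M)).to_le hNle)
    have hN1 : Nat.card N = 1 :=
      Nat.eq_one_of_dvd_coprimes (hcop.pow_right k) dvd_rfl (hk ▸ dvd_rfl)
    have := card_eq_one.1 hN1
    rwa [hN, map_eq_bot_iff_of_injective _ M₁.subtype_injective] at this
  set Z := ZJ.zJ π False P with hZdef
  have hM₁Z : M₁ ≤ normalizer (Z : Set G) := by
    have h := ZJ.le_normalizer_zJ_of_stable hπ2 M₁ (ScnCentralizer.isQuad_of_solvable hπ5)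
      (FittingCores.centralizer_pCore_le Fact.out hOπ) T False
    rwa [hTP] at h
  have hZne : Z ≠ ⊥ := by
    intro e
    haveI : Nontrivial P := (nontrivial_iff_ne_bot _).2 hPne
    haveI : Nontrivial (center P) := hP.center_nontrivial
    obtain ⟨z, hz⟩ := exists_ne (1 : center P)
    obtain ⟨B, hB⟩ := ZJ.exists_isMaxIn π False P
    have hcz : ∀ a ∈ P, a * ((z : P) : G) = ((z : P) : G) * a := fun a ha =>
      congrArg Subtype.val (mem_center_iff.1 z.2 ⟨a, ha⟩)
    have hzB : ((z : P) : G) ∈ B :=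
      ZJ.mem_of_centralizes hB (z : P).2 (fun a ha => hcz a (hB.1 ha)) False.elim
    have hzZ : ((z : P) : G) ∈ Z := mem_inf.2 ⟨ZJ.le_jSub hB hzB,
      mem_centralizer_iff.2 fun a ha => hcz a (ZJ.jSub_le P ha)⟩
    rw [e, mem_bot] at hzZ
    exact hz (Subtype.ext (Subtype.ext hzZ))
  have hZodd : Odd (Nat.card Z) := by
    obtain ⟨k, hk⟩ := IsPGroup.iff_card.1 (hP.to_le (ZJ.zJ_le P))
    rw [hk]
    exact ((Fact.out : π.Prime).odd_of_ne_two hπ2).pow
  set H := normalizer (Z : Set G) with hH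
  have hcH : Cov t A H :=
    hPc.mono (ZJ.normalizer_le_normalizer_zJ P) (C.hG.normalizer_ne_top C.hA hZne hZodd)
  -- `t` centralises `U` modulo `θ`
  have hUt : ∀ u ∈ twoIn M, u * t * u⁻¹ * t ∈ (oddIn M) := by
    intro u hu
    have hmem : u * t * u⁻¹ * t ∈ twoIn M := by
      have h : t * u⁻¹ * t⁻¹ ∈ twoIn M := (mem_normalizer_iff.1 (hUn (C.tM L)) _).1 (inv_mem hu)
      have h' := mul_mem hu h
      rwa [inv_eq_of_mul_eq_one_right L.t2, ← mul_assoc, ← mul_assoc] at h'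
    exact hUodd _ hmem (Odd.of_dvd_nat (odd_oddIn H) (orderOf_dvd_natCard _
      (L.cov_central H hcH u (hM₁Z (mem_sup_left (mem_sup_left hu))))))
  -- and `P` is inverted modulo `θ`
  haveI hθn : (Cfsg.pPrimeCore 2 ↥M).Normal := FittingCores.pPrimeCore_normal 2
  let f := QuotientGroup.mk' (Cfsg.pPrimeCore 2 ↥M)
  have hfθ : ∀ y : M, f y = 1 ↔ (y : G) ∈ (oddIn M) := fun y => by
    rw [QuotientGroup.mk'_apply, QuotientGroup.eq_one_iff]
    exact ⟨fun h => ⟨y, h, rfl⟩, fun ⟨z, hz, he⟩ => (Subtype.ext he : z = y) ▸ hz⟩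
  set R := (oddIn M) ⊔ P with hR
  have hRn : P ≤ normalizer ((oddIn M) : Set G) := hPM.trans (normalizer_oddIn M)
  have hRM : R ≤ M := sup_le (oddIn_le M) hPM
  have hPodd : Odd (Nat.card P) := by
    obtain ⟨k, hk⟩ := IsPGroup.iff_card.1 hP
    rw [hk]
    exact ((Fact.out : π.Prime).odd_of_ne_two hπ2).pow
  have hRodd : Odd (Nat.card R) := odd_sup (odd_oddIn M) hPodd hRn
  let tt : M := ⟨t, C.tM L⟩
  have htt : f tt * f tt = 1 := by
    rw [← map_mul, show tt * tt = 1 from Subtype.ext L.t2, map_one]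
  have hRinv : ∀ x (hx : x ∈ R), f tt * f ⟨x, hRM hx⟩ * f tt * f ⟨x, hRM hx⟩ = 1 := by
    intro x hx
    obtain ⟨c, hc, y, hy, rfl⟩ := Set.mem_mul.1
      (show x ∈ ((oddIn M) : Set G) * (P : Set G) by
        rw [← coe_mul_of_right_le_normalizer_left (oddIn M) P hRn]; exact hx)
    have hy' : f ⟨c * y, hRM hx⟩ = f ⟨y, hPM hy⟩ := by
      rw [show (⟨c * y, hRM hx⟩ : M) = ⟨c, oddIn_le M hc⟩ * ⟨y, hPM hy⟩ from rfl, map_mul,
        (hfθ _).2 hc, one_mul]
    rw [hy', ← map_mul, ← map_mul, ← map_mul]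
    exact (hfθ _).2 (hinv y hy)
  have hRt : ∀ x ∈ R, t * x * t * x ∈ (oddIn M) := fun x hx => by
    have h := hRinv x hx
    rw [← map_mul, ← map_mul, ← map_mul] at h
    exact (hfθ _).1 h
  have hRu : ∀ u ∈ twoIn M, ∀ x ∈ R, ⁅x, u⁆ ∈ (oddIn M) := by
    intro u hu x hx
    set a := f ⟨x, hRM hx⟩ with ha
    set b := f ⟨u, hUM hu⟩ with hb
    have hab : a * b * a⁻¹ ∈ ((twoIn M).subgroupOf M).map f := by
      refine ⟨⟨x, hRM hx⟩ * ⟨u, hUM hu⟩ * (⟨x, hRM hx⟩)⁻¹, ?_, by rw [ha, hb, map_mul, map_mul, map_inv]⟩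
      exact (mem_normalizer_iff.1 (hUn (hRM hx)) u).1 hu
    have hcomm : ∀ z ∈ ((twoIn M).subgroupOf M).map f, f tt * z = z * f tt := by
      rintro _ ⟨w, hw, rfl⟩
      have h1 : f w * f tt * (f w)⁻¹ * f tt = 1 := by
        rw [← map_inv, ← map_mul, ← map_mul, ← map_mul]
        exact (hfθ _).2 (hUt w hw)
      have h2 : f w * f tt * (f w)⁻¹ = f tt := by
        rw [← inv_eq_of_mul_eq_one_left h1, inv_eq_of_mul_eq_one_right htt]
      calc f tt * f w = f w * f tt * (f w)⁻¹ * f w := by rw [h2]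
        _ = f w * f tt := by group
    have hbt := hcomm b ⟨⟨u, hUM hu⟩, hu, rfl⟩
    have hta : f tt * a * f tt = a⁻¹ := eq_inv_of_mul_eq_one_left (hRinv x hx)
    have htinv : (f tt)⁻¹ = f tt := inv_eq_of_mul_eq_one_right htt
    have h1 : a⁻¹ * b * a = a * b * a⁻¹ := by
      calc a⁻¹ * b * a = f tt * a * f tt * b * (f tt * a * f tt)⁻¹ := by rw [hta]; group
        _ = f tt * (a * (f tt * b * (f tt)⁻¹) * a⁻¹) * (f tt)⁻¹ := by group
        _ = f tt * (a * b * a⁻¹) * (f tt)⁻¹ := by rw [hbt, mul_inv_cancel_right]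
        _ = a * b * a⁻¹ := by rw [hcomm _ hab, mul_inv_cancel_right]
    have h2 : Commute (a ^ 2) b := by
      show a ^ 2 * b = b * a ^ 2
      calc a ^ 2 * b = a * (a * b * a⁻¹) * a := by rw [pow_two]; group
        _ = a * (a⁻¹ * b * a) * a := by rw [h1]
        _ = b * a ^ 2 := by rw [pow_two]; group
    have hao : Odd (orderOf a) := by
      refine Odd.of_dvd_nat hRodd ((orderOf_map_dvd f _).trans ?_)
      rw [← orderOf_coe]
      exact orderOf_dvd_natCard R hx
    obtain ⟨k, hk⟩ := hao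
    have h3 : Commute a b := by
      have h4 := h2.pow_left (k + 1)
      rwa [← pow_mul, show 2 * (k + 1) = orderOf a + 1 by omega, pow_succ, pow_orderOf_eq_one,
        one_mul] at h4
    have h5 : f ⁅(⟨x, hRM hx⟩ : M), ⟨u, hUM hu⟩⁆ = 1 := by
      rw [map_commutatorElement]
      exact commutatorElement_eq_one_iff_commute.2 h3
    exact (hfθ _).1 h5
  have hRC : (centralizer ({t} : Set G)) ⊓ M ≤ normalizer (R : Set G) := by
    rintro m ⟨hm, hmM⟩
    obtain ⟨x, hx, v, hv, rfl⟩ := C.cov_split L hPc hm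
    have hvθ : v ∈ (oddIn M) := L.V0_le hv
    have hxM : x ∈ M := by
      have := mul_mem (show x * v ∈ M from hmM) (inv_mem (oddIn_le M hvθ))
      rwa [mul_inv_cancel_right] at this
    exact mul_mem (normalizer_inf_normalizer_le_normalizer_sup (oddIn M) P
      (mem_inf.2 ⟨normalizer_oddIn M hxM, hx.2⟩)) (le_normalizer (mem_sup_left hvθ))
  have hPθ : P ≤ (oddIn M) := le_sup_right.trans (L.fstar R hRM hRodd le_sup_left hRC hRt hRu)
  -- the Frattini argument
  refine C.cov_contra L hcH fun m hm => ?_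
  obtain ⟨Q, hQ⟩ := (hP.comap_of_injective (oddIn M).subtype (oddIn M).subtype_injective).exists_le_sylow
    (P := P.subgroupOf (oddIn M))
  have hQP : (Q : Subgroup (oddIn M)).map (oddIn M).subtype = P := hθP _ (Q.isPGroup'.map _)
    (by rw [← map_subgroupOf_eq_of_le hPθ]; exact map_mono hQ) ((map_subtype_le _).trans le_sup_left)
  let φ : (oddIn M) ≃* (oddIn M) := (oddIn M).normalizerMonoidHom ⟨m, normalizer_oddIn M hm⟩
  let Q₂ : Sylow π (oddIn M) := Q.comapOfInjective φ.symm.toMonoidHom φ.symm.injective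
    fun y _ => ⟨φ y, φ.symm_apply_apply y⟩
  obtain ⟨c, hc⟩ := MulAction.exists_smul_eq (oddIn M) Q Q₂
  have hcm : (c : G)⁻¹ * m ∈ normalizer (P : Set G) := mem_normalizer_fintype fun y hy => by
    rw [← hQP] at hy ⊢
    obtain ⟨z, hz, rfl⟩ := hy
    have hz2 : φ z ∈ (Q₂ : Subgroup (oddIn M)) := by
      show φ.symm (φ z) ∈ (Q : Subgroup (oddIn M))
      rwa [φ.symm_apply_apply]
    rw [← hc, Sylow.coe_subgroup_smul] at hz2
    obtain ⟨w, hw, he⟩ := hz2
    refine ⟨w, hw, ?_⟩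
    have he' : (c : G) * w * (c : G)⁻¹ = m * z * m⁻¹ := congrArg Subtype.val he
    show (w : G) = (c : G)⁻¹ * m * z * ((c : G)⁻¹ * m)⁻¹
    rw [show (c : G)⁻¹ * m * z * ((c : G)⁻¹ * m)⁻¹ = (c : G)⁻¹ * (m * z * m⁻¹) * c by group, ← he']
    group
  rw [show m = (c : G) * ((c : G)⁻¹ * m) by group]
  exact mul_mem (hM₁Z (mem_sup_left (mem_sup_left (hθU c.2))))
    (ZJ.normalizer_le_normalizer_zJ P hcm)

/-- **The core argument.** -/
theorem false_of_loc : False := by
  obtain ⟨π, hπp, hπ, hmoved⟩ := C.exists_moved L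
  haveI := Fact.mk hπp
  by_cases h : ∀ σ : ℕ, σ.Prime → σ ≠ π → pCoreOf σ (oddIn M) = ⊥
  · exact C.false_of_one_prime L hπ h
  · push Not at h
    obtain ⟨σ, hσ, hne, hne'⟩ := h
    haveI := Fact.mk hσ
    exact C.false_of_two_primes L hne hπ hmoved hne'

end Ctx

end Cfsg.Agent.ThreePrime
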