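import Cfsg.Agent.Lib.ThreePrime.End.Sz
import Cfsg.Agent.Lib.ThreePrime.Layer
import Cfsg.Agent.Lib.Suzuki.FixityTwo

/-!
# Groups of odd order normalised by the centraliser of an involution, in a framed group
-/

set_option autoImplicit false
set_option linter.style.haveILetI false
set_option linter.unusedSectionVars false

namespace Cfsg.Agent.ThreePrime

open Subgroup

universe u

variable {H : Type u} [Group H] [Finite H] (hH : Framed H)

include hH

/-- An element of odd order centralising the layer and the `2`-core is trivial. -/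
theorem Framed.eq_one_of_centralizes {x : H} (hodd : Odd (orderOf x))
    (hE : Cfsg.layer H ≤ centralizer ({x} : Set H))
    (h2 : Cfsg.pCore 2 H ≤ centralizer ({x} : Set H)) : x = 1 := by
  haveI : Fact (Nat.Prime 2) := ⟨Nat.prime_two⟩
  haveI := Components.generalizedFitting_normal (G := H)
  haveI := Components.fittingSubgroup_normal (G := H)
  haveI := Components.fittingSubgroup_nilpotent (G := H)
  set Fs := Cfsg.generalizedFittingSubgroup H with hFs
  have hF : Cfsg.fittingSubgroup H ≤ Cfsg.pCore 2 H :=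
    PBasic.le_pCore inferInstance (Components.isPGroup_of_normal_nilpotent hH.core _)
  have hx : x ∈ centralizer (Fs : Set H) := mem_centralizer_iff.2 fun f hf =>
    mem_centralizer_singleton_iff.1 ((sup_le hE (hF.trans h2)) hf)
  let Z := centralizer (Fs : Set H)
  haveI : Z.Normal := Subgroup.normal_centralizer
  haveI : Group.IsNilpotent Z := by
    letI : CommGroup Z :=
      { mul_comm := fun a b => Subtype.ext
          (mem_centralizer_iff.1 b.2 a (Components.centralizer_generalizedFitting_le a.2)) }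
    exact CommGroup.isNilpotent
  exact Cfsg.Agent.PBasic.eq_one_of_isPGroup_of_coprime
    (Components.isPGroup_of_normal_nilpotent hH.core Z) hx (Nat.coprime_two_right.2 hodd)

omit hH in
/-- The product of an element and its commuting image under an involution is fixed. -/
theorem mul_image_mem_centralizer {t l : H} (ht : t * t = 1) (hc : Commute l (t * l * t)) :
    l * (t * l * t) ∈ centralizer ({t} : Set H) := by
  rw [mem_centralizer_singleton_iff]
  have e : t * (l * (t * l * t)) = (t * l * t) * (l * t) := by group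
  rw [e, ← mul_assoc (t * l * t) l t, ← hc.eq]

variable {t : H} (ht : t * t = 1) {R : Subgroup H} (hR : Odd (Nat.card R))
  (hC : centralizer ({t} : Set H) ≤ normalizer (R : Set H))

include ht hR hC

/-- An element of `R` normalising a component centralises it. -/
theorem Framed.mem_centralizer_component {K : Subgroup H} (hK : Cfsg.IsComponent K) {r : H}
    (hr : r ∈ R) (hrn : r ∈ normalizer (K : Set H)) : r ∈ centralizer (K : Set H) := by
  classical
  obtain ⟨Φ⟩ := hH.frame K hK
  have htinv : t⁻¹ = t := inv_eq_of_mul_eq_one_right ht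
  -- the elements whose inner automorphism is induced by `C(t)`
  obtain ⟨g, hg⟩ : ∃ g : Cfsg.Sz Φ.F Φ.m, ∀ z ∈ Suzuki.zGroup Φ.hS, ∃ d ∈ centralizer ({t} : Set H),
      ∃ hd : d ∈ normalizer (K : Set H), Φ.act ⟨d, hd⟩ = MulAut.conj (g⁻¹ * z * g) := by
    by_cases htK : t ∈ normalizer (K : Set H)
    · obtain ⟨u, hu, he⟩ := exists_inner_of_sq Φ.hS (Φ.act ⟨t, htK⟩) (by
        rw [← map_mul, show (⟨t, htK⟩ : normalizer (K : Set H)) * ⟨t, htK⟩ = 1 from Subtype.ext ht,
          map_one])
      obtain ⟨g, hgu⟩ := Suzuki.exists_conj_mem_rootGroup Φ.hS (x := u) (n := 1)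
        (by rw [pow_one, pow_two, hu])
      have hgz : g * u * g⁻¹ ∈ Suzuki.zGroup Φ.hS := Suzuki.involution_in_rootGroup Φ.hS hgu (by
        rw [show g * u * g⁻¹ * (g * u * g⁻¹) = g * (u * u) * g⁻¹ by group, hu]; group)
      refine ⟨g, fun z hz => ?_⟩
      obtain ⟨b, rfl⟩ := hz
      obtain ⟨q, hq, hqq⟩ := Suzuki.FixTwo.exists_sqrt_zGroup Φ.hS b
      obtain ⟨⟨l, hl⟩, hπ⟩ := Φ.surj (g⁻¹ * q * g)
      have htl : t * l * t ∈ K := by
        have h := (mem_normalizer_iff.1 htK l).1 hl
        rwa [htinv] at h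
      have hπt : Φ.π ⟨t * l * t, htl⟩ = g⁻¹ * q * g := by
        have h1 : (⟨t * l * t⁻¹, (mem_normalizer_iff.1 htK l).1 hl⟩ : K) = ⟨t * l * t, htl⟩ :=
          Subtype.ext (show t * l * t⁻¹ = t * l * t by rw [htinv])
        rw [← h1, ← Φ.act_apply' htK hl, he, hπ, MulAut.conj_apply]
        have h2 := zGroup_central Φ.hS hgz hq
        calc u * (g⁻¹ * q * g) * u⁻¹ = g⁻¹ * ((g * u * g⁻¹) * q) * g * u⁻¹ := by group
          _ = g⁻¹ * (q * (g * u * g⁻¹)) * g * u⁻¹ := by rw [h2]
          _ = g⁻¹ * q * g := by group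
      have hc : Commute l (t * l * t) := by
        have h1 : Φ.π (⟨l, hl⟩⁻¹ * ⟨t * l * t, htl⟩) = 1 := by
          rw [map_mul, map_inv, hπ, hπt, inv_mul_cancel]
        have h2 := Φ.center_le_comm (mul_mem (inv_mem hl) htl) h1 hl
        show l * (t * l * t) = t * l * t * l
        calc l * (t * l * t) = l * (l * (l⁻¹ * (t * l * t))) := by group
          _ = l * ((l⁻¹ * (t * l * t)) * l) := by rw [h2]
          _ = t * l * t * l := by group
      refine ⟨_, mul_image_mem_centralizer ht hc, Subgroup.le_normalizer (mul_mem hl htl), ?_⟩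
      rw [Φ.act_of_mem (mul_mem hl htl)]
      congr 1
      rw [show (⟨l * (t * l * t), mul_mem hl htl⟩ : K) = ⟨l, hl⟩ * ⟨t * l * t, htl⟩ from rfl, map_mul,
        hπ, hπt, ← hqq]
      group
    · refine ⟨1, fun z _ => ?_⟩
      obtain ⟨⟨l, hl⟩, hπ⟩ := Φ.surj z
      have hne : K.map (MulAut.conj t).toMonoidHom ≠ K := fun e =>
        htK (mem_normalizer_iff_map_conj_eq.2 e)
      have hc : t * l * t ∈ centralizer (K : Set H) :=
        commutator_eq_bot_iff_le_centralizer.1
          (Components.components_commute (Components.component_conj hK t) hK hne)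
          ⟨l, hl, by show t * l * t⁻¹ = t * l * t; rw [htinv]⟩
      refine ⟨_, mul_image_mem_centralizer ht (mem_centralizer_iff.1 hc l hl :),
        mul_mem (Subgroup.le_normalizer hl) (Subgroup.centralizer_le_normalizer _ hc), ?_⟩
      rw [show (⟨l * (t * l * t), mul_mem (Subgroup.le_normalizer hl)
        (Subgroup.centralizer_le_normalizer _ hc)⟩ : normalizer (K : Set H)) =
        ⟨l, Subgroup.le_normalizer hl⟩ * ⟨_, Subgroup.centralizer_le_normalizer _ hc⟩ from rfl, map_mul,
        Φ.act_of_mem hl, Φ.act_eq_one hc, mul_one, hπ]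
      group
  set W := (R.subgroupOf (normalizer (K : Set H))).map Φ.act with hW
  have hWodd : Odd (Nat.card W) := by
    refine Odd.of_dvd_nat hR ((card_map_dvd _ _).trans ?_)
    rw [← card_map_of_injective (normalizer (K : Set H)).subtype_injective]
    exact card_dvd_of_le (by rintro _ ⟨x, hx, rfl⟩; exact hx)
  have hnorm : ∀ z ∈ Suzuki.zGroup Φ.hS, ∀ a ∈ W,
      MulAut.conj (g⁻¹ * z * g) * a * (MulAut.conj (g⁻¹ * z * g))⁻¹ ∈ W := by
    rintro z hz _ ⟨⟨x, hxn⟩, hx, rfl⟩
    obtain ⟨d, hd, hdn, he⟩ := hg z hz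
    rw [← he, ← map_inv, ← map_mul, ← map_mul]
    exact ⟨_, (mem_normalizer_iff.1 (hC hd) x).1 hx, rfl⟩
  -- the inner part is trivial
  set V := ((W.comap (MulAut.conj : Cfsg.Sz Φ.F Φ.m →* MulAut (Cfsg.Sz Φ.F Φ.m))).map
    (MulAut.conj g).toMonoidHom) with hV
  have hV1 : V = ⊥ := by
    refine odd_eq_bot_of_zGroup Φ.hS ?_ fun z hz => mem_normalizer_fintype ?_
    · rw [hV, card_map_of_injective (MulAut.conj g).injective]
      exact Odd.of_dvd_nat hWodd (card_comap_dvd_of_injective W _ (sz_conj_injective Φ.hS))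
    · rintro _ ⟨v, hv, rfl⟩
      refine ⟨(g⁻¹ * z * g) * v * (g⁻¹ * z * g)⁻¹, ?_, ?_⟩
      · show MulAut.conj _ ∈ W
        rw [map_mul, map_mul, map_inv]
        exact hnorm z hz _ hv
      · show g * (g⁻¹ * z * g * v * (g⁻¹ * z * g)⁻¹) * g⁻¹ = z * (g * v * g⁻¹) * z⁻¹
        group
  set a := Φ.act ⟨r, hrn⟩ with ha
  have haW : a ∈ W := ⟨⟨r, hrn⟩, hr, rfl⟩
  have hfix : ∀ z ∈ Suzuki.zGroup Φ.hS, a (g⁻¹ * z * g) = g⁻¹ * z * g := by
    intro z hz
    set w := g⁻¹ * z * g with hw
    have h1 : MulAut.conj (w * (a w)⁻¹) ∈ W := by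
      have e : MulAut.conj (w * (a w)⁻¹) = MulAut.conj w * a * (MulAut.conj w)⁻¹ * a⁻¹ :=
        MulEquiv.ext fun y => by
          simp [MulAut.mul_apply, MulAut.conj_apply, map_mul, map_inv, mul_assoc]
      rw [e]
      exact mul_mem (hnorm z hz a haW) (inv_mem haW)
    have h2 : MulAut.conj g (w * (a w)⁻¹) ∈ V := ⟨_, h1, rfl⟩
    rw [hV1, mem_bot, MulEquiv.map_eq_one_iff, mul_inv_eq_one] at h2
    exact h2.symm
  have hao : Odd (orderOf a) :=
    Odd.of_dvd_nat hWodd (orderOf_dvd_natCard W haW)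
  have h := eq_one_of_fix_zGroup Φ.hS (MulAut.conj g * a * (MulAut.conj g)⁻¹) (fun z hz => ?_) hao
    (by rw [conj_pow, pow_orderOf_eq_one, mul_one, mul_inv_cancel])
  · rw [mul_inv_eq_one, mul_eq_left] at h
    exact Φ.mem_centralizer_of_act hrn h
  · show g * a ((MulAut.conj g)⁻¹ z) * g⁻¹ = z
    rw [MulAut.inv_apply, MulAut.conj_symm_apply, hfix z hz]
    group

/-- A group of odd order normalised by `C(t)` meets the layer trivially. -/
theorem Framed.inf_layer_eq_one (h2 : Cfsg.pCore 2 H ≤ centralizer (R : Set H)) {x : H} (hx : x ∈ R)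
    (hxE : x ∈ Cfsg.layer H) : x = 1 := by
  refine hH.eq_one_of_centralizes (Odd.of_dvd_nat hR (orderOf_dvd_natCard R hx)) ?_
    (h2.trans (centralizer_le (Set.singleton_subset_iff.2 hx)))
  refine Components.layer_le_iff.2 fun K hK k hk => mem_centralizer_singleton_iff.2 ?_
  exact mem_centralizer_iff.1 (hH.mem_centralizer_component ht hR hC hK hx
    (Components.layer_le_normalizer_component hK hxE)) k hk

/-- **The odd groups at an involution**: such a group centralising the `2`-core is trivial. -/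
theorem Framed.odd_eq_bot (h2 : Cfsg.pCore 2 H ≤ centralizer (R : Set H)) : R = ⊥ := by
  haveI := Components.layer_normal (G := H)
  have htinv : t⁻¹ = t := inv_eq_of_mul_eq_one_right ht
  refine eq_bot_iff.2 fun r hr => mem_bot.2 (hH.eq_one_of_centralizes
    (Odd.of_dvd_nat hR (orderOf_dvd_natCard R hr)) ?_
    (h2.trans (centralizer_le (Set.singleton_subset_iff.2 hr))))
  have hcomm : ∀ d ∈ centralizer ({t} : Set H), d ∈ Cfsg.layer H → r * d * r⁻¹ = d := by
    intro d hd hdE
    have h1 : r * d * r⁻¹ * d⁻¹ ∈ R := by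
      rw [show r * d * r⁻¹ * d⁻¹ = r * (d * r⁻¹ * d⁻¹) by group]
      exact mul_mem hr ((mem_normalizer_iff.1 (hC hd) _).1 (inv_mem hr))
    exact mul_inv_eq_one.1 (hH.inf_layer_eq_one ht hR hC h2 h1
      (mul_mem (Subgroup.Normal.conj_mem inferInstance d hdE r) (inv_mem hdE)))
  -- the images of the components
  set f : Subgroup H → Subgroup H := fun L => L.map (MulAut.conj r).toMonoidHom with hf
  have hmoved : ∀ K : Subgroup H, Cfsg.IsComponent K → t ∉ normalizer (K : Set H) →
      f K = K ∨ f (K.map (MulAut.conj t).toMonoidHom) = K := by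
    intro K hK htK
    by_contra hcon
    push Not at hcon
    set K' := K.map (MulAut.conj t).toMonoidHom with hK'
    have hcK' : Cfsg.IsComponent K' := Components.component_conj hK t
    obtain ⟨Φ⟩ := hH.frame K hK
    obtain ⟨⟨l, hl⟩, hπ⟩ := Φ.surj (Suzuki.T Φ.hS 0 1)
    have hne : K' ≠ K := fun e => htK (mem_normalizer_iff_map_conj_eq.2 e)
    have hcent : ∀ {L : Subgroup H}, Cfsg.IsComponent L → L ≠ K → L ≤ centralizer (K : Set H) :=
      fun hL hLK => commutator_eq_bot_iff_le_centralizer.1 (Components.components_commute hL hK hLK)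
    have htl : t * l * t ∈ K' := ⟨l, hl, by show t * l * t⁻¹ = _; rw [htinv]⟩
    have hc := hcent hcK' hne htl
    have hd := hcomm _ (mul_image_mem_centralizer ht (mem_centralizer_iff.1 hc l hl :))
      (mul_mem (Components.component_le_layer hK hl) (Components.component_le_layer hcK' htl))
    have hdc : l * (t * l * t) ∈ centralizer (K : Set H) := by
      rw [← hd, show r * (l * (t * l * t)) * r⁻¹ = (r * l * r⁻¹) * (r * (t * l * t) * r⁻¹) by group]
      exact mul_mem (hcent (Components.component_conj hK r) hcon.1 ⟨l, hl, rfl⟩)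
        (hcent (Components.component_conj hcK' r) hcon.2 ⟨_, htl, rfl⟩)
    have hlc : l ∈ centralizer (K : Set H) := by
      have := mul_mem hdc (inv_mem hc)
      rwa [mul_inv_cancel_right] at this
    have hcen : (⟨l, hl⟩ : K) ∈ center ↥K := mem_center_iff.2 fun y => Subtype.ext
      (mem_centralizer_iff.1 hlc y y.2)
    rw [← Φ.ker, MonoidHom.mem_ker, hπ] at hcen
    exact one_ne_zero ((Suzuki.eq_one_iff_T Φ.hS).mp hcen).2
  refine Components.layer_le_iff.2 fun K hK k hk => mem_centralizer_singleton_iff.2 ?_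
  refine mem_centralizer_iff.1 (hH.mem_centralizer_component ht hR hC hK hr ?_) k hk
  by_cases htK : t ∈ normalizer (K : Set H)
  · obtain ⟨Φ⟩ := hH.frame K hK
    obtain ⟨u, hu, he⟩ := exists_inner_of_sq Φ.hS (Φ.act ⟨t, htK⟩) (by
      rw [← map_mul, show (⟨t, htK⟩ : normalizer (K : Set H)) * ⟨t, htK⟩ = 1 from Subtype.ext ht,
        map_one])
    obtain ⟨g, hgu⟩ := Suzuki.exists_conj_mem_rootGroup Φ.hS (x := u) (n := 1)
      (by rw [pow_one, pow_two, hu])
    have hgz : g * u * g⁻¹ ∈ Suzuki.zGroup Φ.hS := Suzuki.involution_in_rootGroup Φ.hS hgu (by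
      rw [show g * u * g⁻¹ * (g * u * g⁻¹) = g * (u * u) * g⁻¹ by group, hu]; group)
    obtain ⟨⟨l, hl⟩, hπ⟩ := Φ.surj (g⁻¹ * Suzuki.T Φ.hS 1 0 * g)
    have htl : t * l * t ∈ K := by
      have h := (mem_normalizer_iff.1 htK l).1 hl
      rwa [htinv] at h
    have hπt : Φ.π ⟨t * l * t, htl⟩ = g⁻¹ * Suzuki.T Φ.hS 1 0 * g := by
      have h1 : (⟨t * l * t⁻¹, (mem_normalizer_iff.1 htK l).1 hl⟩ : K) = ⟨t * l * t, htl⟩ :=
        Subtype.ext (show t * l * t⁻¹ = t * l * t by rw [htinv])
      rw [← h1, ← Φ.act_apply' htK hl, he, hπ, MulAut.conj_apply]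
      have h2 := zGroup_central Φ.hS hgz (g := Suzuki.T Φ.hS 1 0) ⟨1, 0, rfl⟩
      calc u * (g⁻¹ * Suzuki.T Φ.hS 1 0 * g) * u⁻¹
          = g⁻¹ * ((g * u * g⁻¹) * Suzuki.T Φ.hS 1 0) * g * u⁻¹ := by group
        _ = g⁻¹ * (Suzuki.T Φ.hS 1 0 * (g * u * g⁻¹)) * g * u⁻¹ := by rw [h2]
        _ = g⁻¹ * Suzuki.T Φ.hS 1 0 * g := by group
    have hcl : Commute l (t * l * t) := by
      have h1 : Φ.π (⟨l, hl⟩⁻¹ * ⟨t * l * t, htl⟩) = 1 := by
        rw [map_mul, map_inv, hπ, hπt, inv_mul_cancel]
      have h2 := Φ.center_le_comm (mul_mem (inv_mem hl) htl) h1 hl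
      show l * (t * l * t) = t * l * t * l
      calc l * (t * l * t) = l * (l * (l⁻¹ * (t * l * t))) := by group
        _ = l * ((l⁻¹ * (t * l * t)) * l) := by rw [h2]
        _ = t * l * t * l := by group
    have hd := hcomm _ (mul_image_mem_centralizer ht hcl)
      (Components.component_le_layer hK (mul_mem hl htl))
    by_contra hrn
    have hne : f K ≠ K := fun e => hrn (mem_normalizer_iff_map_conj_eq.2 e)
    have hdc : l * (t * l * t) ∈ centralizer (K : Set H) :=
      commutator_eq_bot_iff_le_centralizer.1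
        (Components.components_commute (Components.component_conj hK r) hK hne)
        ⟨_, mul_mem hl htl, hd⟩
    have hcen : (⟨l, hl⟩ * ⟨t * l * t, htl⟩ : K) ∈ center ↥K := mem_center_iff.2 fun y =>
      Subtype.ext (mem_centralizer_iff.1 hdc y y.2)
    rw [← Φ.ker, MonoidHom.mem_ker, map_mul, hπ, hπt] at hcen
    refine Suzuki.T_one_zero_sq_ne Φ.hS ?_
    calc Suzuki.T Φ.hS 1 0 * Suzuki.T Φ.hS 1 0
        = g * ((g⁻¹ * Suzuki.T Φ.hS 1 0 * g) * (g⁻¹ * Suzuki.T Φ.hS 1 0 * g)) * g⁻¹ := by group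
      _ = 1 := by rw [hcen]; group
  · set K' := K.map (MulAut.conj t).toMonoidHom with hK'
    have hKK : K'.map (MulAut.conj t).toMonoidHom = K := by
      rw [hK', map_map]
      convert map_id K using 2
      refine MonoidHom.ext fun y => ?_
      show t * (t * y * t⁻¹) * t⁻¹ = y
      rw [htinv]
      calc t * (t * y * t) * t = (t * t) * y * (t * t) := by group
        _ = y := by rw [ht]; group
    have htK' : t ∉ normalizer (K' : Set H) := fun h => htK (mem_normalizer_iff_map_conj_eq.2
      ((mem_normalizer_iff_map_conj_eq.1 h).symm.trans hKK))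
    rcases hmoved K hK htK with h | h
    · exact mem_normalizer_iff_map_conj_eq.2 h
    have h' : f K = K' := by
      rcases hmoved K' (Components.component_conj hK t) htK' with h'' | h''
      · exact absurd (mem_normalizer_iff_map_conj_eq.2 (h.symm.trans h'').symm) htK
      · rwa [hKK] at h''
    have hr2 : r ^ 2 ∈ normalizer (K : Set H) := by
      refine mem_normalizer_iff_map_conj_eq.2 ?_
      show K.map (MulAut.conj (r ^ 2)).toMonoidHom = K
      have e : (MulAut.conj (r ^ 2)).toMonoidHom =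
          (MulAut.conj r).toMonoidHom.comp (MulAut.conj r).toMonoidHom := by
        refine MonoidHom.ext fun y => ?_
        show r ^ 2 * y * (r ^ 2)⁻¹ = r * (r * y * r⁻¹) * r⁻¹
        rw [pow_two, mul_inv_rev]
        simp only [mul_assoc]
      rw [e, ← map_map]
      exact (congrArg f h').trans h
    obtain ⟨k, hk⟩ := Odd.of_dvd_nat hR (orderOf_dvd_natCard R hr)
    have := pow_mem hr2 (k + 1)
    rwa [← pow_mul, show 2 * (k + 1) = orderOf r + 1 by omega, pow_succ, pow_orderOf_eq_one,
      one_mul] at this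

end Cfsg.Agent.ThreePrime
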