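import Cfsg.Agent.Lib.ThreePrime.End.Bad
import Cfsg.Agent.Lib.ThreePrime.End.Core
import Cfsg.Agent.Lib.ThreePrime.End.Odd
import Cfsg.Agent.Lib.BrauerSuzuki.ZStar

/-!
# The local facts on a bad involution centralising `A`
-/

set_option autoImplicit false
set_option linter.style.haveILetI false
set_option linter.unusedSectionVars false

namespace Cfsg.Agent.ThreePrime

open Subgroup
open Cfsg (fittingOf)
open scoped commutatorElement

universe u

variable {G : Type u} [Group G] [Finite G]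

/-- Two commuting involutions lie in an elementary abelian group of order at least four. -/
theorem exists_four {t v : G} (ht : t * t = 1) (hv : v * v = 1) (hc : Commute t v) (ht1 : t ≠ 1)
    (hv1 : v ≠ 1) (hne : v ≠ t) : ∃ E : Subgroup G, Cfsg.IsElementaryAbelian 2 E ∧ 4 ≤ Nat.card E ∧
      ∀ x ∈ E, x = 1 ∨ x = t ∨ x = v ∨ x = t * v := by
  classical
  set E : Subgroup G := closure {t, v} with hE
  have e1 : v * t = t * v := hc.eq.symm
  have e2 : ∀ y : G, t * (t * y) = y := fun y => by rw [← mul_assoc, ht, one_mul]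
  have e3 : ∀ y : G, v * (v * y) = y := fun y => by rw [← mul_assoc, hv, one_mul]
  have e4 : ∀ y : G, v * (t * y) = t * (v * y) := fun y => by rw [← mul_assoc, e1, mul_assoc]
  have hmem : ∀ x ∈ E, x = 1 ∨ x = t ∨ x = v ∨ x = t * v := by
    intro x hx
    induction hx using closure_induction with
    | mem x hx =>
      rcases hx with rfl | rfl
      · exact Or.inr (Or.inl rfl)
      · exact Or.inr (Or.inr (Or.inl rfl))
    | one => exact Or.inl rfl
    | mul a b _ _ iha ihb =>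
      rcases iha with rfl | rfl | rfl | rfl <;> rcases ihb with rfl | rfl | rfl | rfl <;>
        simp [mul_assoc, ht, hv, e1, e2, e3, e4]
    | inv a _ iha =>
      have ht' : t⁻¹ = t := inv_eq_of_mul_eq_one_right ht
      have hv' : v⁻¹ = v := inv_eq_of_mul_eq_one_right hv
      rcases iha with rfl | rfl | rfl | rfl <;> simp [ht', hv', e1]
  refine ⟨E, ⟨⟨⟨fun a b => Subtype.ext ?_⟩⟩, fun x hx => ?_⟩, ?_, hmem⟩
  · show (a : G) * b = b * a
    rcases hmem a a.2 with h | h | h | h <;> rcases hmem b b.2 with h' | h' | h' | h' <;>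
      simp [h, h', mul_assoc, ht, hv, e1, e2, e3, e4]
  · rw [pow_two]
    rcases hmem x hx with h | h | h | h <;> simp [h, mul_assoc, ht, hv, e1, e2, e3, e4]
  · have htE : t ∈ E := subset_closure (Or.inl rfl)
    have hvE : v ∈ E := subset_closure (Or.inr rfl)
    have hsub : ({1, t, v, t * v} : Set G) ⊆ E := by
      rintro x (rfl | rfl | rfl | rfl)
      exacts [one_mem _, htE, hvE, mul_mem htE hvE]
    have htv : t * v ≠ 1 := fun h => hne (mul_left_cancel (h.trans ht.symm))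
    have h4 : ({1, t, v, t * v} : Set G).ncard = 4 := by
      rw [Set.ncard_insert_of_notMem, Set.ncard_insert_of_notMem, Set.ncard_pair]
      · exact fun h => ht1 (mul_right_cancel (h.symm.trans (one_mul v).symm))
      · rintro (h | h)
        · exact hne h.symm
        · exact hv1 (mul_left_cancel (h.symm.trans (mul_one t).symm))
      · rintro (h | h | h)
        · exact ht1 h.symm
        · exact hv1 h.symm
        · exact htv h.symm
    have := Set.ncard_le_ncard hsub E.carrier.toFinite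
    rw [h4, ← Nat.card_coe_set_eq] at this
    exact this

namespace Line

variable {M Y B : Subgroup G} (W : Line M Y B)

include W

/-- An element of square one normalising `B` commutes with it. -/
theorem commute_root {v : ↥Y} (hv : v * v = 1)
    (hn : ∀ b ∈ B, (v : G) * b * (v : G)⁻¹ ∈ B) :
    ∀ (b : G) (hb : b ∈ B), Commute v (⟨b, W.le hb⟩ : ↥Y) := by
  intro b hb
  obtain ⟨u, hu, he⟩ := exists_inner_of_sq W.Φ.hS (W.act v) (by rw [← map_mul, hv, map_one])
  -- the image of a conjugate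
  have hconj : ∀ (c : G) (hc : c ∈ B) (h : bar Y ⟨c, W.le hc⟩ ∈ W.L),
      ∃ h' : bar Y ⟨(v : G) * c * (v : G)⁻¹, W.le (hn c hc)⟩ ∈ W.L,
        W.Φ.π ⟨_, h'⟩ = u * W.Φ.π ⟨_, h⟩ * u⁻¹ := by
    intro c hc h
    obtain ⟨h', -⟩ := W.root _ (hn c hc)
    refine ⟨h', sz_conj_injective W.Φ.hS ?_⟩
    rw [map_mul, map_mul, map_inv, ← he, ← W.act_of_mem h, ← W.act_of_mem h', ← map_inv, ← map_mul,
      ← map_mul]
    rfl
  have hub : u ∈ Suzuki.zGroup W.Φ.hS := by
    refine involution_borel W.Φ.hS hu ?_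
    obtain ⟨c, hc, h, hπ⟩ := W.root_surj (Suzuki.T W.Φ.hS 0 1) ⟨1, rfl⟩
    obtain ⟨h', hπ'⟩ := hconj c hc h
    obtain ⟨h'', hz⟩ := W.root _ (hn c hc)
    rw [hπ', hπ] at hz
    exact mem_borel_of_conj W.Φ.hS ⟨1, rfl⟩ (fun e => one_ne_zero ((Suzuki.eq_one_iff_T W.Φ.hS).mp e).2)
      (Suzuki.zGroup_le _ hz)
  obtain ⟨hb', hzb⟩ := W.root b hb
  obtain ⟨h', hπ'⟩ := hconj b hb hb'
  have hfix : W.Φ.π ⟨_, h'⟩ = W.Φ.π ⟨_, hb'⟩ := by
    rw [hπ', ← zGroup_central W.Φ.hS hzb (Suzuki.zGroup_le _ hub) |>.symm]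
    group
  have hmem : (v : G) * b * (v : G)⁻¹ * b⁻¹ ∈ B := mul_mem (hn b hb) (inv_mem hb)
  have h2 : (⟨(v : G) * b * (v : G)⁻¹ * b⁻¹, W.le hmem⟩ : ↥Y) =
      ⟨(v : G) * b * (v : G)⁻¹, W.le (hn b hb)⟩ * (⟨b, W.le hb⟩ : ↥Y)⁻¹ := rfl
  have h3 : bar Y ⟨(v : G) * b * (v : G)⁻¹ * b⁻¹, W.le hmem⟩ ∈ W.L := by
    rw [h2, map_mul, map_inv]
    exact mul_mem h' (inv_mem hb')
  have h1 := W.root_inj _ hmem h3 (by
    rw [show (⟨_, h3⟩ : W.L) = ⟨_, h'⟩ * (⟨_, hb'⟩ : W.L)⁻¹ from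
      Subtype.ext (by show bar Y _ = _; rw [h2, map_mul, map_inv]; rfl), map_mul, map_inv, hfix,
      mul_inv_cancel])
  refine Subtype.ext ?_
  show (v : G) * b = b * v
  exact mul_inv_eq_iff_eq_mul.1 (mul_inv_eq_one.1 h1)

/-- A subgroup of odd order normalised by the stabiliser acts trivially on the component. -/
theorem act_odd_eq_one {R : Subgroup G} (hR : Odd (Nat.card R))
    (hn : ∀ n ∈ Y, n ∈ M → n ∈ normalizer (R : Set G)) {y : ↥Y} (hy : (y : G) ∈ R) :
    W.act y = 1 := by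
  classical
  set V := (R.subgroupOf Y).map W.act with hV
  have hVodd : Odd (Nat.card V) := by
    refine Odd.of_dvd_nat hR ((card_map_dvd _ _).trans ?_)
    rw [← card_map_of_injective Y.subtype_injective]
    exact card_dvd_of_le (by rintro _ ⟨x, hx, rfl⟩; exact hx)
  have hnorm : ∀ z ∈ Suzuki.zGroup W.Φ.hS, ∀ a ∈ V,
      MulAut.conj z * a * (MulAut.conj z)⁻¹ ∈ V := by
    rintro z hz _ ⟨x, hx, rfl⟩
    obtain ⟨n, hnY, h, -, hnM, hπ⟩ := W.borel_lift z
      (Suzuki.rootGroup_le_borel W.Φ.hS (Suzuki.zGroup_le _ hz))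
    rw [← hπ, ← W.act_of_mem h, ← map_inv, ← map_mul, ← map_mul]
    exact ⟨_, (mem_normalizer_iff.1 (hn n hnY hnM) x).1 hx, rfl⟩
  have hV1 : V.comap (MulAut.conj : Cfsg.Sz W.Φ.F W.Φ.m →* MulAut (Cfsg.Sz W.Φ.F W.Φ.m)) = ⊥ := by
    refine odd_eq_bot_of_zGroup W.Φ.hS
      (Odd.of_dvd_nat hVodd (card_comap_dvd_of_injective V _ (sz_conj_injective W.Φ.hS)))
      fun z hz => mem_normalizer_fintype fun v hv => ?_
    show MulAut.conj _ ∈ V
    rw [map_mul, map_mul, map_inv]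
    exact hnorm z hz _ hv
  set a := W.act y with ha
  have haV : a ∈ V := ⟨y, hy, rfl⟩
  refine eq_one_of_fix_zGroup W.Φ.hS a (fun z hz => ?_)
    (Odd.of_dvd_nat hVodd (orderOf_dvd_natCard V haV)) (pow_orderOf_eq_one a)
  have h1 : z * (a z)⁻¹ ∈ V.comap MulAut.conj := by
    show MulAut.conj (z * (a z)⁻¹) ∈ V
    have e : MulAut.conj (z * (a z)⁻¹) = MulAut.conj z * a * (MulAut.conj z)⁻¹ * a⁻¹ :=
      MulEquiv.ext fun w => by
        simp [MulAut.mul_apply, MulAut.conj_apply, map_mul, map_inv, mul_assoc]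
    rw [e]
    exact mul_mem (hnorm z hz a haV) (inv_mem haV)
  rw [hV1, mem_bot, mul_inv_eq_one] at h1
  exact h1.symm

end Line

namespace Ctx

variable {S : Sylow 2 G} {A M : Subgroup G} (C : Ctx S A M)

include C

/-- A bad involution is not of the type of `A`. -/
theorem not_mem_A {t : G} (ht : BadAt M t) (m : G) : m * t * m⁻¹ ∉ A := by
  obtain ⟨-, ht1, htM, g, hg, hgt⟩ := ht
  intro hA
  have h1 : m * t * m⁻¹ ≠ 1 := by rwa [Ne, conj_eq_one_iff]
  have hm := (C.class_mem hA h1 (g := m⁻¹) (by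
    rw [show m⁻¹ * (m * t * m⁻¹) * m⁻¹⁻¹ = t by group]; exact htM)).1
  have h2 := (C.class_mem hA h1 (g := g⁻¹ * m⁻¹) (by
    rw [show g⁻¹ * m⁻¹ * (m * t * m⁻¹) * (g⁻¹ * m⁻¹)⁻¹ = g⁻¹ * t * g by group]; exact hgt)).1
  refine hg ?_
  simpa [mul_assoc] using mul_mem hm (inv_mem h2)

theorem A_le_centralizer {t : G} (htA : t ∈ centralizer (A : Set G)) :
    A ≤ centralizer ({t} : Set G) := fun a ha =>
  mem_centralizer_singleton_iff.2 (mem_centralizer_iff.1 htA a ha)

/-- The core meets the centraliser of an involution centralising `A` in its core. -/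
theorem cent_eq {t : G} (ht : t * t = 1) (ht1 : t ≠ 1) (htA : t ∈ centralizer (A : Set G)) :
    oddIn M ⊓ centralizer ({t} : Set G) = Cfsg.centralizerPPrimeCore 2 t := by
  have hA4 : 4 ≤ Nat.card A := le_trans (by norm_num) C.hA.card_ge
  have hAt := C.A_le_centralizer htA
  have hcomm : ∀ a ∈ A, a * t = t * a := fun a ha => mem_centralizer_iff.1 htA a ha
  have hVM : oddIn (centralizer ({t} : Set G)) ≤ oddIn M := by
    refine odd_le_of_centralizers C.hA.ea hA4 (hAt.trans (normalizer_oddIn _)) (odd_oddIn _)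
      fun a ha ha1 => ?_
    exact (C.hG.balance ht ht1 ha1 (hcomm a ha).symm).trans (C.oddCore_le ha ha1)
  refine le_antisymm ?_ (le_inf hVM (map_subtype_le _))
  refine odd_le_of_centralizers C.hA.ea hA4
    ((le_inf (C.A_le.trans (normalizer_oddIn M)) (hAt.trans le_normalizer)).trans
      inf_normalizer_le_normalizer_inf)
    (Odd.of_dvd_nat (odd_oddIn M) (card_dvd_of_le inf_le_left)) fun a ha ha1 => ?_
  intro x hx
  refine C.hG.balance (C.hA.sq ha) ha1 ht1 (hcomm a ha) (mem_inf.2 ⟨?_, hx.1.2⟩)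
  rw [← C.inf_centralizer_eq ha ha1]
  exact mem_inf.2 ⟨hx.1.1, hx.2⟩

/-- The same for every bad involution. -/
theorem cent_eq_bad {t : G} (ht : BadAt M t) :
    oddIn M ⊓ centralizer ({t} : Set G) = Cfsg.centralizerPPrimeCore 2 t := by
  haveI : Fact (Nat.Prime 2) := ⟨Nat.prime_two⟩
  obtain ⟨d, hd, hdt⟩ := C.exists_conj_cent ht
  have hdn := normalizer_oddIn M (oddIn_le M hd)
  have h := C.cent_eq (ht.conj (oddIn_le M hd)).1 (ht.conj (oddIn_le M hd)).2.1 hdt
  have e1 : (oddIn M ⊓ centralizer ({t} : Set G)).map (MulAut.conj d).toMonoidHom =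
      oddIn M ⊓ centralizer ({d * t * d⁻¹} : Set G) := by
    ext x
    constructor
    · rintro ⟨y, hy, rfl⟩
      refine mem_inf.2 ⟨(mem_normalizer_iff.1 hdn y).1 hy.1, mem_centralizer_singleton_iff.2 ?_⟩
      show d * y * d⁻¹ * (d * t * d⁻¹) = d * t * d⁻¹ * (d * y * d⁻¹)
      calc d * y * d⁻¹ * (d * t * d⁻¹) = d * (y * t) * d⁻¹ := by group
        _ = d * t * d⁻¹ * (d * y * d⁻¹) := by rw [mem_centralizer_singleton_iff.1 hy.2]; group
    · intro hx
      refine ⟨d⁻¹ * x * d, mem_inf.2 ⟨(mem_normalizer_iff''.1 hdn x).1 hx.1,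
        mem_centralizer_singleton_iff.2 ?_⟩, by show d * (d⁻¹ * x * d) * d⁻¹ = x; group⟩
      calc d⁻¹ * x * d * t = d⁻¹ * (x * (d * t * d⁻¹)) * d := by group
        _ = t * (d⁻¹ * x * d) := by rw [mem_centralizer_singleton_iff.1 hx.2]; group
  have e2 := Components.centralizerPPrimeCore_map_equiv (p := 2) (MulAut.conj d) t
  rw [MulAut.conj_apply, ← h, ← e1] at e2
  exact (map_injective (MulAut.conj d).injective e2).symm

variable {t : G} (ht : BadAt M t) (htA : t ∈ centralizer (A : Set G))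

include ht htA

theorem htN : t ∈ normalizer (A : Set G) := C.hA.centralizer_le_normalizer htA

/-- The line of the bad involution. -/
theorem exists_line_t : Nonempty (Line M (centralizer ({t} : Set G)) A) :=
  C.exists_line_top (C.hG.centralizer_ne_top ht.2.1) (C.A_le_centralizer htA) (C.cent_not_le ht)

section notnormal

variable (hθ : ¬ centralizer ({t} : Set G) ≤ normalizer (oddIn M : Set G))

include hθ

/-- **No four group fixes the line pointwise.** -/
theorem eq_one_or_eq {v : G} (hv : v * v = 1) (hc : Commute t v)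
    (hfix : ∀ c ∈ centralizer ({t} : Set G), c⁻¹ * v * c ∈ M) : v = 1 ∨ v = t := by
  by_contra hcon
  push Not at hcon
  obtain ⟨c₀, hc₀, hc₀M⟩ := SetLike.not_le_iff_exists.1 (C.cent_not_le ht)
  obtain ⟨E, hE, h4, hmem⟩ := exists_four ht.1 hv hc ht.2.1 hcon.1 hcon.2
  have hfixE : ∀ x ∈ E, ∀ c ∈ centralizer ({t} : Set G), c⁻¹ * x * c ∈ M := by
    have htc : ∀ c ∈ centralizer ({t} : Set G), c⁻¹ * t * c ∈ M := fun c hc' => by
      rw [mul_assoc, ← mem_centralizer_singleton_iff.1 hc', inv_mul_cancel_left]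
      exact ht.2.2.1
    intro x hx c hc'
    rcases hmem x hx with rfl | rfl | rfl | rfl
    · simpa using one_mem M
    · exact htc c hc'
    · exact hfix c hc'
    · rw [show c⁻¹ * (t * v) * c = (c⁻¹ * t * c) * (c⁻¹ * v * c) by group]
      exact mul_mem (htc c hc') (hfix c hc')
  refine hθ fun c hc' => mem_normalizer_fintype fun w hw => ?_
  set R := (oddIn M).map (MulAut.conj c).toMonoidHom with hR
  have hRn : E ≤ normalizer (R : Set G) := fun x hx => mem_normalizer_fintype (by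
    rintro _ ⟨y, hy, rfl⟩
    refine ⟨(c⁻¹ * x * c) * y * (c⁻¹ * x * c)⁻¹,
      (mem_normalizer_iff.1 (normalizer_oddIn M (hfixE x hx c hc')) y).1 hy, ?_⟩
    show c * (c⁻¹ * x * c * y * (c⁻¹ * x * c)⁻¹) * c⁻¹ = x * (c * y * c⁻¹) * x⁻¹
    group)
  have hle : R ≤ oddIn M := by
    refine odd_le_of_centralizers hE h4 hRn
      (by rw [card_map_of_injective (MulAut.conj c).injective]; exact odd_oddIn M) fun x hx hx1 => ?_
    have hxx : x * x = 1 := by rw [← pow_two]; exact hE.2 x hx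
    have hxM : x ∈ M := by simpa using hfixE x hx 1 (one_mem _)
    have hbx : BadAt M x := ⟨hxx, hx1, hxM, c₀, hc₀M, hfixE x hx c₀ hc₀⟩
    have hbx' : BadAt M (c⁻¹ * x * c) := by
      refine ⟨by rw [show c⁻¹ * x * c * (c⁻¹ * x * c) = c⁻¹ * (x * x) * c by group, hxx]; group,
        fun h => hx1 ?_, hfixE x hx c hc', ?_⟩
      · calc x = c * (c⁻¹ * x * c) * c⁻¹ := by group
          _ = 1 := by rw [h]; group
      by_cases hcM : c ∈ M
      · refine ⟨c⁻¹ * c₀, fun h => hc₀M (by simpa using mul_mem hcM h), ?_⟩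
        rw [show (c⁻¹ * c₀)⁻¹ * (c⁻¹ * x * c) * (c⁻¹ * c₀) = c₀⁻¹ * x * c₀ by group]
        exact hfixE x hx c₀ hc₀
      · refine ⟨c⁻¹, fun h => hcM (by simpa using inv_mem h), ?_⟩
        rw [show c⁻¹⁻¹ * (c⁻¹ * x * c) * c⁻¹ = x by group]
        exact hxM
    rintro _ ⟨⟨y, hy, rfl⟩, hyx⟩
    have hyV : y ∈ Cfsg.centralizerPPrimeCore 2 (c⁻¹ * x * c) := by
      rw [← C.cent_eq_bad hbx']
      refine mem_inf.2 ⟨hy, mem_centralizer_singleton_iff.2 ?_⟩
      calc y * (c⁻¹ * x * c) = c⁻¹ * ((c * y * c⁻¹) * x) * c := by group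
        _ = c⁻¹ * (x * (c * y * c⁻¹)) * c := by
            rw [show c * y * c⁻¹ * x = x * (c * y * c⁻¹) from mem_centralizer_singleton_iff.1 hyx]
        _ = (c⁻¹ * x * c) * y := by group
    have h2 : c * y * c⁻¹ ∈ Cfsg.centralizerPPrimeCore 2 (MulAut.conj c (c⁻¹ * x * c)) := by
      rw [← Components.centralizerPPrimeCore_map_equiv]
      exact ⟨y, hyV, rfl⟩
    rw [MulAut.conj_apply, show c * (c⁻¹ * x * c) * c⁻¹ = x by group, ← C.cent_eq_bad hbx] at h2
    exact h2.1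
  exact hle ⟨w, hw, rfl⟩

/-- The involutions of a Sylow subgroup of the centraliser lie in `A × ⟨t⟩`. -/
theorem invol_cases {z : G} (hz : z * z = 1) (hzt : Commute t z)
    (hzN : z ∈ normalizer (A : Set G)) : ∃ a ∈ A, z = a ∨ z = t * a := by
  obtain ⟨W⟩ := C.exists_line_t ht htA
  have hzY : z ∈ centralizer ({t} : Set G) := mem_centralizer_singleton_iff.2 hzt.eq.symm
  set v : ↥(centralizer ({t} : Set G)) := ⟨z, hzY⟩ with hv
  have hc := W.commute_root (v := v) (Subtype.ext hz) fun b hb => (mem_normalizer_iff.1 hzN b).1 hb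
  obtain ⟨b, hb, hact⟩ := W.exists_act_root (v := v) (Subtype.ext hz) hc
  have hzb : z * b = b * z := congrArg Subtype.val (hc b hb).eq
  have hbt : b * t = t * b := mem_centralizer_iff.1 htA b hb
  have hw2 : z * b * (z * b) = 1 := by
    rw [show z * b * (z * b) = z * (b * z) * b by group, ← hzb,
      show z * (z * b) * b = (z * z) * (b * b) by group, hz, C.hA.sq hb, one_mul]
  have hwM : z * b ∈ M := mul_mem (C.hN hzN) (C.A_le hb)
  have hwt : Commute t (z * b) := hzt.mul_right (show Commute t b from hbt.symm)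
  have hwM' : ((v * ⟨b, W.le hb⟩ : ↥(centralizer ({t} : Set G))) : G) ∈ M := by
    rw [Subgroup.coe_mul]; exact hwM
  have hfix : ∀ c ∈ centralizer ({t} : Set G), c⁻¹ * (z * b) * c ∈ M := by
    intro c hc'
    have h := W.conj_mem hwM' hact ⟨c, hc'⟩
    rw [Subgroup.coe_mul] at h
    exact h
  rcases C.eq_one_or_eq ht htA hθ hw2 hwt hfix with h | h
  · exact ⟨b, hb, Or.inl ((eq_inv_of_mul_eq_one_left h).trans (C.hA.inv hb))⟩
  · refine ⟨b, hb, Or.inr ?_⟩
    calc z = z * b * b := by rw [mul_assoc, C.hA.sq hb, mul_one]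
      _ = t * b := by rw [h]

omit hθ in
theorem exists_sylow_inf {Y : Subgroup G} (hAY : A ≤ Y) (htY : Y ≤ centralizer ({t} : Set G)) :
    ∃ T : Sylow 2 Y, ∀ z ∈ (T : Subgroup Y), (z : G) ∈ normalizer (A : Set G) ∧ Commute t (z : G) := by
  haveI : Fact (Nat.Prime 2) := ⟨Nat.prime_two⟩
  obtain ⟨T, hT⟩ := (C.hA.isPGroup.comap_of_injective Y.subtype Y.subtype_injective :
    IsPGroup 2 (A.subgroupOf Y)).exists_le_sylow
  refine ⟨T, fun z hz => ⟨?_, (mem_centralizer_singleton_iff.1 (htY z.2)).symm⟩⟩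
  exact C.hA.le_normalizer_of_isPGroup (T.2.map Y.subtype)
    (fun a ha => ⟨⟨a, hAY ha⟩, hT ha, rfl⟩) ⟨z, hz, rfl⟩

omit hθ in
theorem exists_conj_sylow_mem {Y : Subgroup G} (T : Sylow 2 Y) {z : G} (hz : z ∈ Y) (hz2 : z * z = 1) :
    ∃ x : Y, ∃ h : (x : G) * z * (x : G)⁻¹ ∈ Y,
      (⟨(x : G) * z * (x : G)⁻¹, h⟩ : Y) ∈ (T : Subgroup Y) := by
  haveI : Fact (Nat.Prime 2) := ⟨Nat.prime_two⟩
  obtain ⟨T', hT'⟩ := (two_group_zpowers (w := (⟨z, hz⟩ : Y)) (Subtype.ext hz2)).exists_le_sylow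
  obtain ⟨x, hx⟩ := MulAction.exists_smul_eq Y T' T
  refine ⟨x, mul_mem (mul_mem x.2 hz) (inv_mem x.2), ?_⟩
  rw [← hx, Sylow.coe_subgroup_smul]
  exact ⟨_, hT' (mem_zpowers _), rfl⟩

/-- A conjugate of `t` in `t A ∖ t`, inside `M`. -/
theorem exists_root_conj : ∃ a ∈ A, a ≠ 1 ∧ ∃ g ∈ M, g * t * g⁻¹ = t * a := by
  classical
  haveI : Fact (Nat.Prime 2) := ⟨Nat.prime_two⟩
  have hord : orderOf t = 2 := orderOf_eq_prime (by rw [pow_two, ht.1]) ht.2.1
  obtain ⟨g₁, hg₁, hne⟩ : ∃ g, Commute t (g * t * g⁻¹) ∧ g * t * g⁻¹ ≠ t := by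
    by_contra hcon
    push Not at hcon
    have hZ := BrauerSuzuki.zStar G t hord hcon
    have hcore : Cfsg.pPrimeCore 2 G = ⊥ := by
      by_contra h
      have h1 := C.hG.ne_bot_top (FittingCores.pPrimeCore_normal 2) h
      have h2 := FittingCores.pPrimeCore_coprime (G := G) 2
      rw [h1, card_top] at h2
      exact Nat.not_even_iff_odd.2 (Nat.coprime_two_right.1 h2)
        (even_iff_two_dvd.2 (C.hG.card_even C.hA))
    refine ht.2.1 ?_
    rw [← mem_bot, ← C.hG.center_eq_bot, mem_center_iff]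
    intro g
    have := hZ g
    rw [hcore, mem_bot, mul_inv_eq_one] at this
    exact mul_inv_eq_iff_eq_mul.1 this
  have hAY := C.A_le_centralizer htA
  obtain ⟨T, hT⟩ := C.exists_sylow_inf ht htA hAY le_rfl
  obtain ⟨x, hxY, hxT⟩ := C.exists_conj_sylow_mem ht htA T
    (z := g₁ * t * g₁⁻¹) (mem_centralizer_singleton_iff.2 hg₁.eq.symm)
    (by rw [show g₁ * t * g₁⁻¹ * (g₁ * t * g₁⁻¹) = g₁ * (t * t) * g₁⁻¹ by group, ht.1]; group)
  set k := (x : G) * g₁ with hk
  have hkt : (x : G) * (g₁ * t * g₁⁻¹) * (x : G)⁻¹ = k * t * k⁻¹ := by rw [hk]; group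
  have hzN : k * t * k⁻¹ ∈ normalizer (A : Set G) :=
    hkt ▸ (show (x : G) * (g₁ * t * g₁⁻¹) * (x : G)⁻¹ ∈ normalizer (A : Set G) from (hT _ hxT).1)
  have hzt : Commute t (k * t * k⁻¹) :=
    hkt ▸ (show Commute t ((x : G) * (g₁ * t * g₁⁻¹) * (x : G)⁻¹) from (hT _ hxT).2)
  obtain ⟨a, ha, h | h⟩ := C.invol_cases ht htA hθ
    (by rw [show k * t * k⁻¹ * (k * t * k⁻¹) = k * (t * t) * k⁻¹ by group, ht.1]; group) hzt hzN
  · exact absurd (h ▸ ha) (C.not_mem_A ht k)
  have ha1 : a ≠ 1 := by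
    rintro rfl
    refine hne ?_
    have hxt := mem_centralizer_singleton_iff.1 x.2
    calc g₁ * t * g₁⁻¹ = (x : G)⁻¹ * (k * t * k⁻¹) * x := by rw [hk]; group
      _ = (x : G)⁻¹ * (t * x) := by rw [h, mul_one, mul_assoc]
      _ = t := by rw [← hxt, inv_mul_cancel_left]
  obtain ⟨c, hc, hcM⟩ := C.exists_cent_move (g := k⁻¹) ht.1 (C.htN ht htA) (by
    rw [inv_inv, h]; exact mul_mem ht.2.2.1 (C.A_le ha))
  rw [inv_inv] at hcM
  refine ⟨a, ha, ha1, k * c, hcM, ?_⟩
  calc k * c * t * (k * c)⁻¹ = k * (c * t) * c⁻¹ * k⁻¹ := by group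
    _ = k * t * k⁻¹ := by rw [mem_centralizer_singleton_iff.1 hc]; group
    _ = t * a := h

/-- All `t a` are conjugate to `t` in `M`. -/
theorem all_root_conj {a : G} (ha : a ∈ A) : ∃ g ∈ M, g * t * g⁻¹ = t * a := by
  by_cases ha1 : a = 1
  · exact ⟨1, one_mem _, by rw [ha1]; group⟩
  obtain ⟨a₀, ha₀, ha₀1, g, hg, he⟩ := C.exists_root_conj ht htA hθ
  obtain ⟨W⟩ := C.exists_line_t ht htA
  obtain ⟨n, hn, -, -, hnM, hna⟩ := W.exists_torus_conj ha₀ ha₀1 ha ha1
  refine ⟨n * g, mul_mem hnM hg, ?_⟩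
  calc n * g * t * (n * g)⁻¹ = n * (g * t * g⁻¹) * n⁻¹ := by group
    _ = (n * t) * a₀ * n⁻¹ := by rw [he]; group
    _ = t * (n * a₀ * n⁻¹) := by rw [mem_centralizer_singleton_iff.1 hn]; group
    _ = t * a := by rw [hna]

/-- The centraliser of the Fitting subgroup of the core. -/
theorem fitting_cent (hcase : ¬ oddIn M ≤ centralizer (A : Set G)) :
    centralizer (fittingOf (oddIn M) : Set G) ⊓ M ≤ fittingOf (oddIn M) := by
  classical
  haveI : Fact (Nat.Prime 2) := ⟨Nat.prime_two⟩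
  set θ := oddIn M with hθdef
  set F := fittingOf θ with hF
  set C₀ := centralizer (F : Set G) ⊓ M with hC₀
  haveI hθs : Group.IsSolvable θ := solvable_of_odd' (odd_oddIn M)
  have hFn : M ≤ normalizer (F : Set G) :=
    (normalizer_oddIn M).trans (LEBasic.le_normalizer_map_of_characteristic
      Components.fittingSubgroup_characteristic)
  have hCn : M ≤ normalizer (C₀ : Set G) :=
    (le_inf (hFn.trans (OddOrder.FitOf.normalizer_le_normalizer_centralizer _)) le_normalizer).trans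
      inf_normalizer_le_normalizer_inf
  -- an involution centralising `F` centralises the core
  have hcentral : ∀ w ∈ C₀, w * w = 1 → θ ≤ centralizer ({w} : Set G) := by
    intro w hw hww y hy
    have hw' : w⁻¹ = w := inv_eq_of_mul_eq_one_right hww
    set f := y⁻¹ * (w * y * w) with hf
    have hwy : w * y * w ∈ θ := by
      have h := (mem_normalizer_iff.1 (normalizer_oddIn M hw.2) y).1 hy
      rwa [hw'] at h
    have hfF : f ∈ F := by
      refine OddOrder.FitOf.inf_centralizer_fittingOf_le θ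
        (mem_inf.2 ⟨mul_mem (inv_mem hy) hwy, mem_centralizer_iff.2 fun u hu => ?_⟩)
      have hc : ∀ u ∈ F, w * u * w = u := fun u hu => by
        rw [← mem_centralizer_iff.1 hw.1 u hu, mul_assoc, hww, mul_one]
      have hyu : y * u * y⁻¹ ∈ F := (mem_normalizer_iff.1 (hFn (oddIn_le M hy)) u).1 hu
      have h1 : w * y * w * u * (w * y * w)⁻¹ = y * u * y⁻¹ := by
        calc w * y * w * u * (w * y * w)⁻¹ = w * y * (w * u * w) * y⁻¹ * w := by
              simp only [mul_inv_rev, hw', mul_assoc]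
          _ = w * (y * u * y⁻¹) * w := by rw [hc u hu]; group
          _ = y * u * y⁻¹ := hc _ hyu
      calc u * f = y⁻¹ * (y * u * y⁻¹) * (w * y * w) := by rw [hf]; group
        _ = y⁻¹ * (w * y * w * u * (w * y * w)⁻¹) * (w * y * w) := by rw [h1]
        _ = f * u := by rw [hf]; group
    have h1 : f * w = w * f := mem_centralizer_iff.1 hw.1 f hfF
    have h2 : f * f = 1 := by
      have e : w * f * w = f⁻¹ := by
        calc w * f * w = w * y⁻¹ * w * y * (w * w) := by rw [hf]; group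
          _ = (y⁻¹ * (w * y * w))⁻¹ := by rw [hww]; simp only [mul_inv_rev, hw', inv_inv, mul_assoc, mul_one]
      rw [← h1, mul_assoc, hww, mul_one] at e
      nth_rewrite 1 [e]
      exact inv_mul_cancel f
    obtain ⟨k, hk⟩ : Odd (orderOf f) := Odd.of_dvd_nat (odd_oddIn M)
      (orderOf_dvd_natCard θ (OddOrder.FitOf.fittingOf_le θ hfF))
    have h3 : f = 1 := by
      have h4 := pow_orderOf_eq_one f
      rwa [hk, pow_succ, pow_mul, pow_two, h2, one_pow, one_mul] at h4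
    rw [hf, inv_mul_eq_one] at h3
    rw [mem_centralizer_singleton_iff]
    calc y * w = w * y * w * w := by rw [← h3]
      _ = w * y := by rw [mul_assoc _ w w, hww, mul_one]
  by_cases hle : C₀ ≤ θ
  · intro x hx
    exact OddOrder.FitOf.inf_centralizer_fittingOf_le θ (mem_inf.2 ⟨hle hx, hx.1⟩)
  exfalso
  have heven : Even (Nat.card C₀) := Nat.not_odd_iff_even.1 fun ho => hle (le_oddIn inf_le_right hCn ho)
  -- an involution fixed by `t`
  have htinv : t⁻¹ = t := inv_eq_of_mul_eq_one_right ht.1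
  have hct : ∀ x ∈ C₀, t * x * t ∈ C₀ := fun x hx => by
    have h := (mem_normalizer_iff.1 (hCn ht.2.2.1) x).1 hx
    rwa [htinv] at h
  set D := C₀ ⊓ centralizer ({t} : Set G) with hD
  have hDeven : 2 ∣ Nat.card D := by
    haveI : Fintype C₀ := Fintype.ofFinite _
    let f : Function.End C₀ := fun x => ⟨t * x * t, hct x x.2⟩
    have hf : f ^ (2 ^ 1) = 1 := by
      rw [pow_one, sq]
      funext x
      show f (f x) = x
      refine Subtype.ext ?_
      show t * (t * (x : G) * t) * t = x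
      rw [show t * (t * (x : G) * t) * t = (t * t) * x * (t * t) by group, ht.1]; group
    have h := Equiv.Perm.card_fixedPoints_modEq (p := 2) (n := 1) hf
    rw [← Nat.card_eq_fintype_card, ← Nat.card_eq_fintype_card] at h
    have hcard : Nat.card (Function.fixedPoints f) = Nat.card D := by
      refine Nat.card_congr ⟨fun x => ⟨((x : C₀) : G), mem_inf.2 ⟨(x : C₀).2,
        mem_centralizer_singleton_iff.2 ?_⟩⟩, fun x => ⟨⟨x, x.2.1⟩, Subtype.ext ?_⟩,
        fun x => rfl, fun x => rfl⟩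
      · have h1 : t * ((x : C₀) : G) * t = (x : C₀) := congrArg Subtype.val x.2
        calc ((x : C₀) : G) * t = t * (x : C₀) * t * t := by rw [h1]
          _ = t * (x : C₀) := by rw [mul_assoc _ t t, ht.1, mul_one]
      · show t * (x : G) * t = x
        rw [← mem_centralizer_singleton_iff.1 x.2.2, mul_assoc, ht.1, mul_one]
    rw [hcard] at h
    exact (Nat.ModEq.dvd_iff h dvd_rfl).1 (even_iff_two_dvd.1 heven)
  obtain ⟨⟨z, hz⟩, hzo⟩ := exists_prime_orderOf_dvd_card' 2 hDeven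
  rw [orderOf_mk] at hzo
  have hz2 : z * z = 1 := by rw [← pow_two, ← hzo]; exact pow_orderOf_eq_one z
  have hz1 : z ≠ 1 := fun e => by rw [e, orderOf_one] at hzo; norm_num at hzo
  obtain ⟨T, hT⟩ := C.exists_sylow_inf ht htA (Y := centralizer ({t} : Set G) ⊓ M)
    (le_inf (C.A_le_centralizer htA) C.A_le) inf_le_left
  obtain ⟨x, hxY, hxT⟩ := C.exists_conj_sylow_mem ht htA T (z := z) (mem_inf.2 ⟨hz.2, hz.1.2⟩) hz2
  set z' := (x : G) * z * (x : G)⁻¹ with hz'
  have hzN : z' ∈ normalizer (A : Set G) := (hT _ hxT).1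
  have hzt : Commute t z' := (hT _ hxT).2
  have hz'C : z' ∈ C₀ := (mem_normalizer_iff.1 (hCn x.2.2) z).1 hz.1
  have hz'2 : z' * z' = 1 := by
    rw [hz', show (x : G) * z * (x : G)⁻¹ * ((x : G) * z * (x : G)⁻¹) =
      (x : G) * (z * z) * (x : G)⁻¹ by group, hz2]
    group
  have hz'1 : z' ≠ 1 := by rwa [hz', Ne, conj_eq_one_iff]
  obtain ⟨a, ha, h | h⟩ := C.invol_cases ht htA hθ hz'2 hzt hzN
  · -- `A` centralises the core
    have hne : A ⊓ C₀ ≠ ⊥ := fun e => hz'1 (by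
      rw [← mem_bot, ← e]; exact mem_inf.2 ⟨h ▸ ha, hz'C⟩)
    have hAC : A ⊓ C₀ = A := C.hA.irred _ inf_le_left hne
      ((le_inf le_rfl (C.hN.trans hCn)).trans inf_normalizer_le_normalizer_inf)
    refine hcase fun y hy => mem_centralizer_iff.2 fun b hb => ?_
    exact (mem_centralizer_singleton_iff.1
      (hcentral b (mem_inf.1 (hAC.symm ▸ hb : b ∈ A ⊓ C₀)).2 (C.hA.sq hb) hy)).symm
  · -- a conjugate of `t` centralises the core
    obtain ⟨g, hg, hgt⟩ := C.all_root_conj ht htA hθ ha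
    have hbad : BadAt M z' := h ▸ hgt ▸ ht.conj hg
    have hVeq : θ = Cfsg.centralizerPPrimeCore 2 z' := by
      rw [← C.cent_eq_bad hbad]
      exact (inf_eq_left.2 (hcentral z' hz'C hz'2)).symm
    refine hθ fun c hc => ?_
    have hc' : g * c * g⁻¹ ∈ centralizer ({z'} : Set G) := by
      rw [h, ← hgt, mem_centralizer_singleton_iff]
      calc g * c * g⁻¹ * (g * t * g⁻¹) = g * (c * t) * g⁻¹ := by group
        _ = g * t * g⁻¹ * (g * c * g⁻¹) := by rw [mem_centralizer_singleton_iff.1 hc]; group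
    have h1 : g * c * g⁻¹ ∈ normalizer (θ : Set G) := by
      rw [hVeq]
      exact normalizer_oddIn _ hc'
    have hgn := normalizer_oddIn M hg
    simpa [mul_assoc] using mul_mem (mul_mem (inv_mem hgn) h1) hgn

omit hθ in
/-- A covering subgroup is not in `M`. -/
theorem cov_not_le {H : Subgroup G} (hH : Cov t A H) : ¬ centralizer ({t} : Set G) ⊓ H ≤ M := by
  intro hle
  refine C.cent_not_le ht (hH.cover.trans (sup_le ?_ hle))
  rw [← C.cent_eq_bad ht]
  exact inf_le_left.trans (oddIn_le M)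

omit hθ in
/-- A covering subgroup gives a line on which `t` is trivial. -/
theorem cov_line {H : Subgroup G} (hH : Cov t A H) :
    ∃ W : Line M H A, W.act ⟨t, hH.mem⟩ = 1 := by
  obtain ⟨W⟩ := C.exists_line_top hH.proper hH.leA fun h =>
    C.cov_not_le ht htA hH (inf_le_right.trans h)
  refine ⟨W, ?_⟩
  obtain ⟨b, hb, hact⟩ := W.exists_act_root (v := (⟨t, hH.mem⟩ : ↥H)) (Subtype.ext ht.1)
    fun b hb => Subtype.ext (show t * b = b * t from (mem_centralizer_iff.1 htA b hb).symm)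
  suffices hb1 : b = 1 by
    subst hb1
    rwa [show (⟨t, hH.mem⟩ : ↥H) * ⟨(1 : G), W.le hb⟩ = ⟨t, hH.mem⟩ from Subtype.ext (mul_one t)]
      at hact
  by_contra hb1
  obtain ⟨x, hx, hxM⟩ := SetLike.not_le_iff_exists.1 (C.cov_not_le ht htA hH)
  have htb : (((⟨t, hH.mem⟩ : ↥H) * ⟨b, W.le hb⟩ : ↥H) : G) ∈ M := by
    rw [Subgroup.coe_mul]; exact mul_mem ht.2.2.1 (C.A_le hb)
  have h0 := W.conj_mem htb hact ⟨x, hx.2⟩
  rw [Subgroup.coe_mul] at h0
  have h1 : x⁻¹ * (t * b) * x ∈ M := h0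
  have h2 : x⁻¹ * b * x⁻¹⁻¹ ∈ M := by
    have := mul_mem (inv_mem ht.2.2.1) h1
    rwa [show t⁻¹ * (x⁻¹ * (t * b) * x) = x⁻¹ * b * x⁻¹⁻¹ from by
      have e : x⁻¹ * t = t * x⁻¹ :=
        ((show Commute x t from mem_centralizer_singleton_iff.1 hx.1).inv_left).eq
      rw [← mul_assoc x⁻¹ t b, e]; group] at this
  exact hxM (by simpa using inv_mem (C.class_mem hb hb1 h2).1)

/-- In a covering subgroup `t` is central modulo the core. -/
theorem cov_central_fact {H : Subgroup G} (hH : Cov t A H) {h : G} (hh : h ∈ H) :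
    h * t * h⁻¹ * t ∈ oddIn H := by
  haveI : Fact (Nat.Prime 2) := ⟨Nat.prime_two⟩
  obtain ⟨W, hW⟩ := C.cov_line ht htA hH
  have hiso : Cfsg.IsIsolated (⟨t, hH.mem⟩ : ↥H) := by
    intro g hg
    by_contra hne
    set z : G := (g : G) * t * (g : G)⁻¹ with hz
    have hzt : Commute t z := congrArg Subtype.val hg
    have hz2 : z * z = 1 := by
      rw [hz, show (g : G) * t * (g : G)⁻¹ * ((g : G) * t * (g : G)⁻¹) =
        (g : G) * (t * t) * (g : G)⁻¹ by group, ht.1]
      group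
    obtain ⟨T, hT⟩ := C.exists_sylow_inf ht htA (Y := centralizer ({t} : Set G) ⊓ H)
      (le_inf (C.A_le_centralizer htA) hH.leA) inf_le_left
    obtain ⟨x, hxY, hxT⟩ := C.exists_conj_sylow_mem ht htA T (z := z)
      (mem_inf.2 ⟨mem_centralizer_singleton_iff.2 hzt.eq.symm,
        mul_mem (mul_mem g.2 hH.mem) (inv_mem g.2)⟩) hz2
    set z' := (x : G) * z * (x : G)⁻¹ with hz'
    have hzN : z' ∈ normalizer (A : Set G) := (hT _ hxT).1
    have hzt' : Commute t z' := (hT _ hxT).2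
    have e : z' = (x : G) * g * t * ((x : G) * g)⁻¹ := by rw [hz', hz]; group
    obtain ⟨a, ha, h' | h'⟩ := C.invol_cases ht htA hθ (by
      rw [hz', show (x : G) * z * (x : G)⁻¹ * ((x : G) * z * (x : G)⁻¹) =
        (x : G) * (z * z) * (x : G)⁻¹ by group, hz2]; group) hzt' hzN
    · exact C.not_mem_A ht ((x : G) * g) (by rw [← e, h']; exact ha)
    have ha1 : a = 1 := by
      have h1 : W.act (⟨t, hH.mem⟩ * ⟨a, W.le ha⟩) = 1 := by
        rw [show (⟨t, hH.mem⟩ : ↥H) * ⟨a, W.le ha⟩ = ⟨(x : G) * g, mul_mem x.2.2 g.2⟩ * ⟨t, hH.mem⟩ *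
          (⟨(x : G) * g, mul_mem x.2.2 g.2⟩ : ↥H)⁻¹ from Subtype.ext (by
            show t * a = (x : G) * g * t * ((x : G) * g)⁻¹
            rw [← e, h']), map_mul, map_mul, map_inv, hW, mul_one, mul_inv_cancel]
      rw [map_mul, hW, one_mul] at h1
      obtain ⟨hm, -⟩ := W.root a ha
      rw [W.act_of_mem hm, ← map_one (MulAut.conj (G := Cfsg.Sz W.Φ.F W.Φ.m))] at h1
      exact W.root_inj a ha hm (sz_conj_injective W.Φ.hS h1)
    refine hne (Subtype.ext ?_)
    show z = t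
    calc z = (x : G)⁻¹ * z' * x := by rw [hz']; group
      _ = (x : G)⁻¹ * (t * x) := by rw [h', ha1, mul_one, mul_assoc]
      _ = t := by rw [← mem_centralizer_singleton_iff.1 x.2.1, inv_mul_cancel_left]
  have hord : orderOf (⟨t, hH.mem⟩ : ↥H) = 2 := by
    rw [orderOf_mk]; exact orderOf_eq_prime (by rw [pow_two, ht.1]) ht.2.1
  refine ⟨_, BrauerSuzuki.zStar _ _ hord hiso ⟨h, hh⟩, ?_⟩
  show h * t * h⁻¹ * t⁻¹ = h * t * h⁻¹ * t
  rw [inv_eq_of_mul_eq_one_right ht.1]

omit hθ in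
theorem cov_core_fact {H : Subgroup G} (hH : Cov t A H) : oddIn M ⊓ H ≤ oddIn H := by
  obtain ⟨W, -⟩ := C.cov_line ht htA hH
  set R := oddIn M ⊓ H with hR
  have hRodd : Odd (Nat.card R) := Odd.of_dvd_nat (odd_oddIn M) (card_dvd_of_le inf_le_left)
  have hRn : ∀ n ∈ H, n ∈ M → n ∈ normalizer (R : Set G) := fun n hn hnM =>
    inf_normalizer_le_normalizer_inf (mem_inf.2 ⟨normalizer_oddIn M hnM, le_normalizer hn⟩)
  have hconj : ∀ h ∈ H, ∀ y ∈ R, h * y * h⁻¹ ∈ R ⊔ oddIn H := by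
    intro h hh y hy
    obtain ⟨l, n, hl, hn, he⟩ := W.cover ⟨h, hh⟩
    have hy' : (n : G) * y * (n : G)⁻¹ ∈ R := (mem_normalizer_iff.1 (hRn n n.2 hn) y).1 hy
    set y' : ↥H := ⟨(n : G) * y * (n : G)⁻¹, hy'.2⟩ with hy'def
    have hact := W.act_odd_eq_one hRodd hRn (y := y') hy'
    have h1 : bar H (l * y' * l⁻¹) = bar H y' := by
      rw [map_mul, map_mul, map_inv, mem_centralizer_iff.1 (W.act_eq_one_iff.1 hact) _ hl,
        mul_inv_cancel_right]
    have h2 : y'⁻¹ * (l * y' * l⁻¹) ∈ Cfsg.pPrimeCore 2 ↥H := by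
      rw [← QuotientGroup.eq_one_iff]
      show bar H (y'⁻¹ * (l * y' * l⁻¹)) = 1
      rw [map_mul, map_inv, h1, inv_mul_cancel]
    have h3 : h * y * h⁻¹ = (y' : G) * ((y'⁻¹ * (l * y' * l⁻¹) : ↥H) : G) := by
      have he' : h = (l : G) * n := congrArg Subtype.val he
      rw [he']
      show (l : G) * n * y * ((l : G) * n)⁻¹ = (n : G) * y * (n : G)⁻¹ *
        (((n : G) * y * (n : G)⁻¹)⁻¹ * ((l : G) * ((n : G) * y * (n : G)⁻¹) * (l : G)⁻¹))
      group
    rw [h3]
    exact mul_mem (mem_sup_left hy') (mem_sup_right ⟨_, h2, rfl⟩)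
  have hn : H ≤ normalizer ((R ⊔ oddIn H : Subgroup G) : Set G) := fun h hh =>
    mem_normalizer_fintype fun w hw => by
      have hle : R ⊔ oddIn H ≤ (R ⊔ oddIn H).comap (MulAut.conj h).toMonoidHom :=
        sup_le (fun y hy => hconj h hh y hy) fun y hy =>
          mem_sup_right (S := R) ((mem_normalizer_iff.1 (normalizer_oddIn H hh) y).1 hy)
      exact hle hw
  refine le_sup_left.trans (le_oddIn (sup_le inf_le_right (oddIn_le H)) hn ?_)
  rw [sup_comm]
  exact odd_sup (odd_oddIn H) hRodd (inf_le_right.trans (normalizer_oddIn H))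

omit hθ in
theorem cov_V0_fact {H : Subgroup G} (hH : Cov t A H) :
    oddIn H ⊓ centralizer ({t} : Set G) ≤ Cfsg.centralizerPPrimeCore 2 t := by
  set Ct := centralizer ({t} : Set G) with hCt
  set R := oddIn H ⊓ Ct with hR
  have hV : Cfsg.centralizerPPrimeCore 2 t = oddIn Ct := rfl
  rw [hV]
  have hRV : R ≤ normalizer (oddIn Ct : Set G) := inf_le_right.trans (normalizer_oddIn Ct)
  refine le_sup_left.trans (le_oddIn (sup_le inf_le_right (oddIn_le Ct)) ?_ (by
    rw [sup_comm]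
    exact odd_sup (odd_oddIn Ct) (Odd.of_dvd_nat (odd_oddIn H) (card_dvd_of_le inf_le_left)) hRV))
  refine hH.cover.trans (sup_le (le_sup_right.trans le_normalizer) ?_)
  exact (le_inf ((le_inf (inf_le_right.trans (normalizer_oddIn H)) (inf_le_left.trans le_normalizer)).trans
    inf_normalizer_le_normalizer_inf) (inf_le_left.trans (normalizer_oddIn Ct))).trans
    (normalizer_inf_normalizer_le_normalizer_sup R (oddIn Ct))

omit hθ in
theorem fstar_fact {R : Subgroup G} (hRM : R ≤ M) (hR : Odd (Nat.card R))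
    (hC : centralizer ({t} : Set G) ⊓ M ≤ normalizer (R : Set G))
    (hU : ∀ u ∈ twoIn M, ∀ x ∈ R, ⁅x, u⁆ ∈ oddIn M) : R ≤ oddIn M := by
  haveI : Fact (Nat.Prime 2) := ⟨Nat.prime_two⟩
  haveI : Finite (↥M ⧸ Cfsg.pPrimeCore 2 ↥M) := Quotient.finite _
  have hH := C.hG.framed C.hM
  set tt : ↥M := ⟨t, ht.2.2.1⟩ with htt
  have ht2 : bar M tt * bar M tt = 1 := by
    rw [← map_mul, show tt * tt = 1 from Subtype.ext ht.1, map_one]
  set Rb := (R.subgroupOf M).map (bar M) with hRb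
  have hRbodd : Odd (Nat.card Rb) := by
    refine Odd.of_dvd_nat hR ((card_map_dvd _ _).trans ?_)
    rw [Nat.card_congr (subgroupOfEquivOfLe hRM).toEquiv]
  have hCb : centralizer ({bar M tt} : Set (↥M ⧸ Cfsg.pPrimeCore 2 ↥M)) ≤
      normalizer (Rb : Set (↥M ⧸ Cfsg.pPrimeCore 2 ↥M)) := by
    intro y hy
    have hy' : y ∈ normalizer (((zpowers tt).map (bar M) : Subgroup _) : Set (↥M ⧸ Cfsg.pPrimeCore 2 ↥M)) := by
      refine Subgroup.centralizer_le_normalizer _ (mem_centralizer_iff.2 ?_)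
      rintro _ ⟨_, ⟨i, rfl⟩, rfl⟩
      rw [map_zpow]
      exact ((show Commute y (bar M tt) from mem_centralizer_singleton_iff.1 hy).zpow_right i).eq.symm
    rw [← Components.map_normalizer_eq (P := zpowers tt) (Cfsg.Agent.PBasic.pPrimeCore_coprime 2 ↥M)
      (two_group_zpowers (Subtype.ext ht.1))] at hy'
    obtain ⟨n, hn, rfl⟩ := hy'
    have hnt : (n : G) * t = t * n := by
      obtain ⟨i, hi⟩ := mem_zpowers_iff.1 ((mem_normalizer_iff.1 hn tt).1 (mem_zpowers tt))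
      have hi' : t ^ i = (n : G) * t * (n : G)⁻¹ := congrArg Subtype.val hi
      rcases Int.even_or_odd i with ⟨j, rfl⟩ | ⟨j, rfl⟩
      · rw [← mul_two, mul_comm, zpow_mul, zpow_two, ht.1, one_zpow, eq_comm, conj_eq_one_iff] at hi'
        exact absurd hi' ht.2.1
      · rw [zpow_add, zpow_mul, zpow_two, ht.1, one_zpow, one_mul, zpow_one] at hi'
        exact mul_inv_eq_iff_eq_mul.1 hi'.symm
    refine mem_normalizer_fintype ?_
    rintro _ ⟨x, hx, rfl⟩
    refine ⟨n * x * n⁻¹, ?_, by rw [map_mul, map_mul, map_inv]⟩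
    exact (mem_normalizer_iff.1 (hC (mem_inf.2 ⟨mem_centralizer_singleton_iff.2 hnt, n.2⟩)) _).1 hx
  have h2 : Cfsg.pCore 2 (↥M ⧸ Cfsg.pPrimeCore 2 ↥M) ≤
      centralizer (Rb : Set (↥M ⧸ Cfsg.pPrimeCore 2 ↥M)) := by
    intro q hq
    obtain ⟨y, rfl⟩ := QuotientGroup.mk'_surjective _ q
    refine mem_centralizer_iff.2 ?_
    rintro _ ⟨x, hx, rfl⟩
    obtain ⟨w, hw, hwe⟩ := hU (y : G) ⟨y, hq, rfl⟩ (x : G) hx
    have h1 : bar M ⁅x, y⁆ = 1 := by
      refine (QuotientGroup.eq_one_iff _).2 ?_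
      have : w = ⁅x, y⁆ := Subtype.ext hwe
      exact this ▸ hw
    rw [map_commutatorElement] at h1
    exact commutatorElement_eq_one_iff_mul_comm.1 h1
  have := hH.odd_eq_bot ht2 hRbodd hCb h2
  intro x hx
  have hx' : bar M ⟨x, hRM hx⟩ ∈ Rb := ⟨⟨x, hRM hx⟩, hx, rfl⟩
  rw [this, mem_bot] at hx'
  exact ⟨_, (QuotientGroup.eq_one_iff _).1 hx', rfl⟩

/-- **The local facts.** -/
theorem loc (hcase : ¬ oddIn M ≤ centralizer (A : Set G)) : Loc A M t where
  t2 := ht.1
  t1 := ht.2.1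
  tA := htA
  V0_le := (C.cent_eq_bad ht).ge.trans inf_le_left
  le_V0 := (C.cent_eq_bad ht).le
  move := by
    obtain ⟨a, ha, ha1, g, hg, he⟩ := C.exists_root_conj ht htA hθ
    refine ⟨g, hg, ?_, fun h => ha1 (mul_left_cancel ((he.symm.trans h).trans (mul_one t).symm))⟩
    have hta : t * a = a * t := (mem_centralizer_iff.1 htA a ha).symm
    rw [he, hta, mul_assoc, ht.1, mul_one]
    exact ha
  cov_core := fun _ hH => C.cov_core_fact ht htA hH
  cov_V0 := fun _ hH => C.cov_V0_fact ht htA hH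
  cov_central := fun _ hH _ hh => C.cov_central_fact ht htA hθ hH hh
  cF := C.fitting_cent ht htA hθ hcase
  fstar := fun _ hRM hR _ hC _ hU => C.fstar_fact ht htA hRM hR hC hU

/-- **A moving bad involution is impossible when `A` does not centralise the core.** -/
theorem false_of_moved (hcase : ¬ oddIn M ≤ centralizer (A : Set G)) : False :=
  C.false_of_loc (C.loc ht htA hθ hcase)

end notnormal

end Ctx

end Cfsg.Agent.ThreePrime
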