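import Cfsg.Agent.Lib.ThreePrime.End.Sz
import Cfsg.Agent.Lib.ThreePrime.Local

/-!
# The lines: a proper subgroup over part of `A` which is not contained in `M`
-/

set_option autoImplicit false
set_option linter.style.haveILetI false
set_option linter.unusedSectionVars false

namespace Cfsg.Agent.ThreePrime

open Subgroup

universe u

variable {G : Type u} [Group G]

/-- The structure of `Y / O(Y)`: a Suzuki component `L` containing `B`, the rest inside `M`. -/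
structure Line (M Y B : Subgroup G) where
  L : Subgroup (↥Y ⧸ Cfsg.pPrimeCore 2 ↥Y)
  normal : L.Normal
  Φ : Frame L
  odd_le : oddIn Y ≤ M
  le : B ≤ Y
  root : ∀ (b : G) (hb : b ∈ B), ∃ h : bar Y ⟨b, le hb⟩ ∈ L, Φ.π ⟨_, h⟩ ∈ Suzuki.zGroup Φ.hS
  root_inj : ∀ (b : G) (hb : b ∈ B) (h : bar Y ⟨b, le hb⟩ ∈ L), Φ.π ⟨_, h⟩ = 1 → b = 1
  root_surj : ∀ z ∈ Suzuki.zGroup Φ.hS, ∃ (b : G) (hb : b ∈ B) (h : bar Y ⟨b, le hb⟩ ∈ L),
    Φ.π ⟨_, h⟩ = z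
  borel_lift : ∀ s ∈ Suzuki.borel Φ.F Φ.m, ∃ (n : G) (hn : n ∈ Y) (h : bar Y ⟨n, hn⟩ ∈ L),
    n ∈ normalizer (B : Set G) ∧ n ∈ M ∧ Φ.π ⟨_, h⟩ = s
  mem_M : ∀ (y : ↥Y) (h : bar Y y ∈ L), (y : G) ∈ M ↔ Φ.π ⟨_, h⟩ ∈ Suzuki.borel Φ.F Φ.m
  cover : ∀ y : ↥Y, ∃ l n : ↥Y, bar Y l ∈ L ∧ (n : G) ∈ M ∧ y = l * n

namespace Line

variable [Finite G] {M Y B : Subgroup G} (W : Line M Y B)

include W

theorem mem_normalizer (x : ↥Y ⧸ Cfsg.pPrimeCore 2 ↥Y) :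
    x ∈ normalizer (W.L : Set (↥Y ⧸ Cfsg.pPrimeCore 2 ↥Y)) :=
  haveI := W.normal
  (normalizer_eq_top (H := W.L)) ▸ mem_top x

/-- The automorphism of the Suzuki group induced by an element. -/
noncomputable def act : ↥Y →* MulAut (Cfsg.Sz W.Φ.F W.Φ.m) :=
  W.Φ.act.comp ((bar Y).codRestrict _ fun y => W.mem_normalizer (bar Y y))

theorem act_of_mem {y : ↥Y} (h : bar Y y ∈ W.L) : W.act y = MulAut.conj (W.Φ.π ⟨_, h⟩) :=
  W.Φ.act_of_mem h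

theorem act_eq_one_iff {y : ↥Y} :
    W.act y = 1 ↔ bar Y y ∈ centralizer (W.L : Set (↥Y ⧸ Cfsg.pPrimeCore 2 ↥Y)) :=
  ⟨fun h => W.Φ.mem_centralizer_of_act (W.mem_normalizer _) h, fun h => W.Φ.act_eq_one h⟩

theorem mem_M_of_bar_eq {x y : ↥Y} (h : bar Y x = bar Y y) (hy : (y : G) ∈ M) : (x : G) ∈ M := by
  have h1 : y⁻¹ * x ∈ Cfsg.pPrimeCore 2 ↥Y := by
    rw [← QuotientGroup.eq_one_iff]
    show bar Y (y⁻¹ * x) = 1
    rw [map_mul, map_inv, h, inv_mul_cancel]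
  have := mul_mem hy (W.odd_le ⟨_, h1, rfl⟩ : ((y⁻¹ * x : ↥Y) : G) ∈ M)
  simpa using this

/-- An element of `M` centralising the component fixes every point of the line. -/
theorem conj_mem {y : ↥Y} (hy : (y : G) ∈ M) (hact : W.act y = 1) (x : ↥Y) :
    (x : G)⁻¹ * y * x ∈ M := by
  obtain ⟨l, n, hl, hn, rfl⟩ := W.cover x
  have h1 : ((l⁻¹ * y * l : ↥Y) : G) ∈ M := by
    refine W.mem_M_of_bar_eq ?_ hy
    rw [map_mul, map_mul, map_inv, mul_assoc,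
      ← mem_centralizer_iff.1 (W.act_eq_one_iff.1 hact) _ hl, inv_mul_cancel_left]
  have := mul_mem (mul_mem (inv_mem hn) h1) hn
  simpa [mul_assoc] using this

/-- An element of square one fixing `B` modulo the core is induced by an element of `B`. -/
theorem exists_act_root {v : ↥Y} (hv : v * v = 1)
    (hc : ∀ (b : G) (hb : b ∈ B), Commute v (⟨b, W.le hb⟩ : ↥Y)) :
    ∃ (b : G) (hb : b ∈ B), W.act (v * ⟨b, W.le hb⟩) = 1 := by
  have hfix : ∀ z ∈ Suzuki.zGroup W.Φ.hS, W.act v z = z := by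
    intro z hz
    obtain ⟨b, hb, h, rfl⟩ := W.root_surj z hz
    refine sz_conj_injective W.Φ.hS ?_
    have h1 : W.act v * MulAut.conj (W.Φ.π ⟨_, h⟩) * (W.act v)⁻¹ =
        MulAut.conj (W.act v (W.Φ.π ⟨_, h⟩)) :=
      MulEquiv.ext fun y => by simp [MulAut.mul_apply, MulAut.conj_apply, map_mul, map_inv]
    rw [← h1, ← W.act_of_mem h, ← map_inv, ← map_mul, ← map_mul, (hc b hb).eq, mul_inv_cancel_right]
  obtain ⟨u, hu, he⟩ := exists_root_of_fix_zGroup W.Φ.hS _ hfix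
  have huu : u * u = 1 := sz_conj_injective W.Φ.hS (by
    rw [map_mul, ← he, ← map_mul, hv, map_one, map_one])
  obtain ⟨b, hb, h, hπ⟩ := W.root_surj u (Suzuki.involution_in_rootGroup W.Φ.hS hu huu)
  refine ⟨b, hb, ?_⟩
  rw [map_mul, he, W.act_of_mem h, hπ, ← map_mul, huu, map_one]

theorem card_eq : Nat.card B = 2 ^ (2 * W.Φ.m + 1) := by
  rw [← Suzuki.card_zGroup W.Φ.hS]
  refine Nat.card_eq_of_bijective
    (fun b : B => (⟨W.Φ.π ⟨_, (W.root b b.2).choose⟩, (W.root b b.2).choose_spec⟩ :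
      Suzuki.zGroup W.Φ.hS)) ⟨fun b c hbc => ?_, fun z => ?_⟩
  · have h1 : W.Φ.π ⟨_, (W.root b b.2).choose⟩ = W.Φ.π ⟨_, (W.root c c.2).choose⟩ :=
      congrArg Subtype.val hbc
    have h2 : (⟨(b : G) * (c : G)⁻¹, W.le (mul_mem b.2 (inv_mem c.2))⟩ : ↥Y) =
      ⟨b, W.le b.2⟩ * (⟨c, W.le c.2⟩ : ↥Y)⁻¹ := rfl
    have h3 : bar Y ⟨(b : G) * (c : G)⁻¹, W.le (mul_mem b.2 (inv_mem c.2))⟩ ∈ W.L := by
      rw [h2, map_mul, map_inv]
      exact mul_mem (W.root b b.2).choose (inv_mem (W.root c c.2).choose)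
    refine Subtype.ext (mul_inv_eq_one.1 (W.root_inj _ (mul_mem b.2 (inv_mem c.2)) h3 ?_))
    rw [show (⟨_, h3⟩ : W.L) = ⟨_, (W.root b b.2).choose⟩ * (⟨_, (W.root c c.2).choose⟩ : W.L)⁻¹ from
      Subtype.ext (by show bar Y _ = _; rw [h2, map_mul, map_inv]; rfl), map_mul, map_inv, h1,
      mul_inv_cancel]
  · obtain ⟨b, hb, h, hπ⟩ := W.root_surj z z.2
    exact ⟨⟨b, hb⟩, Subtype.ext hπ⟩

theorem borel_index : (Suzuki.borel W.Φ.F W.Φ.m).index = Nat.card B ^ 2 + 1 := by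
  rw [Suzuki.index_borel W.Φ.hS, W.card_eq]

/-- The torus is transitive on `B#`. -/
theorem exists_torus_conj {a b : G} (ha : a ∈ B) (ha1 : a ≠ 1) (hb : b ∈ B) (hb1 : b ≠ 1) :
    ∃ (n : G) (hn : n ∈ Y), bar Y ⟨n, hn⟩ ∈ W.L ∧ n ∈ normalizer (B : Set G) ∧ n ∈ M ∧
      n * a * n⁻¹ = b := by
  obtain ⟨hpa, za, hza⟩ := W.root a ha
  obtain ⟨hpb, zb, hzb⟩ := W.root b hb
  have hne : ∀ {x : G} (hx : x ∈ B) (h : bar Y ⟨x, W.le hx⟩ ∈ W.L) {c : W.Φ.F}, x ≠ 1 →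
      W.Φ.π ⟨_, h⟩ = Suzuki.T W.Φ.hS 0 c → c ≠ 0 := by
    intro x hx h c hx1 he h0
    exact hx1 (W.root_inj x hx h (by rw [he, h0, Suzuki.T_zero]))
  obtain ⟨k, hk⟩ := Suzuki.exists_H_conj W.Φ.hS (hne ha hpa ha1 hza) (hne hb hpb hb1 hzb)
  obtain ⟨n, hn, hnL, hnN, hnM, hπ⟩ := W.borel_lift _ (Suzuki.H_mem_borel W.Φ.hS k)
  refine ⟨n, hn, hnL, hnN, hnM, ?_⟩
  have hmem : n * a * n⁻¹ * b⁻¹ ∈ B :=
    mul_mem ((mem_normalizer_iff.1 hnN a).1 ha) (inv_mem hb)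
  have h2 : (⟨n * a * n⁻¹ * b⁻¹, W.le hmem⟩ : ↥Y) =
      ⟨n, hn⟩ * ⟨a, W.le ha⟩ * (⟨n, hn⟩ : ↥Y)⁻¹ * (⟨b, W.le hb⟩ : ↥Y)⁻¹ := rfl
  have h3 : bar Y ⟨n * a * n⁻¹ * b⁻¹, W.le hmem⟩ ∈ W.L := by
    rw [h2, map_mul, map_mul, map_mul, map_inv, map_inv]
    exact mul_mem (mul_mem (mul_mem hnL hpa) (inv_mem hnL)) (inv_mem hpb)
  refine mul_inv_eq_one.1 (W.root_inj _ hmem h3 ?_)
  rw [show (⟨_, h3⟩ : W.L) = ⟨_, hnL⟩ * ⟨_, hpa⟩ * (⟨_, hnL⟩ : W.L)⁻¹ * (⟨_, hpb⟩ : W.L)⁻¹ from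
    Subtype.ext (by show bar Y _ = _; rw [h2, map_mul, map_mul, map_mul, map_inv, map_inv]; rfl),
    map_mul, map_mul, map_mul, map_inv, map_inv, hπ, hza, hzb, hk, mul_inv_cancel]

end Line

variable [Finite G] {M Y B : Subgroup G}

/-- **The line of a subgroup not contained in `M`.** -/
theorem exists_line (hG : Min3 G) (hY : Y ≠ ⊤) (hB : ScIn Y B) (hodd : oddIn Y ≤ M)
    (hNB : Y ⊓ normalizer (B : Set G) ≤ M)
    (hCB : ∀ b ∈ B, b ≠ 1 → centralizer ({b} : Set G) ≤ M) (hne : B ≠ ⊥) (hYM : ¬ Y ≤ M) :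
    Nonempty (Line M Y B) := by
  classical
  haveI : Fact (Nat.Prime 2) := ⟨Nat.prime_two⟩
  obtain ⟨T, hBe, hsc⟩ := hB.exists_closed
  have hH := hG.framed hY
  set Bb := (B.subgroupOf Y).map (bar Y) with hBb
  set MY := (M.subgroupOf Y).map (bar Y) with hMY
  have hmemBb : ∀ {b : G} (hb : b ∈ B), bar Y ⟨b, hB.le hb⟩ ∈ Bb :=
    fun {b} hb => ⟨⟨b, hB.le hb⟩, hb, rfl⟩
  have hMYmem : ∀ {y : ↥Y}, bar Y y ∈ MY → (y : G) ∈ M := by
    rintro y ⟨m, hm, he⟩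
    have h1 : m⁻¹ * y ∈ Cfsg.pPrimeCore 2 ↥Y := by
      rw [← QuotientGroup.eq_one_iff]
      show bar Y (m⁻¹ * y) = 1
      rw [map_mul, map_inv, he, inv_mul_cancel]
    have := mul_mem (show (m : G) ∈ M from hm) (hodd ⟨_, h1, rfl⟩ : ((m⁻¹ * y : ↥Y) : G) ∈ M)
    simpa using this
  have hnorm : normalizer (Bb : Set (↥Y ⧸ Cfsg.pPrimeCore 2 ↥Y)) ≤ MY := by
    rw [hBb, ← Components.map_normalizer_eq (P := B.subgroupOf Y)
      (Cfsg.Agent.PBasic.pPrimeCore_coprime 2 ↥Y)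
      (hB.isPGroup.comap_of_injective Y.subtype Y.subtype_injective)]
    refine map_mono fun n hn => hNB ⟨n.2, mem_normalizer_fintype fun b hb => ?_⟩
    exact ((mem_normalizer_iff.1 hn ⟨b, hB.le hb⟩).1 hb :)
  -- a component with a nontrivial kernel lies in `M`
  have hker : ∀ L, Cfsg.IsComponent L → ¬ compIn Y L ≤ M → ∀ b ∈ kerIn Y B L, b = 1 := by
    intro L _ hLM b hb
    by_contra hb1
    refine hLM fun x hx => ?_
    obtain ⟨o, ho, c, hc, rfl⟩ := hB.compIn_le_mul (zpowers_le.2 hb) hx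
    refine mul_mem (hodd ho) (hCB b hb.2 hb1 (mem_centralizer_singleton_iff.2 ?_))
    exact (mem_centralizer_iff.1 hc b (mem_zpowers b)).symm
  obtain ⟨L, hL, hLM⟩ : ∃ L, Cfsg.IsComponent L ∧ ¬ compIn Y L ≤ M := by
    by_contra hcon
    push Not at hcon
    refine hYM fun y hy => ?_
    obtain ⟨e, he, n, hn, rfl⟩ := hB.exists_mul hG hY hy
    exact mul_mem (layerIn_le_of hodd hcon he) (hNB hn)
  obtain ⟨Φ₀⟩ := hH.frame L hL
  obtain ⟨Φ, hΦ⟩ := exists_aligned (T := T) hL.1 Φ₀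
  have hkb : ∀ {b : G} (hb : b ∈ B), bar Y ⟨b, hB.le hb⟩ ∈
      centralizer (L : Set (↥Y ⧸ Cfsg.pPrimeCore 2 ↥Y)) → b = 1 :=
    fun {b} hb h => hker L hL hLM b ((mem_kerIn hB.le).2 ⟨hb, h⟩)
  have hmove : ¬ Bb ≤ centralizer (L : Set (↥Y ⧸ Cfsg.pPrimeCore 2 ↥Y)) := fun h =>
    hne ((eq_bot_iff_forall B).2 fun b hb => hkb hb (h (hmemBb hb)))
  obtain ⟨t₀, Z, k₀, -, -, -, -, -, -, -, hZL, hZcard, -, -, -, hsplit, -⟩ :=
    exists_torus hH hBe hsc hL hΦ hmove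
  have hBL : ∀ {b : G} (hb : b ∈ B), bar Y ⟨b, hB.le hb⟩ ∈ L := by
    intro b hb
    obtain ⟨k, ⟨k', hk', rfl⟩, hkc, z, hz, he⟩ := hsplit _ (hmemBb hb)
    have h1 : (k' : G) = 1 := hkb hk' hkc
    rw [he, show k' = 1 from Subtype.ext h1, map_one, one_mul]
    exact hZL hz
  have hroot : ∀ {b : G} (hb : b ∈ B) (h : bar Y ⟨b, hB.le hb⟩ ∈ L),
      Φ.π ⟨_, h⟩ ∈ Suzuki.zGroup Φ.hS := by
    intro b hb h
    refine Suzuki.involution_in_rootGroup Φ.hS ((hΦ _ h).1 (hsc.1 (hmemBb hb))) ?_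
    rw [← map_mul, ← map_one Φ.π]
    refine congrArg Φ.π (Subtype.ext ?_)
    show bar Y ⟨b, hB.le hb⟩ * bar Y ⟨b, hB.le hb⟩ = 1
    rw [← pow_two]
    exact hBe.2 _ (hmemBb hb)
  have hinj : ∀ {b : G} (hb : b ∈ B) (h : bar Y ⟨b, hB.le hb⟩ ∈ L), Φ.π ⟨_, h⟩ = 1 → b = 1 :=
    fun {b} hb h he => hkb hb (mem_centralizer_iff.2 fun y hy => (Φ.center_le_comm h he hy).symm)
  have hsurj : ∀ z ∈ Suzuki.zGroup Φ.hS, ∃ (b : G) (hb : b ∈ B) (h : bar Y ⟨b, hB.le hb⟩ ∈ L),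
      Φ.π ⟨_, h⟩ = z := by
    intro z hz
    obtain ⟨b', ⟨b, hb, rfl⟩, he⟩ := exists_act_eq hH hBe hsc hL hΦ hmove hz
    refine ⟨(b : G), hb, hBL hb, sz_conj_injective Φ.hS ?_⟩
    exact (Φ.act_of_mem (hBL (b := (b : G)) hb)).symm.trans he
  -- the other components lie in `M`
  have hothers : ∀ K, Cfsg.IsComponent K → K ≠ L → compIn Y K ≤ M := by
    intro K hK hKL
    by_contra hKM
    obtain ⟨b, hb, hb1⟩ : ∃ b ∈ B, b ≠ 1 := by
      by_contra hno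
      push Not at hno
      exact hne ((eq_bot_iff_forall B).2 hno)
    exact hb1 (hker K hK hKM b ((mem_kerIn hB.le).2 ⟨hb,
      commutator_eq_bot_iff_le_centralizer.1 (Components.components_commute hL hK hKL.symm)
        (hBL hb)⟩))
  haveI hLn : L.Normal := ⟨fun x hx y => by
    obtain ⟨e, he, n, hn, rfl⟩ := exists_layer_mul hH hBe hsc y
    suffices hnL : n * x * n⁻¹ ∈ L by
      rw [show e * n * x * (e * n)⁻¹ = e * (n * x * n⁻¹) * e⁻¹ by group]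
      exact (mem_normalizer_iff.1 (Components.layer_le_normalizer_component hL he) _).1 hnL
    by_cases hK : L.map (MulAut.conj n).toMonoidHom = L
    · exact hK.le ⟨x, hx, rfl⟩
    exfalso
    have hK' := hothers _ (Components.component_conj hL n) hK
    refine hLM ?_
    rintro _ ⟨z, hz, rfl⟩
    obtain ⟨m, hm, hme⟩ := hnorm hn
    have h1 : ((m * z * m⁻¹ : ↥Y) : G) ∈ M := hK' ⟨_, ⟨bar Y z, hz, by
      show n * bar Y z * n⁻¹ = bar Y (m * z * m⁻¹)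
      rw [map_mul, map_mul, map_inv, hme]⟩, rfl⟩
    have h2 := mul_mem (mul_mem (inv_mem (show (m : G) ∈ M from hm)) h1) (show (m : G) ∈ M from hm)
    show (z : G) ∈ M
    simpa [mul_assoc] using h2⟩
  -- the point stabiliser
  have hborel : ∀ s ∈ Suzuki.borel Φ.F Φ.m, ∃ (n : G) (hn : n ∈ Y) (h : bar Y ⟨n, hn⟩ ∈ L),
      n ∈ normalizer (B : Set G) ∧ n ∈ M ∧ Φ.π ⟨_, h⟩ = s := by
    intro s hs
    obtain ⟨⟨x, hx⟩, rfl⟩ := Φ.surj s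
    have hxN := mem_normalizer_of_borel hH hBe hsc hL hΦ hx hs
    rw [hBb, ← Components.map_normalizer_eq (P := B.subgroupOf Y)
      (Cfsg.Agent.PBasic.pPrimeCore_coprime 2 ↥Y)
      (hB.isPGroup.comap_of_injective Y.subtype Y.subtype_injective)] at hxN
    obtain ⟨n, hn, rfl⟩ := hxN
    have hnB : (n : G) ∈ normalizer (B : Set G) := mem_normalizer_fintype fun b hb =>
      ((mem_normalizer_iff.1 hn ⟨b, hB.le hb⟩).1 hb :)
    exact ⟨n, n.2, hx, hnB, hNB ⟨n.2, hnB⟩, rfl⟩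
  set D := (MY.subgroupOf L).map Φ.π with hD
  have hBD : Suzuki.borel Φ.F Φ.m ≤ D := by
    intro s hs
    obtain ⟨n, hn, h, -, hnM, hπ⟩ := hborel s hs
    exact ⟨⟨_, h⟩, ⟨⟨n, hn⟩, hnM, rfl⟩, hπ⟩
  have hDne : D ≠ ⊤ := by
    intro hD'
    refine hLM ?_
    rintro _ ⟨y, hy, rfl⟩
    obtain ⟨d, hd, hde⟩ : Φ.π ⟨_, hy⟩ ∈ D := hD' ▸ mem_top _
    -- the difference is central, hence lies over the Borel subgroup
    have hc : Φ.π (d⁻¹ * ⟨_, hy⟩) ∈ Suzuki.borel Φ.F Φ.m := by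
      rw [map_mul, map_inv, hde, inv_mul_cancel]; exact one_mem _
    have h1 : (d⁻¹ * ⟨bar Y y, hy⟩ : L).1 ∈ MY :=
      hnorm (mem_normalizer_of_borel hH hBe hsc hL hΦ (d⁻¹ * ⟨bar Y y, hy⟩ : L).2 hc)
    refine hMYmem ?_
    have := mul_mem (show (d : ↥Y ⧸ Cfsg.pPrimeCore 2 ↥Y) ∈ MY from hd) h1
    simpa using this
  have hDle : D ≤ Suzuki.borel Φ.F Φ.m :=
    Suzuki.le_borel_of_ne_top Φ.hS ((Suzuki.rootGroup_le_borel Φ.hS).trans hBD) hDne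
  have hcov : ∀ y : ↥Y, ∃ l n : ↥Y, bar Y l ∈ L ∧ (n : G) ∈ M ∧ y = l * n := by
    intro y
    have h1 : bar Y y ∈ L ⊔ MY := by
      obtain ⟨e, he, n, hn, hen⟩ := exists_layer_mul hH hBe hsc (bar Y y)
      rw [hen]
      refine mul_mem ((Components.layer_le_iff.2 fun K hK => ?_) he) (mem_sup_right (hnorm hn))
      by_cases hKL : K = L
      · subst hKL; exact le_sup_left
      refine le_sup_of_le_right fun x hx => ?_
      obtain ⟨z, rfl⟩ := QuotientGroup.mk'_surjective _ x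
      exact ⟨z, hothers K hK hKL ⟨z, hx, rfl⟩, rfl⟩
    rw [← SetLike.mem_coe, Subgroup.normal_mul] at h1
    obtain ⟨l', hl', n', ⟨n, hn, rfl⟩, hln⟩ := h1
    refine ⟨y * n⁻¹, n, ?_, hn, (inv_mul_cancel_right _ _).symm⟩
    rwa [map_mul, map_inv, ← hln, mul_inv_cancel_right]
  refine ⟨{
    L := L
    normal := hLn
    Φ := Φ
    odd_le := hodd
    le := hB.le
    root := fun b hb => ⟨hBL hb, hroot hb _⟩
    root_inj := fun b hb h => hinj hb h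
    root_surj := hsurj
    borel_lift := hborel
    mem_M := fun y h => ⟨fun hy => hDle ⟨⟨_, h⟩, ⟨y, hy, rfl⟩, rfl⟩, fun hs => ?_⟩
    cover := hcov }⟩
  exact hMYmem (hnorm (mem_normalizer_of_borel hH hBe hsc hL hΦ h hs))

end Cfsg.Agent.ThreePrime
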