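import Cfsg.Agent.Lib.ThreePrime.End.Basic
import Cfsg.Agent.Lib.ThreePrime.Frame
import Cfsg.Agent.Lib.Suzuki.TorType
import Cfsg.Agent.Lib.Suzuki.SubgroupMax
import Cfsg.Agent.Lib.Suzuki.Structure

/-!
# The facts on Suzuki groups used by the end lemma
-/

set_option autoImplicit false
set_option linter.style.haveILetI false
set_option linter.unusedSectionVars false

namespace Cfsg.Agent.ThreePrime

open Subgroup

universe v

variable {F : Type v} [Field F] [Fintype F] {m : ℕ} (h : Suzuki.SzField F m)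

include h

theorem zGroup_sq {z : Cfsg.Sz F m} (hz : z ∈ Suzuki.zGroup h) : z * z = 1 := by
  obtain ⟨b, rfl⟩ := hz
  rw [Suzuki.T_sq, mul_zero, Suzuki.T_zero]

theorem zGroup_ea : Cfsg.IsElementaryAbelian 2 (Suzuki.zGroup h) :=
  ⟨⟨⟨fun a b => Subtype.ext (zGroup_central h b.2 (Suzuki.zGroup_le h a.2))⟩⟩,
    fun z hz => by rw [pow_two]; exact zGroup_sq h hz⟩

theorem four_le_card_zGroup : 4 ≤ Nat.card (Suzuki.zGroup h) := by
  rw [Suzuki.card_zGroup]
  exact le_trans (le_of_eq (by norm_num : 4 = 2 ^ 2)) (Nat.pow_le_pow_right (by norm_num)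
    (by have := h.one_le; omega))

/-- An elementary abelian `2`-subgroup has at most `q` elements. -/
theorem card_le_of_ea {V : Subgroup (Cfsg.Sz F m)} (hV : ∀ x ∈ V, x * x = 1) :
    Nat.card V ≤ 2 ^ (2 * m + 1) := by
  haveI : Fact (Nat.Prime 2) := ⟨Nat.prime_two⟩
  obtain ⟨g, hg⟩ := Suzuki.exists_conj_isPGroup_le h (Q := V) fun x => ⟨1, Subtype.ext (by
    rw [pow_one, pow_two]; exact hV x x.2)⟩
  have hle : V.map (MulAut.conj g).toMonoidHom ≤ Suzuki.zGroup h := by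
    rintro _ ⟨x, hx, rfl⟩
    refine Suzuki.involution_in_rootGroup h (hg x hx) ?_
    rw [← map_mul, hV x hx, map_one]
  calc Nat.card V = Nat.card (V.map (MulAut.conj g).toMonoidHom) :=
        (card_map_of_injective (MulAut.conj g).injective).symm
    _ ≤ Nat.card (Suzuki.zGroup h) := Nat.le_of_dvd Nat.card_pos (card_dvd_of_le hle)
    _ = _ := Suzuki.card_zGroup h

/-- An involution of the centre of a root group determines its point. -/
theorem mem_borel_of_conj {g z : Cfsg.Sz F m} (hz : z ∈ Suzuki.zGroup h) (hz1 : z ≠ 1)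
    (hg : g * z * g⁻¹ ∈ Suzuki.rootGroup h) : g ∈ Suzuki.borel F m :=
  Suzuki.fix_pinf_of_conj_mem h (Suzuki.zGroup_le h hz) hz1 hg

/-- Two distinct centres of root groups generate. -/
theorem zGroup_gen {g : Cfsg.Sz F m} (hg : g ∉ Suzuki.borel F m) :
    Suzuki.zGroup h ⊔ (Suzuki.zGroup h).map (MulAut.conj g).toMonoidHom = ⊤ := by
  classical
  set K := Suzuki.zGroup h ⊔ (Suzuki.zGroup h).map (MulAut.conj g).toMonoidHom with hK
  have hT1 : Suzuki.T h (0 : F) 1 ≠ 1 := fun e => one_ne_zero ((Suzuki.eq_one_iff_T h).mp e).2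
  have hzK : Suzuki.zGroup h ≤ K := le_sup_left
  have hq : 8 ≤ 2 ^ (2 * m + 1) := h.card ▸ h.eight_le_card
  by_cases hs : Group.IsSolvable K
  · exfalso
    have hne : K ≠ ⊥ := fun e => hT1 (mem_bot.1 (e ▸ hzK ⟨1, rfl⟩))
    rcases Suzuki.solvable_le h hs hne with ⟨p, hp, hfix⟩ | ⟨C, e, hC, -, hle⟩
    · have h1 := Suzuki.T_fix_eq h hT1 hp (hfix _ (hzK ⟨1, rfl⟩))
      have h2 := hfix _ (le_sup_right (a := Suzuki.zGroup h) ⟨_, ⟨(1 : F), rfl⟩, rfl⟩)
      rw [h1] at h2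
      have h3 : g * Suzuki.T h 0 1 * g⁻¹ ∈ Suzuki.borel F m := h2
      refine hg (mem_borel_of_conj h ⟨1, rfl⟩ hT1 (Suzuki.zGroup_le h (involution_borel h ?_ h3)))
      rw [show g * Suzuki.T h 0 1 * g⁻¹ * (g * Suzuki.T h 0 1 * g⁻¹) =
        g * (Suzuki.T h 0 1 * Suzuki.T h 0 1) * g⁻¹ by group, zGroup_sq h ⟨1, rfl⟩]
      group
    · have hinf : C ⊓ Suzuki.zGroup h = ⊥ := eq_bot_iff.2 fun x hx =>
        mem_bot.2 (hC.not_orderOf_two h hx.1 (n := 1) (by rw [pow_one, pow_two]; exact zGroup_sq h hx.2))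
      have h1 := card_dvd_of_le ((hzK.trans hle) :
        Suzuki.zGroup h ≤ normalizer (C : Set (Cfsg.Sz F m)))
      rw [hC.card_normalizer, Suzuki.card_zGroup] at h1
      have hcop : Nat.Coprime (2 ^ (2 * m + 1)) (Nat.card C) :=
        Nat.Coprime.pow_left _ (Nat.prime_two.coprime_iff_not_dvd.2 hC.odd)
      have h2 := Nat.le_of_dvd (by rcases hC.he with rfl | rfl <;> norm_num) (hcop.dvd_of_dvd_mul_right h1)
      rcases hC.he with rfl | rfl <;> omega
  · by_contra hne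
    obtain ⟨L, _, _, k, hk, hkm, hL, -, U, ⟨e⟩, hle⟩ := Suzuki.exists_subfield_subgroup h K hne hs
    have hU : Suzuki.SzField L k := ⟨hk, hL⟩
    have h1 := card_le_of_ea hU (V := ((Suzuki.zGroup h).subgroupOf U).map e.toMonoidHom) (by
      rintro _ ⟨x, hx, rfl⟩
      rw [← map_mul, show x * x = 1 from Subtype.ext (zGroup_sq h hx), map_one])
    rw [card_map_of_injective e.injective,
      Nat.card_congr (subgroupOfEquivOfLe (hzK.trans hle)).toEquiv, Suzuki.card_zGroup] at h1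
    have := Nat.pow_lt_pow_right (show 1 < 2 by norm_num) (show 2 * k + 1 < 2 * m + 1 by omega)
    omega

/-- The root group is transitive on the other points. -/
theorem exists_root_smul {g g' : Cfsg.Sz F m} (hg : g ∉ Suzuki.borel F m) (hg' : g' ∉ Suzuki.borel F m) :
    ∃ r ∈ Suzuki.rootGroup h, (r * g)⁻¹ * g' ∈ Suzuki.borel F m := by
  obtain ⟨x, y, a, b, k, rfl⟩ := Suzuki.bruhat h hg
  obtain ⟨x', y', a', b', k', rfl⟩ := Suzuki.bruhat h hg'
  refine ⟨Suzuki.T h x' y' * (Suzuki.T h x y)⁻¹, mul_mem ⟨_, _, rfl⟩ (inv_mem ⟨_, _, rfl⟩), ?_⟩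
  have hb : ∀ a b (k : Fˣ), Suzuki.T h a b * Suzuki.H h k ∈ Suzuki.borel F m := fun a b k =>
    mul_mem (Suzuki.T_mem_borel h a b) (Suzuki.H_mem_borel h k)
  convert mul_mem (inv_mem (hb a b k)) (hb a' b' k') using 1
  group

/-- A subgroup of odd order normalised by the centre of a root group is trivial. -/
theorem odd_eq_bot_of_zGroup {R : Subgroup (Cfsg.Sz F m)} (hR : Odd (Nat.card R))
    (hn : Suzuki.zGroup h ≤ normalizer (R : Set (Cfsg.Sz F m))) : R = ⊥ := by
  refine eq_bot_iff.2 (odd_le_of_centralizers (zGroup_ea h) (four_le_card_zGroup h) hn hR ?_)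
  intro a ha ha1 x hx
  exact mem_bot.2 (two_group_inf_odd (Suzuki.isPGroup_rootGroup h) hR
    (Suzuki.centralizer_le h (Suzuki.zGroup_le h ha) ha1 hx.2) hx.1)

/-- The number of points. -/
theorem borel_index : (Suzuki.borel F m).index = (Nat.card (Suzuki.zGroup h)) ^ 2 + 1 := by
  rw [Suzuki.index_borel h, Suzuki.card_zGroup]

end Cfsg.Agent.ThreePrime
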